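import Cfsg.Agent.OddHalf.D7Ex.Lin
import Cfsg.Agent.OddHalf.D7Ex.KTwo
import Cfsg.Agent.OddHalf.D7Ex.OutBase
import Cfsg.Agent.OddHalf.SL.OfAut

-- merged: Cfsg.Agent.OddHalf.D7Ex.DLast
section

/-!
# `D_n(2)`, `n ≥ 5`: the doubled root groups centralise the isolated orthogonal root groups

`r = e₁ + e₂`, `b = e₁ - e₂` the root orthogonal to `r` and to all roots `≠ ± b` orthogonal to `r`. If the root element `z b`
inverts an element of `V r` modulo ... (`E`: `z b * w * z b = w * z r` for `w ∈ V r \ X r`) there is a contradiction.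

* `DH` : the doubled root groups `V r` (`|V r| = 4`), centralised by the `X a`, `a` good for `r`; `Pr r b`: the pairs;
* `stepA`, `stepA'` : `z δ * w * z δ = w * w' * κ * z q`, `κ ∈ {1, t * z r}`; `commB` : `[V s, V γ] = 1`; **`false_of`**.
-/

set_option autoImplicit false
set_option linter.unusedSectionVars false
set_option linter.unusedVariables false
set_option linter.unusedSimpArgs false

namespace Cfsg.Agent.OddHalf.D7Ex.DLast

open Cfsg.Agent.OddHalf.SL.Defs

/-! ### Involutions -/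

section Inv

variable {G : Type*} [Group G]

theorem cm {y : G} (hy : y * y = 1) (a b : G) : y * (a * b) * y = (y * a * y) * (y * b * y) := by
  have : (y * a * y) * (y * b * y) = y * a * (y * y) * b * y := by group
  rw [this, hy]; group

theorem lc {a b : G} (h : a * b = b * a) (c : G) : a * (b * c) = b * (a * c) := by
  rw [← mul_assoc, h, mul_assoc]

theorem ic {a : G} (h : a * a = 1) (c : G) : a * (a * c) = c := by rw [← mul_assoc, h, one_mul]

theorem cc {y a : G} (hy : y * y = 1) (h : y * a = a * y) : y * a * y = a := by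
  rw [h, mul_assoc, hy, mul_one]

theorem cm3 {y : G} (hy : y * y = 1) (a b c : G) : y * (a * b * c) * y = (y * a * y) * (y * b * y) * (y * c * y) := by
  rw [cm hy, cm hy]

theorem cm4 {y : G} (hy : y * y = 1) (a b c d : G) :
    y * (a * b * c * d) * y = (y * a * y) * (y * b * y) * (y * c * y) * (y * d * y) := by
  rw [cm hy, cm3 hy]

theorem cj_comm {y a w : G} (hy : y * y = 1) (h : y * a * y * w = w * (y * a * y)) :
    a * (y * w * y) = y * w * y * a := by
  calc a * (y * w * y) = (y * y) * a * (y * w * y) := by rw [hy, one_mul]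
    _ = y * (y * a * y * w) * y := by group
    _ = y * (w * (y * a * y)) * y := by rw [h]
    _ = y * w * y * a * (y * y) := by group
    _ = y * w * y * a := by rw [hy, mul_one]

theorem gen {y w w' u v x1 x2 x3 x4 : G} (hy : y * y = 1) (h1 : y * w * y = w * x1) (h2 : y * w' * y = w' * x2)
    (h3 : y * u * y = u * x3) (h4 : y * v * y = v * x4) (c2w : x2 * w = w * x2) (c2u : x2 * u = u * x2)
    (c2v : x2 * v = v * x2) (c1u : x1 * u = u * x1) (c1v : x1 * v = v * x1) (c3v : x3 * v = v * x3)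
    (hx : x2 * x1 * x3 * x4 = 1) : y * (w' * w * u * v) = w' * w * u * v * y := by
  have h5 : y * (w' * w * u * v) * y = w' * w * u * v := by
    rw [cm4 hy, h1, h2, h3, h4]
    calc w' * x2 * (w * x1) * (u * x3) * (v * x4) = w' * (x2 * w) * (x1 * u) * (x3 * v) * x4 := by group
      _ = w' * (w * x2) * (u * x1) * (v * x3) * x4 := by rw [c2w, c1u, c3v]
      _ = w' * w * (x2 * u) * (x1 * v) * x3 * x4 := by group
      _ = w' * w * (u * x2) * (v * x1) * x3 * x4 := by rw [c2u, c1v]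
      _ = w' * w * u * (x2 * v) * x1 * x3 * x4 := by group
      _ = w' * w * u * v * (x2 * x1 * x3 * x4) := by rw [c2v]; group
      _ = w' * w * u * v := by rw [hx, mul_one]
  calc y * (w' * w * u * v) = y * (w' * w * u * v) * (y * y) := by rw [hy, mul_one]
    _ = (y * (w' * w * u * v) * y) * y := by group
    _ = w' * w * u * v * y := by rw [h5]

end Inv

variable {L : Type*} [AddCommGroup L] {G : Type*} [Group G]

/-- `a` is good for `r`. -/
def Gd (B : L → L → ℤ) (Φ : Set L) (a r : L) : Prop := 1 ≤ B a r ∨ (B a r = 0 ∧ ∃ d ∈ Φ, B d r = 0 ∧ B a d = 1)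

/-- The doubled root groups. -/
structure DH (t : G) (B : L → L → ℤ) (Φ : Set L) (X V : L → Subgroup G) (z : L → G) : Prop where
  rg : RG B Φ X
  tt : t * t = 1
  zX : ∀ r ∈ Φ, z r ∈ X r
  z1 : ∀ r ∈ Φ, z r ≠ 1
  Xz : ∀ r ∈ Φ, ∀ x ∈ X r, x = 1 ∨ x = z r
  dis : ∀ r ∈ Φ, ∀ s ∈ Φ, B r s = 1 → z r ≠ z s
  tz : ∀ r ∈ Φ, t * z r = z r * t
  XV : ∀ r ∈ Φ, X r ≤ V r
  Vsq : ∀ r ∈ Φ, ∀ w ∈ V r, w * w = 1
  brk : ∀ r ∈ Φ, ∀ w ∈ V r, w ∉ X r → t * w * t = w * z r
  ex : ∀ r ∈ Φ, ∃ w ∈ V r, w ∉ X r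
  WX : ∀ r ∈ Φ, ∀ a ∈ Φ, Gd B Φ a r → ∀ w ∈ V r, z a * w = w * z a
  K2 : ∀ r ∈ Φ, ∀ s ∈ Φ, B r s = 1 → ∀ c, c * t = t * c → (∀ a ∈ Φ, 0 ≤ B a r → 0 ≤ B a s → c * z a = z a * c) →
    ∃ x ∈ X r, ∃ y ∈ X s, c = x * y ∨ c = t * (x * y)

/-- An isolated pair with a non-trivial action. -/
structure Pr (B : L → L → ℤ) (Φ : Set L) (X V : L → Subgroup G) (z : L → G) (r b : L) : Prop where
  hr : r ∈ Φ
  hb : b ∈ Φ
  br : B b r = 0
  iso : ∀ d ∈ Φ, B d r = 0 → B d b ≠ 1
  gd : ∀ a ∈ Φ, B a r = 0 → a = b ∨ a = -b ∨ ∃ d ∈ Φ, B d r = 0 ∧ B a d = 1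
  E : ∀ w ∈ V r, w ∉ X r → z b * w * z b = w * z r

variable {t : G} {B : L → L → ℤ} {Φ : Set L} {X V : L → Subgroup G} {z : L → G}

namespace DH

variable (H : DH t B Φ X V z)

include H

theorem zz {a : L} (ha : a ∈ Φ) : z a * z a = 1 := H.rg.X2 a ha _ (H.zX a ha)

theorem zi {a : L} (ha : a ∈ Φ) : (z a)⁻¹ = z a := inv_eq_of_mul_eq_one_left (H.zz ha)

theorem zpos {a b : L} (ha : a ∈ Φ) (hb : b ∈ Φ) (hab : 0 ≤ B a b) : z a * z b = z b * z a :=
  H.rg.pos a ha b hb hab _ (H.zX a ha) _ (H.zX b hb)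

/-- `z a * z b * z a = z b * z c` for `(a, b) = -1`, `c = a + b` -/
theorem zneg {a b c : L} (ha : a ∈ Φ) (hb : b ∈ Φ) (hab : B a b = -1) (hc : c = a + b) :
    z a * z b * z a = z b * z c := by
  subst hc
  have hR := H.rg.roots
  have hab' := hR.add a ha b hb hab
  have h1 := H.rg.neg a ha b hb hab _ (H.zX a ha) _ (H.zX b hb)
  rw [H.zi ha, H.zi hb] at h1
  have h2 : z a * z b * z a * z b = z (a + b) := by
    refine (H.Xz _ hab' _ h1).resolve_left fun h3 => ?_
    have h4 : z a * z b = z b * z a := by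
      have h5 : z a * z b * (z a * z b) = 1 := by rw [← h3]; group
      have h6 := eq_inv_of_mul_eq_one_left h5
      rwa [mul_inv_rev, H.zi ha, H.zi hb] at h6
    rcases H.rg.inj a ha b hb hab _ (H.zX a ha) _ (H.zX b hb) h4 with h5 | h5
    · exact H.z1 a ha h5
    · exact H.z1 b hb h5
  have hc1 : z (a + b) * z b = z b * z (a + b) :=
    H.zpos hab' hb (by rw [hR.add_left, hab, hR.two b hb]; norm_num)
  rw [← hc1, ← h2, mul_assoc _ (z b) (z b), H.zz hb, mul_one]

/-- the elements `w` of `V r` outside `X r` -/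
theorem tw {r : L} (hr : r ∈ Φ) {w : G} (hw : w ∈ V r) (hwX : w ∉ X r) : w * t * w = t * z r := by
  have h1 := H.brk r hr w hw hwX
  have h2 := H.Vsq r hr w hw
  have h3 : z r * w = w * z r := H.WX r hr r hr (Or.inl (by rw [H.rg.roots.two r hr]; norm_num)) w hw
  calc w * t * w = t * (t * w * t) * w := by
        have : t * (t * w * t) * w = (t * t) * w * t * w := by group
        rw [this, H.tt, one_mul]
    _ = t * (w * z r) * w := by rw [h1]
    _ = t * w * (z r * w) := by group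
    _ = t * (w * w) * z r := by rw [h3]; group
    _ = t * z r := by rw [h2, mul_one]

/-- the other root of the isolated pair moved by `s - r` -/
theorem stepA {r b s : L} (P : Pr B Φ X V z r b) (hs : s ∈ Φ) (hsr : B s r = 1) (hsb : B s b = 1)
    (P' : Pr B Φ X V z s (b + r - s)) {w w' : G} (hw : w ∈ V r) (hwX : w ∉ X r) (hw' : w' ∈ V s) (hwX' : w' ∉ X s) :
    ∃ τ p p', (τ = 1 ∨ τ = t) ∧ p ∈ X r ∧ p' ∈ X s ∧
      z (s - r) * w * z (s - r) = w * w' * (τ * p * p' * z (s - b)) := by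
  have hR := H.rg.roots
  have hr := P.hr
  have hb := P.hb
  have hb' := P'.hb
  have hrs : B r s = 1 := by rw [hR.symm]; exact hsr
  have hbs : B b s = 1 := by rw [hR.symm]; exact hsb
  have hbr := P.br
  have hrb : B r b = 0 := by rw [hR.symm]; exact hbr
  have rr := hR.two r hr
  have bb := hR.two b hb
  have ss := hR.two s hs
  have hδ : s - r ∈ Φ := hR.sub_mem hs hr hsr
  have hq : s - b ∈ Φ := hR.sub_mem hs hb hsb
  have Vr := H.Vsq r hr w hw
  have Vs := H.Vsq s hs w' hw'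
  have yδ := H.zz hδ
  set δ := s - r with hδdef
  set q := s - b with hqdef
  set b' := b + r - s with hb'def
  have v1 : ∀ a, B a δ = B a s - B a r := fun a => hR.sub_right a s r
  have v2 : ∀ a, B a q = B a s - B a b := fun a => hR.sub_right a s b
  have v3 : ∀ a, B a b' = B a b + B a r - B a s := fun a => by rw [hb'def, hR.sub_right, hR.add_right]
  have v1' : ∀ a, B δ a = B s a - B r a := fun a => hR.sub_left s r a
  have v2' : ∀ a, B q a = B s a - B b a := fun a => hR.sub_left s b a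
  have v3' : ∀ a, B b' a = B b a + B r a - B s a := fun a => by rw [hb'def, hR.sub_left, hR.add_left]
  -- images
  have wr : z r * w = w * z r := H.WX r hr r hr (Or.inl (by rw [rr]; norm_num)) w hw
  have wr' : z r * w' = w' * z r := H.WX s hs r hr (Or.inl (by rw [hrs])) w' hw'
  have ws : z s * w = w * z s := H.WX r hr s hs (Or.inl (by rw [hsr])) w hw
  have ws' : z s * w' = w' * z s := H.WX s hs s hs (Or.inl (by rw [ss]; norm_num)) w' hw'
  have rsc : z r * z s = z s * z r := H.zpos hr hs (by rw [hrs]; norm_num)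
  have δr : z δ * z r * z δ = z r * z s := H.zneg hδ hr (by rw [v1', hsr, rr]; norm_num) (by rw [hδdef]; abel)
  have δs : z δ * z s = z s * z δ := H.zpos hδ hs (by rw [v1', ss, hrs]; norm_num)
  set u := z δ * w * z δ with hu
  have ur : z r * u = u * z r := cj_comm yδ (by
    rw [δr, mul_assoc, ws, ← mul_assoc, wr, mul_assoc])
  have us : z s * u = u * z s := cj_comm yδ (by rw [cc yδ δs, ws])
  have qr : z r * z q = z q * z r := H.zpos hr hq (by rw [v2, hrs, hrb]; norm_num)
  have qs : z s * z q = z q * z s := H.zpos hs hq (by rw [v2, ss, hsb]; norm_num)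
  have ux : z r * z s * u = u * (z r * z s) := by rw [mul_assoc, us, ← mul_assoc, ur, mul_assoc]
  have qx : z r * z s * z q = z q * (z r * z s) := by rw [mul_assoc, qs, ← mul_assoc, qr, mul_assoc]
  have s2 := H.zz hs
  have r2 := H.zz hr
  have uw : z δ * (w * z r) * z δ = u * (z r * z s) := by rw [cm yδ, δr]
  -- the element
  have ct : t * (w' * w * u * z q) = w' * w * u * z q * t := by
    refine gen H.tt (H.brk r hr w hw hwX) (H.brk s hs w' hw' hwX') (x3 := z r * z s) (x4 := 1) ?_ ?_ ws us qs ur qr qx ?_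
    · have h1 := H.brk r hr w hw hwX
      have h2 : t * z δ * t = z δ := cc H.tt (H.tz δ hδ)
      rw [hu, cm3 H.tt, h1, h2]; exact uw
    · rw [mul_one]; exact cc H.tt (H.tz q hq)
    · rw [mul_one]
      calc z s * z r * (z r * z s) = z s * (z r * z r) * z s := by group
        _ = 1 := by rw [r2, mul_one, s2]
  have key : ∀ a ∈ Φ, 0 ≤ B a r → 0 ≤ B a s → w' * w * u * z q * z a = z a * (w' * w * u * z q) := by
    intro a ha har has
    have ya := H.zz ha
    by_cases hab : a = b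
    · subst hab
      refine (gen ya (P.E w hw hwX) (x2 := 1) (x3 := z r * z s) (x4 := z s) ?_ ?_ ?_ (by rw [one_mul, mul_one])
        (by rw [one_mul, mul_one]) (by rw [one_mul, mul_one]) ur qr qx ?_).symm
      · rw [mul_one]
        exact cc ya (H.WX s hs a ha (Or.inl (by rw [hbs])) w' hw')
      · have h2 : z a * z δ * z a = z δ := cc ya (H.zpos ha hδ (by rw [v1, hbs, hbr]; norm_num))
        rw [hu, cm3 ya, P.E w hw hwX, h2]; exact uw
      · exact H.zneg ha hq (by rw [v2, hbs, bb]; norm_num) (by rw [hqdef]; abel)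
      · rw [one_mul]
        calc z r * (z r * z s) * z s = z r * z r * (z s * z s) := by group
          _ = 1 := by rw [r2, one_mul, s2]
    by_cases hab' : a = b'
    · have hbb' : B b' b = 1 := by rw [v3', bb, hrb, hsb]; norm_num
      rw [hab']
      have yb' := H.zz hb'
      have e1 : z b' * z δ * z b' = z δ * z b := H.zneg hb' hδ (by rw [v1, v3', v3', hbs, hrs, ss, hbr, rr, hsr]; norm_num)
        (by rw [hb'def, hδdef]; abel)
      have e2 : z b * z δ = z δ * z b := H.zpos hb hδ (by rw [v1, hbs, hbr]; norm_num)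
      have e3 : z b' * w * z b' = w * 1 := by
        rw [mul_one]
        exact cc yb' (H.WX r hr b' hb' (Or.inl (by rw [v3', hbr, rr, hsr]; norm_num)) w hw)
      refine (gen yb' e3 (P'.E w' hw' hwX') (x3 := z r * z s) (x4 := z r) ?_ ?_ ws us qs (by rw [one_mul, mul_one])
        (by rw [one_mul, mul_one]) qx ?_).symm
      · rw [hu, cm3 yb', e3, mul_one, e1]
        calc z δ * z b * w * (z δ * z b) = z δ * (z b * w * (z δ * z b)) := by group
          _ = z δ * (z b * w * z b) * z δ := by rw [← e2]; group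
          _ = u * (z r * z s) := by rw [P.E w hw hwX]; exact uw
      · exact H.zneg hb' hq (by rw [v2, hbb', v3', hbs, hrs, ss]; norm_num) (by rw [hb'def, hqdef]; abel)
      · rw [mul_one]
        calc z s * (z r * z s) * z r = z s * (z r * z s * z r) := by group
          _ = z s * (z s * z r * z r) := by rw [rsc]
          _ = (z s * z s) * (z r * z r) := by group
          _ = 1 := by rw [r2, mul_one, s2]
    -- the other roots
    have l1 := hR.le a ha r hr
    have l2 := hR.le a ha s hs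
    have l3 := hR.le a ha b hb
    have l4 := hR.ge ha hb
    have nb : a ≠ -b := by
      rintro rfl
      rw [hR.neg_left, hbs] at has; omega
    have nb' : a ≠ -b' := by
      rintro rfl
      rw [hR.neg_left, v3', hbr, rr, hsr] at har; omega
    have gr : z a * w = w * z a := by
      refine H.WX r hr a ha ?_ w hw
      rcases (show 1 ≤ B a r ∨ B a r = 0 by omega) with h1 | h1
      · exact Or.inl h1
      · rcases P.gd a ha h1 with h2 | h2 | h2
        · exact absurd h2 hab
        · exact absurd h2 nb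
        · exact Or.inr ⟨h1, h2⟩
    have gs : z a * w' = w' * z a := by
      refine H.WX s hs a ha ?_ w' hw'
      rcases (show 1 ≤ B a s ∨ B a s = 0 by omega) with h1 | h1
      · exact Or.inl h1
      · rcases P'.gd a ha h1 with h2 | h2 | h2
        · exact absurd h2 hab'
        · exact absurd h2 nb'
        · exact Or.inr ⟨h1, h2⟩
    have gq : z a * z q = z q * z a := by
      refine H.zpos ha hq ?_
      by_contra hneg
      rw [v2] at hneg
      have l5 := hR.ge ha hq
      rw [v2] at l5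
      rcases (show B a b = 2 ∨ B a b = 1 by omega) with h1 | h1
      · exact hab (hR.eq a ha b hb h1)
      · have h2 : B a s = 0 := by omega
        rcases (show B a r = 0 ∨ B a r = 1 ∨ B a r = 2 by omega) with h3 | h3 | h3
        · exact P.iso a ha h3 h1
        · apply hab'
          apply hR.eq a ha b' hb'
          rw [v3, h1, h3, h2]; norm_num
        · have h4 := hR.eq a ha r hr h3
          rw [h4, hrs] at h2; omega
    have gu : z a * u = u * z a := by
      refine cj_comm yδ ?_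
      have l6 := hR.ge ha hδ
      rcases (show 0 ≤ B a δ ∨ B a δ = -1 ∨ B a δ = -2 by omega) with h1 | h1 | h1
      · rw [cc yδ (H.zpos ha hδ h1).symm, gr]
      · have h2 : a + δ ∈ Φ := hR.add a ha δ hδ h1
        have h3 : z δ * z a * z δ = z a * z (a + δ) := H.zneg hδ ha (by rw [hR.symm]; exact h1) (add_comm a δ)
        have h4 : B (a + δ) r = B a r - 1 := by rw [hR.add_left, v1', hsr, rr]; ring
        have h5 : B (a + δ) s = B a s + 1 := by rw [hR.add_left, v1', ss, hrs]; ring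
        rw [v1] at h1
        have h6 : z (a + δ) * w = w * z (a + δ) := by
          refine H.WX r hr _ h2 ?_ w hw
          rcases (show 1 ≤ B (a + δ) r ∨ B (a + δ) r = 0 by omega) with h7 | h7
          · exact Or.inl h7
          · rcases P.gd _ h2 h7 with h8 | h8 | h8
            · exact absurd (show a = b' by rw [hb'def, ← h8, hδdef]; abel) hab'
            · rw [h8, hR.neg_left, hbs] at h5; omega
            · exact Or.inr ⟨h7, h8⟩
        rw [h3, mul_assoc, h6, ← mul_assoc, gr, mul_assoc]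
      · exfalso
        have h2 := hR.eq_neg ha hδ h1
        rw [h2, hR.neg_left, v1', ss, hrs] at has
        omega
    exact (gen ya (x1 := 1) (x2 := 1) (x3 := 1) (x4 := 1) (by rw [mul_one]; exact cc ya gr)
      (by rw [mul_one]; exact cc ya gs) (by rw [mul_one]; exact cc ya gu) (by rw [mul_one]; exact cc ya gq)
      (by rw [one_mul, mul_one]) (by rw [one_mul, mul_one]) (by rw [one_mul, mul_one]) (by rw [one_mul, mul_one])
      (by rw [one_mul, mul_one]) (by rw [one_mul, mul_one]) (by rw [one_mul, one_mul, one_mul])).symm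
  obtain ⟨p, hp, p', hp', hc⟩ := H.K2 r hr s hs hrs _ ct.symm key
  have fin : u = w * w' * (w' * w * u * z q * z q) := by
    rw [mul_assoc (w' * w * u), H.zz hq, mul_one]
    calc u = (w * w) * u := by rw [Vr, one_mul]
      _ = w * (w' * w') * w * u := by rw [Vs, mul_one]
      _ = w * w' * (w' * w * u) := by group
  rcases hc with hc | hc
  · refine ⟨1, p, p', Or.inl rfl, hp, hp', ?_⟩
    rw [fin, hc, one_mul]
  · refine ⟨t, p, p', Or.inr rfl, hp, hp', ?_⟩
    rw [fin, hc]; group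

/-- a configuration: `r = e₁ + e₂`, `b = e₁ - e₂`, `s = e₁ + e₃` -/
structure Cfg (B : L → L → ℤ) (Φ : Set L) (X V : L → Subgroup G) (z : L → G) (r b s : L) : Prop where
  P : Pr B Φ X V z r b
  hs : s ∈ Φ
  sr : B s r = 1
  sb : B s b = 1
  P' : Pr B Φ X V z s (b + r - s)

/-- `z δ * w * z δ = w * w' * κ * z q` with `κ ∈ {1, t * z r}` -/
theorem stepA' {r b s : L} (C : Cfg B Φ X V z r b s) {w : G} (hw : w ∈ V r) (hwX : w ∉ X r) :
    ∃ w' ∈ V s, w' ∉ X s ∧ ∃ κ, (κ = 1 ∨ κ = t * z r) ∧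
      z (s - r) * w * z (s - r) = w * w' * (κ * z (s - b)) := by
  have hR := H.rg.roots
  obtain ⟨P, hs, hsr, hsb, P'⟩ := C
  obtain ⟨w₀, hw₀, hwX₀⟩ := H.ex s hs
  obtain ⟨τ, p, p', hτ, hp, hp', e⟩ := H.stepA P hs hsr hsb P' hw hwX hw₀ hwX₀
  have hr := P.hr
  have hb := P.hb
  have hrs : B r s = 1 := by rw [hR.symm]; exact hsr
  have hbs : B b s = 1 := by rw [hR.symm]; exact hsb
  have hbr := P.br
  have hrb : B r b = 0 := by rw [hR.symm]; exact hbr
  have rr := hR.two r hr
  have ss := hR.two s hs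
  have hδ : s - r ∈ Φ := hR.sub_mem hs hr hsr
  have hq : s - b ∈ Φ := hR.sub_mem hs hb hsb
  have yδ := H.zz hδ
  set δ := s - r with hδdef
  set q := s - b with hqdef
  have v1' : ∀ a, B δ a = B s a - B r a := fun a => hR.sub_left s r a
  have v2 : ∀ a, B a q = B a s - B a b := fun a => hR.sub_right a s b
  have δr : z δ * z r * z δ = z r * z s := H.zneg hδ hr (by rw [v1', hsr, rr]; norm_num) (by rw [hδdef]; abel)
  have δs : z δ * z s * z δ = z s := cc yδ (H.zpos hδ hs (by rw [v1', ss, hrs]; norm_num))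
  have δq : z δ * z q * z δ = z q := cc yδ (H.zpos hδ hq (by rw [v2, v1', v1', ss, hrs, hsb, hrb]; norm_num))
  have δt : z δ * t * z δ = t := cc yδ (H.tz δ hδ).symm
  have δw : z δ * w₀ * z δ = w₀ :=
    cc yδ (H.WX s hs δ hδ (Or.inl (by rw [v1', ss, hrs]; norm_num)) w₀ hw₀)
  have cX : ∀ x ∈ X s, ∀ y ∈ Φ, 0 ≤ B y s → z y * x = x * z y := fun x hx y hy h0 => by
    rcases H.Xz s hs x hx with rfl | rfl
    · rw [mul_one, one_mul]
    · exact H.zpos hy hs h0
  have wX' : ∀ x ∈ X s, x * w₀ = w₀ * x := fun x hx => by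
    rcases H.Xz s hs x hx with rfl | rfl
    · rw [mul_one, one_mul]
    · exact H.WX s hs s hs (Or.inl (by rw [ss]; norm_num)) w₀ hw₀
  have δp' : z δ * p' * z δ = p' := cc yδ (cX p' hp' δ hδ (by rw [v1', ss, hrs]; norm_num))
  -- the relation from `z δ * z δ = 1`
  have e1 : w = z δ * (w * w₀ * (τ * p * p' * z q)) * z δ := by
    rw [← e]
    calc w = (z δ * z δ) * w * (z δ * z δ) := by rw [yδ, one_mul, mul_one]
      _ = z δ * (z δ * w * z δ) * z δ := by group
  have V₀ := H.Vsq s hs w₀ hw₀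
  have w₀t := H.tw hs hw₀ hwX₀
  have w₀r : z r * w₀ = w₀ * z r := H.WX s hs r hr (Or.inl (by rw [hrs])) w₀ hw₀
  have w₀q : z q * w₀ = w₀ * z q := H.WX s hs q hq (Or.inl (by rw [hR.symm, v2, ss, hsb]; norm_num)) w₀ hw₀
  have s2 := H.zz hs
  have r2 := H.zz hr
  have q2 := H.zz hq
  have qs : z q * z s = z s * z q := H.zpos hq hs (by rw [hR.symm, v2, ss, hsb]; norm_num)
  have rs : z r * z s = z s * z r := H.zpos hr hs (by rw [hrs]; norm_num)
  have rq : z r * z q = z q * z r := H.zpos hr hq (by rw [v2, hrs, hrb]; norm_num)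
  have tq := H.tz q hq
  have ts := H.tz s hs
  have tr := H.tz r hr
  have p'q : z q * p' = p' * z q := cX p' hp' q hq (by rw [hR.symm, v2, ss, hsb]; norm_num)
  have p'r : z r * p' = p' * z r := cX p' hp' r hr (by rw [hrs]; norm_num)
  have p's : z s * p' = p' * z s := cX p' hp' s hs (by rw [ss]; norm_num)
  have p'2 : p' * p' = 1 := H.rg.X2 s hs p' hp'
  have p't : t * p' = p' * t := by
    rcases H.Xz s hs p' hp' with rfl | rfl
    · rw [mul_one, one_mul]
    · exact ts
  have p'X : w₀ * p' ∈ V s := mul_mem hw₀ (H.XV s hs hp')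
  have p'nX : w₀ * p' ∉ X s := fun h1 => hwX₀ (by
    have := mul_mem h1 (inv_mem hp')
    rwa [mul_inv_cancel_right] at this)
  have e2 : w₀ * (τ * p * p' * z q) * w₀ * (z δ * (τ * p * p' * z q) * z δ) = 1 := by
    rw [cm3 yδ, e, δw] at e1
    have : w * (w₀ * (τ * p * p' * z q) * w₀ * (z δ * (τ * p * p' * z q) * z δ)) = w := by
      conv_rhs => rw [e1]
      group
    exact mul_eq_left.1 this
  have w₀p : w₀ * p * w₀ = p := by
    rcases H.Xz r hr p hp with h1 | h1
    · rw [h1, mul_one, V₀]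
    · rw [h1, ← w₀r, mul_assoc, V₀, mul_one]
  rw [cm4 yδ, cm4 V₀, δp', δq, w₀p, show w₀ * p' * w₀ = p' by rw [← wX' p' hp', mul_assoc, V₀, mul_one],
    show w₀ * z q * w₀ = z q by rw [← w₀q, mul_assoc, V₀, mul_one]] at e2
  rcases hτ with hτ | hτ <;> rcases H.Xz r hr p hp with hp1 | hp1 <;> rw [hτ, hp1] at e e2
  · refine ⟨w₀ * p', p'X, p'nX, 1, Or.inl rfl, ?_⟩
    rw [e]; group
  · exfalso
    rw [δr, mul_one, mul_one, yδ, V₀, one_mul, one_mul] at e2
    apply H.z1 s hs
    rw [← e2]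
    simp only [mul_assoc, p'r, p's, p'q, rq.symm, lc rq.symm, lc p'r, lc p's, lc p'q, ← rs, lc rs.symm, qs.symm, lc qs.symm,
      ic r2, ic s2, ic q2, ic p'2, q2, r2, s2, p'2, mul_one]
  · exfalso
    rw [δt, w₀t, mul_one, mul_one, yδ, mul_one] at e2
    apply H.z1 s hs
    rw [← e2]
    simp only [mul_assoc, p's, p'q, lc p's, lc p'q, qs.symm, lc qs.symm, ts.symm, lc ts.symm, tq.symm, lc tq.symm,
      p't.symm, lc p't.symm, ic H.tt, ic s2, ic q2, ic p'2, q2, s2, p'2, mul_one]
  · refine ⟨w₀ * p', p'X, p'nX, t * z r, Or.inr rfl, ?_⟩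
    rw [e]
    calc w * w₀ * (t * z r * p' * z q) = w * w₀ * (t * (z r * p') * z q) := by group
      _ = w * w₀ * (t * p' * z r * z q) := by rw [p'r]; group
      _ = w * (w₀ * p') * (t * z r * z q) := by rw [p't]; group

/-- the elements of `V s` outside `X s` form a coset -/
theorem coset {s : L} (hs : s ∈ Φ) {w w' : G} (hw : w ∈ V s) (hwX : w ∉ X s) (hw' : w' ∈ V s) (hwX' : w' ∉ X s) :
    ∃ x ∈ X s, w' = w * x := by
  have h1 := H.brk s hs w hw hwX
  have h2 := H.brk s hs w' hw' hwX'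
  have h3 := H.Vsq s hs w hw
  have ss := H.rg.roots.two s hs
  have h4 : z s * w = w * z s := H.WX s hs s hs (Or.inl (by rw [ss]; norm_num)) w hw
  have h4' : z s * w' = w' * z s := H.WX s hs s hs (Or.inl (by rw [ss]; norm_num)) w' hw'
  refine ⟨w * w', ?_, by rw [← mul_assoc, h3, one_mul]⟩
  by_contra h5
  have h6 := H.brk s hs _ (mul_mem hw hw') h5
  rw [cm H.tt, h1, h2] at h6
  apply H.z1 s hs
  have h7 : w * z s * (w' * z s) = w * w' := by
    calc w * z s * (w' * z s) = w * (z s * w') * z s := by group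
      _ = w * w' * (z s * z s) := by rw [h4']; group
      _ = w * w' := by rw [H.zz hs, mul_one]
  rw [h7] at h6
  exact (mul_eq_left.1 h6.symm)

/-- one side of the commutation -/
theorem side {r b s γ : L} (C : Cfg B Φ X V z r b s) (C' : Cfg B Φ X V z r b γ) (hsγ : B s γ = 1) {w κ : G}
    (hw : w ∈ V γ) (hwX : w ∉ X γ) (hκ : κ = 1 ∨ κ = t * z r) :
    ∃ c, κ * z (s - b) * w = w * c ∧ z (γ - r) * (κ * z (s - b)) * z (γ - r) = c * z (s - b + (γ - r)) ∧
      (c = z (s - b) ∨ c = t * z r * z γ * z (s - b)) := by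
  have hR := H.rg.roots
  obtain ⟨P, hs, hsr, hsb, Ps⟩ := C
  obtain ⟨-, hγ, hγr, hγb, Pγ⟩ := C'
  have hr := P.hr
  have hb := P.hb
  have hrs : B r s = 1 := by rw [hR.symm]; exact hsr
  have hrγ : B r γ = 1 := by rw [hR.symm]; exact hγr
  have hγs : B γ s = 1 := by rw [hR.symm]; exact hsγ
  have hbs : B b s = 1 := by rw [hR.symm]; exact hsb
  have hbγ : B b γ = 1 := by rw [hR.symm]; exact hγb
  have hbr := P.br
  have hrb : B r b = 0 := by rw [hR.symm]; exact hbr
  have rr := hR.two r hr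
  have ss := hR.two s hs
  have bb := hR.two b hb
  have γγ := hR.two γ hγ
  have hδ : γ - r ∈ Φ := hR.sub_mem hγ hr hγr
  have hq : s - b ∈ Φ := hR.sub_mem hs hb hsb
  have qδ : B (γ - r) (s - b) = -1 := by
    rw [hR.sub_left, hR.sub_right, hR.sub_right, hγs, hγb, hrs, hrb]; norm_num
  have hθ : s - b + (γ - r) ∈ Φ := hR.add _ hq _ hδ (by rw [hR.symm]; exact qδ)
  have qγ : B (s - b) γ = 0 := by rw [hR.sub_left, hsγ, hbγ]; norm_num
  have yδ := H.zz hδ
  have wr : z r * w = w * z r := H.WX γ hγ r hr (Or.inl (by rw [hrγ])) w hw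
  have wγ : z γ * w = w * z γ := H.WX γ hγ γ hγ (Or.inl (by rw [γγ]; norm_num)) w hw
  have wq : z (s - b) * w = w * z (s - b) := by
    refine H.WX γ hγ _ hq (Or.inr ⟨qγ, ?_⟩) w hw
    rcases Pγ.gd _ hq qγ with h1 | h1 | h1
    · exfalso
      have h2 := congrArg (fun x => B x b) h1
      simp only [hR.sub_left, hR.add_left, hsb, bb, hrb, hγb] at h2
      omega
    · exfalso
      have h2 := congrArg (fun x => B x r) h1
      simp only [hR.neg_left, hR.sub_left, hR.add_left, hsr, hbr, rr, hγr] at h2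
      omega
    · exact h1
  have δq : z (γ - r) * z (s - b) * z (γ - r) = z (s - b) * z (s - b + (γ - r)) := H.zneg hδ hq qδ (add_comm _ _)
  have δr : z (γ - r) * z r * z (γ - r) = z r * z γ :=
    H.zneg hδ hr (by rw [hR.sub_left, hγr, rr]; norm_num) (by abel)
  have δt : z (γ - r) * t * z (γ - r) = t := cc yδ (H.tz _ hδ).symm
  have tw' : t * w = w * z γ * t := by
    calc t * w = (t * w * t) * t := by rw [mul_assoc _ t t, H.tt, mul_one]
      _ = w * z γ * t := by rw [H.brk γ hγ w hw hwX]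
  have tr := H.tz r hr
  have tγ := H.tz γ hγ
  have rγ : z r * z γ = z γ * z r := H.zpos hr hγ (by rw [hrγ]; norm_num)
  rcases hκ with h1 | h1 <;> rw [h1]
  · exact ⟨z (s - b), by rw [one_mul, wq], by rw [one_mul, δq], Or.inl rfl⟩
  · refine ⟨t * z r * z γ * z (s - b), ?_, ?_, Or.inr rfl⟩
    · calc t * z r * z (s - b) * w = t * z r * (z (s - b) * w) := by group
        _ = t * (z r * w) * z (s - b) := by rw [wq]; group
        _ = (t * w) * z r * z (s - b) := by rw [wr]; group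
        _ = w * (z γ * t) * z r * z (s - b) := by rw [tw']; group
        _ = w * t * (z γ * z r) * z (s - b) := by rw [← tγ]; group
        _ = w * (t * z r * z γ * z (s - b)) := by rw [← rγ]; group
    · rw [cm3 yδ, δt, δr, δq]; group

/-- **`[V s, V γ] = 1`** -/
theorem commB {r b s γ : L} (C : Cfg B Φ X V z r b s) (C' : Cfg B Φ X V z r b γ) (hsγ : B s γ = 1) :
    ∀ w ∈ V s, ∀ w' ∈ V γ, w * w' = w' * w := by
  have hR := H.rg.roots
  have P := C.P
  have hr := P.hr
  have hb := P.hb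
  have hs := C.hs
  have hγ := C'.hs
  have hsr := C.sr
  have hsb := C.sb
  have hγr := C'.sr
  have hγb := C'.sb
  have hrs : B r s = 1 := by rw [hR.symm]; exact hsr
  have hrγ : B r γ = 1 := by rw [hR.symm]; exact hγr
  have hγs : B γ s = 1 := by rw [hR.symm]; exact hsγ
  have hbs : B b s = 1 := by rw [hR.symm]; exact hsb
  have hbγ : B b γ = 1 := by rw [hR.symm]; exact hγb
  have hbr := P.br
  have hrb : B r b = 0 := by rw [hR.symm]; exact hbr
  have rr := hR.two r hr
  have ss := hR.two s hs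
  have bb := hR.two b hb
  have γγ := hR.two γ hγ
  have hδ : s - r ∈ Φ := hR.sub_mem hs hr hsr
  have hδ' : γ - r ∈ Φ := hR.sub_mem hγ hr hγr
  have hq : s - b ∈ Φ := hR.sub_mem hs hb hsb
  have hq' : γ - b ∈ Φ := hR.sub_mem hγ hb hγb
  have yδ := H.zz hδ
  have yδ' := H.zz hδ'
  obtain ⟨w, hw, hwX⟩ := H.ex r hr
  obtain ⟨ws, hws, hwsX, κ, hκ, e⟩ := H.stepA' C hw hwX
  obtain ⟨wg, hwg, hwgX, κ', hκ', e'⟩ := H.stepA' C' hw hwX
  obtain ⟨c, hc1, hc2, hc3⟩ := H.side C C' hsγ hwg hwgX hκ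
  obtain ⟨c', hc1', hc2', hc3'⟩ := H.side C' C hγs hws hwsX hκ'
  -- `z (γ - r)` and `ws`
  have dw : z (γ - r) * ws = ws * z (γ - r) := by
    have h0 : B (γ - r) s = 0 := by rw [hR.sub_left, hγs, hrs]; norm_num
    refine H.WX s hs _ hδ' (Or.inr ⟨h0, ?_⟩) ws hws
    rcases C.P'.gd _ hδ' h0 with h1 | h1 | h1
    · exfalso
      have h2 := congrArg (fun x => B x r) h1
      simp only [hR.sub_left, hR.add_left, hγr, hbr, rr, hsr] at h2
      omega
    · exfalso
      have h2 := congrArg (fun x => B x b) h1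
      simp only [hR.neg_left, hR.sub_left, hR.add_left, hγb, hrb, bb, hsb] at h2
      omega
    · exact h1
  have dw' : z (s - r) * wg = wg * z (s - r) := by
    have h0 : B (s - r) γ = 0 := by rw [hR.sub_left, hsγ, hrγ]; norm_num
    refine H.WX γ hγ _ hδ (Or.inr ⟨h0, ?_⟩) wg hwg
    rcases C'.P'.gd _ hδ h0 with h1 | h1 | h1
    · exfalso
      have h2 := congrArg (fun x => B x r) h1
      simp only [hR.sub_left, hR.add_left, hγr, hbr, rr, hsr] at h2
      omega
    · exfalso
      have h2 := congrArg (fun x => B x b) h1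
      simp only [hR.neg_left, hR.sub_left, hR.add_left, hγb, hrb, bb, hsb] at h2
      omega
    · exact h1
  have dd : z (s - r) * z (γ - r) = z (γ - r) * z (s - r) := H.zpos hδ hδ' (by
    rw [hR.sub_left, hR.sub_right, hR.sub_right, hsγ, hsr, hrγ, rr]; norm_num)
  have hθ : γ - b + (s - r) = s - b + (γ - r) := by abel
  rw [hθ] at hc2'
  -- both orders
  have f1 : z (γ - r) * (z (s - r) * w * z (s - r)) * z (γ - r) =
      w * wg * (κ' * z (γ - b)) * ws * (c * z (s - b + (γ - r))) := by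
    rw [e, cm3 yδ', e', hc2, cc yδ' dw]
  have f2 : z (s - r) * (z (γ - r) * w * z (γ - r)) * z (s - r) =
      w * ws * (κ * z (s - b)) * wg * (c' * z (s - b + (γ - r))) := by
    rw [e', cm3 yδ, e, hc2', cc yδ dw']
  have f3 : z (γ - r) * (z (s - r) * w * z (s - r)) * z (γ - r) =
      z (s - r) * (z (γ - r) * w * z (γ - r)) * z (s - r) := by
    calc z (γ - r) * (z (s - r) * w * z (s - r)) * z (γ - r) = (z (γ - r) * z (s - r)) * w * (z (s - r) * z (γ - r)) := by
          group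
      _ = (z (s - r) * z (γ - r)) * w * (z (γ - r) * z (s - r)) := by rw [dd]
      _ = _ := by group
  rw [f1, f2] at f3
  -- `c` and `c'` commute
  have tr := H.tz r hr
  have ts := H.tz s hs
  have tg := H.tz γ hγ
  have tq := H.tz _ hq
  have tq' := H.tz _ hq'
  have rs : z r * z s = z s * z r := H.zpos hr hs (by rw [hrs]; norm_num)
  have rg : z r * z γ = z γ * z r := H.zpos hr hγ (by rw [hrγ]; norm_num)
  have sg : z s * z γ = z γ * z s := H.zpos hs hγ (by rw [hsγ]; norm_num)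
  have rq : z r * z (s - b) = z (s - b) * z r := H.zpos hr hq (by rw [hR.sub_right, hrs, hrb]; norm_num)
  have rq' : z r * z (γ - b) = z (γ - b) * z r := H.zpos hr hq' (by rw [hR.sub_right, hrγ, hrb]; norm_num)
  have sq : z s * z (s - b) = z (s - b) * z s := H.zpos hs hq (by rw [hR.sub_right, ss, hsb]; norm_num)
  have sq' : z s * z (γ - b) = z (γ - b) * z s := H.zpos hs hq' (by rw [hR.sub_right, hsγ, hsb]; norm_num)
  have gq : z γ * z (s - b) = z (s - b) * z γ := H.zpos hγ hq (by rw [hR.sub_right, hγs, hγb]; norm_num)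
  have gq' : z γ * z (γ - b) = z (γ - b) * z γ := H.zpos hγ hq' (by rw [hR.sub_right, γγ, hγb]; norm_num)
  have qq : z (s - b) * z (γ - b) = z (γ - b) * z (s - b) := H.zpos hq hq' (by
    rw [hR.sub_left, hR.sub_right, hR.sub_right, hsγ, hsb, hbγ, bb]; norm_num)
  have ccm : c * c' = c' * c := by
    have k1 : Commute t (z r) := tr
    have k2 : Commute t (z s) := ts
    have k3 : Commute t (z γ) := tg
    have k4 : Commute t (z (s - b)) := tq
    have k5 : Commute t (z (γ - b)) := tq'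
    have l1 : Commute (z r) (z s) := rs
    have l2 : Commute (z r) (z γ) := rg
    have l3 : Commute (z r) (z (s - b)) := rq
    have l4 : Commute (z r) (z (γ - b)) := rq'
    have m1 : Commute (z s) (z γ) := sg
    have m2 : Commute (z s) (z (s - b)) := sq
    have m3 : Commute (z s) (z (γ - b)) := sq'
    have n1 : Commute (z γ) (z (s - b)) := gq
    have n2 : Commute (z γ) (z (γ - b)) := gq'
    have n3 : Commute (z (s - b)) (z (γ - b)) := qq
    -- everything commutes with `c'`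
    have o1 : Commute t c' := by
      rcases hc3' with h1 | h1 <;> rw [h1]
      · exact k5
      · exact (((Commute.refl t).mul_right k1).mul_right k2).mul_right k5
    have o2 : Commute (z r) c' := by
      rcases hc3' with h1 | h1 <;> rw [h1]
      · exact l4
      · exact ((k1.symm.mul_right (Commute.refl _)).mul_right l1).mul_right l4
    have o3 : Commute (z γ) c' := by
      rcases hc3' with h1 | h1 <;> rw [h1]
      · exact n2
      · exact ((k3.symm.mul_right l2.symm).mul_right m1.symm).mul_right n2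
    have o4 : Commute (z (s - b)) c' := by
      rcases hc3' with h1 | h1 <;> rw [h1]
      · exact n3
      · exact ((k4.symm.mul_right l3.symm).mul_right m2.symm).mul_right n3
    have : Commute c c' := by
      rcases hc3 with h1 | h1 <;> rw [h1]
      · exact o4
      · exact ((o1.mul_left o2).mul_left o3).mul_left o4
    exact this
  have base : wg * ws = ws * wg := by
    have g1 : w * wg * (κ' * z (γ - b)) * ws * (c * z (s - b + (γ - r))) =
        w * (wg * ws) * (c' * c * z (s - b + (γ - r))) := by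
      calc w * wg * (κ' * z (γ - b)) * ws * (c * z (s - b + (γ - r))) =
          w * wg * ((κ' * z (γ - b)) * ws) * (c * z (s - b + (γ - r))) := by group
        _ = _ := by rw [hc1']; group
    have g2 : w * ws * (κ * z (s - b)) * wg * (c' * z (s - b + (γ - r))) =
        w * (ws * wg) * (c' * c * z (s - b + (γ - r))) := by
      calc w * ws * (κ * z (s - b)) * wg * (c' * z (s - b + (γ - r))) =
          w * ws * ((κ * z (s - b)) * wg) * (c' * z (s - b + (γ - r))) := by group
        _ = w * (ws * wg) * (c * c' * z (s - b + (γ - r))) := by rw [hc1]; group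
        _ = _ := by rw [ccm]
    rw [g1, g2] at f3
    exact mul_left_cancel (mul_right_cancel f3)
  -- all elements
  have cw : ∀ x ∈ X s, ∀ w' ∈ V γ, x * w' = w' * x := fun x hx w' hw' => by
    rcases H.Xz s hs x hx with h1 | h1 <;> rw [h1]
    · rw [mul_one, one_mul]
    · exact H.WX γ hγ s hs (Or.inl (by rw [hsγ])) w' hw'
  have cw' : ∀ x ∈ X γ, ∀ w' ∈ V s, x * w' = w' * x := fun x hx w' hw' => by
    rcases H.Xz γ hγ x hx with h1 | h1 <;> rw [h1]
    · rw [mul_one, one_mul]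
    · exact H.WX s hs γ hγ (Or.inl (by rw [hγs])) w' hw'
  have base2 : ∀ w' ∈ V γ, ws * w' = w' * ws := by
    intro w' hw'
    by_cases h1 : w' ∈ X γ
    · exact (cw' w' h1 ws hws).symm
    · obtain ⟨x, hx, rfl⟩ := H.coset hγ hwg hwgX hw' h1
      rw [← mul_assoc, ← base, mul_assoc, ← cw' x hx ws hws, ← mul_assoc]
  intro w₁ hw₁ w₂ hw₂
  by_cases h1 : w₁ ∈ X s
  · exact cw w₁ h1 w₂ hw₂
  · obtain ⟨x, hx, rfl⟩ := H.coset hs hws hwsX hw₁ h1
    rw [mul_assoc, cw x hx w₂ hw₂, ← mul_assoc, base2 w₂ hw₂, mul_assoc]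

/-- `z δ * w * z δ = w * w' * z q` if `[V r, V s] = 1` -/
theorem stepC {r b s : L} (C : Cfg B Φ X V z r b s) (hc : ∀ w ∈ V r, ∀ w' ∈ V s, w * w' = w' * w) {w : G}
    (hw : w ∈ V r) (hwX : w ∉ X r) :
    ∃ w' ∈ V s, w' ∉ X s ∧ z (s - r) * w * z (s - r) = w * w' * z (s - b) := by
  have hR := H.rg.roots
  obtain ⟨w', hw', hwX', κ, hκ, e⟩ := H.stepA' C hw hwX
  refine ⟨w', hw', hwX', ?_⟩
  rcases hκ with h1 | h1 <;> rw [h1] at e
  · rw [e, one_mul]
  exfalso
  have P := C.P
  have hr := P.hr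
  have hb := P.hb
  have hs := C.hs
  have hsr := C.sr
  have hsb := C.sb
  have hrs : B r s = 1 := by rw [hR.symm]; exact hsr
  have hrb : B r b = 0 := by rw [hR.symm]; exact P.br
  have rr := hR.two r hr
  have ss := hR.two s hs
  have hδ : s - r ∈ Φ := hR.sub_mem hs hr hsr
  have hq : s - b ∈ Φ := hR.sub_mem hs hb hsb
  have yδ := H.zz hδ
  have Vr := H.Vsq r hr w hw
  have Vs := H.Vsq s hs w' hw'
  have wr : z r * w = w * z r := H.WX r hr r hr (Or.inl (by rw [rr]; norm_num)) w hw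
  have wr' : z r * w' = w' * z r := H.WX s hs r hr (Or.inl (by rw [hrs])) w' hw'
  have wq : z (s - b) * w = w * z (s - b) :=
    H.WX r hr _ hq (Or.inl (by rw [hR.symm, hR.sub_right, hrs, hrb]; norm_num)) w hw
  have wq' : z (s - b) * w' = w' * z (s - b) :=
    H.WX s hs _ hq (Or.inl (by rw [hR.symm, hR.sub_right, ss, hsb]; norm_num)) w' hw'
  have ws : z s * w = w * z s := H.WX r hr s hs (Or.inl (by rw [hsr])) w hw
  have ws' : z s * w' = w' * z s := H.WX s hs s hs (Or.inl (by rw [ss]; norm_num)) w' hw'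
  have tw : t * w = w * (z r * t) := by
    calc t * w = (t * w * t) * t := by rw [mul_assoc _ t t, H.tt, mul_one]
      _ = w * (z r * t) := by rw [H.brk r hr w hw hwX, mul_assoc]
  have tw' : t * w' = w' * (z s * t) := by
    calc t * w' = (t * w' * t) * t := by rw [mul_assoc _ t t, H.tt, mul_one]
      _ = w' * (z s * t) := by rw [H.brk s hs w' hw' hwX', mul_assoc]
  have tr := H.tz r hr
  have tq := H.tz _ hq
  have rs : z r * z s = z s * z r := H.zpos hr hs (by rw [hrs]; norm_num)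
  have rq : z r * z (s - b) = z (s - b) * z r := H.zpos hr hq (by rw [hR.sub_right, hrs, hrb]; norm_num)
  have r2 := H.zz hr
  have s2 := H.zz hs
  have q2 := H.zz hq
  have ww := hc w hw w' hw'
  -- the square
  have e1 : (w * w' * (t * z r * z (s - b))) * (w * w' * (t * z r * z (s - b))) = 1 := by
    rw [← e]
    calc z (s - r) * w * z (s - r) * (z (s - r) * w * z (s - r)) =
        z (s - r) * w * (z (s - r) * z (s - r)) * w * z (s - r) := by group
      _ = z (s - r) * (w * w) * z (s - r) := by rw [yδ]; group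
      _ = 1 := by rw [Vr, mul_one, yδ]
  have e2 : t * z r * z (s - b) * (w * w') = w * w' * (z r * z s * (t * z r * z (s - b))) := by
    calc t * z r * z (s - b) * (w * w') = t * z r * (z (s - b) * w) * w' := by group
      _ = t * (z r * w) * (z (s - b) * w') := by rw [wq]; group
      _ = t * w * (z r * w') * z (s - b) := by rw [wr, wq']; group
      _ = w * (z r * t) * w' * z r * z (s - b) := by rw [tw, wr']; group
      _ = w * z r * (t * w') * z r * z (s - b) := by group
      _ = w * (z r * w') * z s * t * z r * z (s - b) := by rw [tw']; group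
      _ = w * w' * (z r * z s * (t * z r * z (s - b))) := by rw [wr']; group
  have e3 : (t * z r * z (s - b)) * (t * z r * z (s - b)) = 1 := by
    calc (t * z r * z (s - b)) * (t * z r * z (s - b)) = t * (z r * (z (s - b) * t) * z r) * z (s - b) := by group
      _ = t * (z r * t * (z (s - b) * z r)) * z (s - b) := by rw [← tq]; group
      _ = t * (t * z r * (z r * z (s - b))) * z (s - b) := by rw [← tr, ← rq]
      _ = (t * t) * (z r * z r) * (z (s - b) * z (s - b)) := by group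
      _ = 1 := by rw [H.tt, r2, q2, one_mul, one_mul]
  have e4 : w * w' * (w * w') = 1 := by
    calc w * w' * (w * w') = w * (w' * w) * w' := by group
      _ = (w * w) * (w' * w') := by rw [← ww]; group
      _ = 1 := by rw [Vr, Vs, one_mul]
  have e5 : z r * z s = 1 := by
    calc z r * z s = (w * w' * (w * w')) * (z r * z s) * ((t * z r * z (s - b)) * (t * z r * z (s - b))) := by
          rw [e4, e3, one_mul, mul_one]
      _ = w * w' * (w * w' * (z r * z s * (t * z r * z (s - b)))) * (t * z r * z (s - b)) := by group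
      _ = (w * w' * (t * z r * z (s - b))) * (w * w' * (t * z r * z (s - b))) := by rw [← e2]; group
      _ = 1 := e1
  apply H.dis r hr s hs hrs
  calc z r = z r * z s * z s := by rw [mul_assoc, s2, mul_one]
    _ = z s := by rw [e5, one_mul]

/-- **No isolated pair with non-trivial action.** -/
theorem false_of
    (tr : ∀ r b δ, Pr B Φ X V z r b → δ ∈ Φ → Pr B Φ X V z (r - B r δ • δ) (b - B b δ • δ))
    {r b s γ : L} (P : Pr B Φ X V z r b) (hs : s ∈ Φ) (hγ : γ ∈ Φ) (hsr : B s r = 1) (hsb : B s b = 1)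
    (hγr : B γ r = 1) (hγb : B γ b = 1) (hsγ : B s γ = 1) : False := by
  have hR := H.rg.roots
  -- configurations
  have mk : ∀ {r b s : L}, Pr B Φ X V z r b → s ∈ Φ → B s r = 1 → B s b = 1 → Cfg B Φ X V z r b s := by
    intro r b s P hs hsr hsb
    refine ⟨P, hs, hsr, hsb, ?_⟩
    have rr := hR.two r P.hr
    have h1 := tr r b (s - r) P (hR.sub_mem hs P.hr hsr)
    have e1 : B r (s - r) = -1 := by rw [hR.sub_right, rr, hR.symm, hsr]; norm_num
    have e2 : B b (s - r) = 1 := by rw [hR.sub_right, P.br, hR.symm, hsb]; norm_num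
    rw [e1, e2, neg_one_smul, one_smul] at h1
    have e3 : r - -(s - r) = s := by abel
    have e4 : b - (s - r) = b + r - s := by abel
    rwa [e3, e4] at h1
  have ng : ∀ {r b : L}, Pr B Φ X V z r b → Pr B Φ X V z r (-b) := by
    intro r b P
    have h1 := tr r b b P P.hb
    have e1 : B r b = 0 := by rw [hR.symm]; exact P.br
    rw [e1, hR.two b P.hb, zero_smul, sub_zero, two_smul] at h1
    have e2 : b - (b + b) = -b := by abel
    rwa [e2] at h1
  have hr := P.hr
  have hb := P.hb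
  have hrs : B r s = 1 := by rw [hR.symm]; exact hsr
  have hrγ : B r γ = 1 := by rw [hR.symm]; exact hγr
  have hγs : B γ s = 1 := by rw [hR.symm]; exact hsγ
  have hbs : B b s = 1 := by rw [hR.symm]; exact hsb
  have hbγ : B b γ = 1 := by rw [hR.symm]; exact hγb
  have hbr := P.br
  have hrb : B r b = 0 := by rw [hR.symm]; exact hbr
  have rr := hR.two r hr
  have ss := hR.two s hs
  have bb := hR.two b hb
  have γγ := hR.two γ hγ
  have hδ : s - r ∈ Φ := hR.sub_mem hs hr hsr
  have hq : s - b ∈ Φ := hR.sub_mem hs hb hsb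
  have C1 := mk P hs hsr hsb
  -- `[V r, V s] = 1`
  have c1 : ∀ w ∈ V r, ∀ w' ∈ V s, w * w' = w' * w := by
    have P2 := (mk P hγ hγr hγb).P'
    exact H.commB (mk P2 hr hrγ (by rw [hR.sub_right, hR.add_right, hrb, rr, hrγ]; norm_num))
      (mk P2 hs hsγ (by rw [hR.sub_right, hR.add_right, hsb, hsr, hsγ]; norm_num)) hrs
  -- `[V r, V q] = 1`
  have hqr : B (s - b) r = 1 := by rw [hR.sub_left, hsr, hbr]; norm_num
  have hrq : B r (s - b) = 1 := by rw [hR.symm]; exact hqr
  have hsq : B s (s - b) = 1 := by rw [hR.sub_right, ss, hsb]; norm_num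
  have Pn := ng P
  have C2 : Cfg B Φ X V z r (-b) (s - b) :=
    mk Pn hq hqr (by rw [hR.neg_right, hR.sub_left, hsb, bb]; norm_num)
  have hη : γ - b ∈ Φ := hR.sub_mem hγ hb hγb
  have c2 : ∀ w ∈ V r, ∀ w' ∈ V (s - b), w * w' = w' * w := by
    have P2 := (mk Pn hη (by rw [hR.sub_left, hγr, hbr]; norm_num)
      (by rw [hR.neg_right, hR.sub_left, hγb, bb]; norm_num)).P'
    have e1 : -b + r - (γ - b) = r - γ := by abel
    rw [e1] at P2
    exact H.commB (mk P2 hr (by rw [hR.sub_right, hrγ, hrb]; norm_num) (by rw [hR.sub_right, rr, hrγ]; norm_num))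
      (mk P2 hq (by rw [hR.sub_left, hR.sub_right, hR.sub_right, hsγ, hsb, hbγ, bb]; norm_num)
        (by rw [hR.sub_left, hR.sub_right, hR.sub_right, hsr, hsγ, hbr, hbγ]; norm_num)) hrq
  -- `[V s, V q] = 1`
  have P3 := ng C1.P'
  have hθ : s - b + (γ - r) ∈ Φ := hR.add _ hq _ (hR.sub_mem hγ hr hγr) (by
    rw [hR.sub_left, hR.sub_right, hR.sub_right, hsγ, hsr, hbγ, hbr]; norm_num)
  have hθs : B (s - b + (γ - r)) s = 1 := by
    rw [hR.add_left, hR.sub_left, hR.sub_left, ss, hbs, hγs, hrs]; norm_num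
  have c3 : ∀ w ∈ V s, ∀ w' ∈ V (s - b), w * w' = w' * w := by
    have P2 := (mk P3 hθ hθs (by
      rw [hR.neg_right, hR.sub_right, hR.add_right, hθs, hR.add_left, hR.add_left, hR.sub_left, hR.sub_left,
        hR.sub_left, hR.sub_left, hsb, bb, hγb, hrb, hsr, hbr, hγr, rr]; norm_num)).P'
    have e1 : -(b + r - s) + s - (s - b + (γ - r)) = s - γ := by abel
    rw [e1] at P2
    exact H.commB (mk P2 hs (by rw [hR.symm]; exact hθs) (by rw [hR.sub_right, ss, hsγ]; norm_num))
      (mk P2 hq (by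
          rw [hR.add_right, hR.sub_right (s - b), hR.sub_right (s - b), hR.sub_left, hR.sub_left, hR.sub_left,
            hR.sub_left, ss, hbs, hsb, bb, hsγ, hbγ, hsr, hbr]; norm_num)
        (by rw [hR.sub_left, hR.sub_right, hR.sub_right, ss, hsγ, hbs, hbγ]; norm_num)) hsq
  -- the two steps
  obtain ⟨w, hw, hwX⟩ := H.ex r hr
  obtain ⟨w', hw', hwX', e1⟩ := H.stepC C1 c1 hw hwX
  obtain ⟨w₂, hw₂, hwX₂, e2⟩ := H.stepC C2 c2 hw hwX
  have e3 : s - b - -b = s := by abel
  rw [e3] at e2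
  have hδ2 : s - b - r ∈ Φ := hR.sub_mem hq hr hqr
  have yδ := H.zz hδ
  have yδ2 := H.zz hδ2
  -- the isolated actions
  have f1 : z (s - b - r) * w' * z (s - b - r) = w' * z s := by
    have h1 := P3.E w' hw' hwX'
    have h2 : -(b + r - s) = s - b - r := by abel
    rwa [h2] at h1
  have f2 : z (s - r) * w₂ * z (s - r) = w₂ * z (s - b) := by
    have h1 := (ng C2.P').E w₂ hw₂ hwX₂
    have h2 : -(-b + r - (s - b)) = s - r := by abel
    rwa [h2] at h1
  have dd : z (s - r) * z (s - b - r) = z (s - b - r) * z (s - r) := H.zpos hδ hδ2 (by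
    rw [hR.sub_left, hR.sub_right, hR.sub_right, hR.sub_right, hR.sub_right, ss, hsb, hsr, hrs, hrb, rr]; norm_num)
  have ds : z (s - b - r) * z s = z s * z (s - b - r) := H.zpos hδ2 hs (by
    rw [hR.sub_left, hR.sub_left, ss, hbs, hrs]; norm_num)
  have dq : z (s - b - r) * z (s - b) = z (s - b) * z (s - b - r) := H.zpos hδ2 hq (by
    rw [hR.sub_left, hR.two _ hq, hrq]; norm_num)
  have ds' : z (s - r) * z s = z s * z (s - r) := H.zpos hδ hs (by rw [hR.sub_left, ss, hrs]; norm_num)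
  have dq' : z (s - r) * z (s - b) = z (s - b) * z (s - r) := H.zpos hδ hq (by
    rw [hR.sub_left, hsq, hrq]; norm_num)
  have g1 : z (s - b - r) * (z (s - r) * w * z (s - r)) * z (s - b - r) = w * w₂ * z s * (w' * z s) * z (s - b) := by
    rw [e1, cm3 yδ2, e2, f1, cc yδ2 dq]
  have g2 : z (s - r) * (z (s - b - r) * w * z (s - b - r)) * z (s - r) = w * w' * z (s - b) * (w₂ * z (s - b)) * z s := by
    rw [e2, cm3 yδ, e1, f2, cc yδ ds']
  have g3 : z (s - b - r) * (z (s - r) * w * z (s - r)) * z (s - b - r) =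
      z (s - r) * (z (s - b - r) * w * z (s - b - r)) * z (s - r) := by
    calc z (s - b - r) * (z (s - r) * w * z (s - r)) * z (s - b - r) =
        (z (s - b - r) * z (s - r)) * w * (z (s - r) * z (s - b - r)) := by group
      _ = (z (s - r) * z (s - b - r)) * w * (z (s - b - r) * z (s - r)) := by rw [dd]
      _ = _ := by group
  rw [g1, g2] at g3
  have hsw : z s * w' = w' * z s := H.WX s hs s hs (Or.inl (by rw [ss]; norm_num)) w' hw'
  have hqw : z (s - b) * w₂ = w₂ * z (s - b) := H.WX _ hq _ hq (Or.inl (by rw [hR.two _ hq]; norm_num)) w₂ hw₂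
  have s2 := H.zz hs
  have q2 := H.zz hq
  have k1 : w * w₂ * z s * (w' * z s) * z (s - b) = w * (w₂ * w') * z (s - b) := by
    calc w * w₂ * z s * (w' * z s) * z (s - b) = w * w₂ * (z s * w') * z s * z (s - b) := by group
      _ = w * w₂ * w' * (z s * z s) * z (s - b) := by rw [hsw]; group
      _ = w * (w₂ * w') * z (s - b) := by rw [s2]; group
  have k2 : w * w' * z (s - b) * (w₂ * z (s - b)) * z s = w * (w₂ * w') * z s := by
    calc w * w' * z (s - b) * (w₂ * z (s - b)) * z s = w * w' * (z (s - b) * w₂) * z (s - b) * z s := by group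
      _ = w * w' * w₂ * (z (s - b) * z (s - b)) * z s := by rw [hqw]; group
      _ = w * (w' * w₂) * z s := by rw [q2]; group
      _ = w * (w₂ * w') * z s := by rw [c3 w' hw' w₂ hw₂]
  rw [k1, k2] at g3
  exact H.dis s hs _ hq hsq (mul_left_cancel g3).symm

end DH

end Cfsg.Agent.OddHalf.D7Ex.DLast

end

-- merged: Cfsg.Agent.OddHalf.D7Ex.DLastOf
section

/-!
# `D_n(2)`, `n ≥ 5`: from the doubled root group of `P₀` to `Base0`

`P₀ = ⟨X a : a good for r⟩`.

* `BaseG` : `Base0` with `V₀` centralised by the `X a`, `a` good for `r₀`;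
* `TData` : the transported groups; **`base0`** : `Base0`, by `DLast.DH.false_of`.
-/

set_option autoImplicit false
set_option linter.unusedSectionVars false

namespace Cfsg.Agent.OddHalf.D7Ex.DLastOf

open Cfsg.Agent.OddHalf.SL Cfsg.Agent.KFacts CoxeterSystem Cfsg.Agent.ChevalleyStructure.CoxeterGeom
  Cfsg.Agent.Tits.Roots Cfsg.Agent.Tits.Core
  Cfsg.Agent.Tits.RootComb Cfsg.Agent.Nodes.Comb Cfsg.Agent.Nodes.Reps Cfsg.Agent.Nodes.BNOf
  Cfsg.Agent.Nodes.Bruhat Cfsg.Agent.Nodes.Coroot Cfsg.Agent.OddHalf.SL.Index Cfsg.Agent.OddHalf.SL.OfRGD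
  Cfsg.Agent.OddHalf.SL.PreOf Cfsg.Agent.KFacts.RgdPar Cfsg.Agent.KFacts.RgdSL Cfsg.Agent.KFacts.RgdTI
  Cfsg.Agent.KFacts.RgdCent Cfsg.Agent.KFacts.RgdOdd Cfsg.Agent.KFacts.RgdEx Cfsg.Agent.KFacts.SLRow.Def
  Cfsg.Agent.OddHalf.SL.OfDatum Cfsg.Agent.OddHalf.D7Ex.KData Cfsg.Agent.OddHalf.D7Ex.KFull
  Cfsg.Agent.OddHalf.D7Ex.OutBase Cfsg.Agent.OddHalf.D7Ex.DLast
open scoped commutatorElement

variable {I W G : Type*} [Fintype I] [DecidableEq I] [Group W] [Group G] {M : CoxeterMatrix I}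
  {cs : CoxeterSystem M W} {A : I → I → ℤ} {h : IsCartan M A} {p : ℕ} {T : Subgroup G} {n : I → G}
  {X : (I → ℤ) → Subgroup G}

/-- The doubled root group at one root, centralised by `P₀`. -/
structure BaseG (R : RGD cs h p T n X) (t : G) (r₀ : I → ℤ) (V₀ : Subgroup G) : Prop where
  root : IsRoot cs h r₀
  XW : X r₀ ≤ V₀
  sq : ∀ w ∈ V₀, w * w = 1
  brk : ∀ w ∈ V₀, w⁻¹ * (t * w * t) ∈ X r₀
  cent : ∀ w ∈ V₀, t * w = w * t → w ∈ X r₀
  surj : ∀ x ∈ X r₀, ∃ w ∈ V₀, w⁻¹ * (t * w * t) = x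
  WX : ∀ a, IsRoot cs h a → Gd (Bf A) {x | IsRoot cs h x} a r₀ → ∀ w ∈ V₀, ∀ x ∈ X a, w * x = x * w
  nX : ∀ a, IsRoot cs h a → Bf A a r₀ = 0 → ∀ x ∈ X a, ∀ v ∈ V₀, x * v * x⁻¹ ∈ V₀
  nrm : ∀ w k, Rp cs R.nsys w k → rep cs h w r₀ = r₀ → ∀ v ∈ V₀, k * v * k⁻¹ ∈ V₀
  tN : ∀ w k, Rp cs R.nsys w k → t * k = k * t

/-- The isolated root `b` of the roots orthogonal to `r`, the roots `s`, `g`. -/
structure IsoRt (cs : CoxeterSystem M W) (h : IsCartan M A) (r b s g : I → ℤ) : Prop where
  hb : IsRoot cs h b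
  br : Bf A b r = 0
  iso : ∀ d, IsRoot cs h d → Bf A d r = 0 → Bf A d b ≠ 1
  gd : ∀ a, IsRoot cs h a → Bf A a r = 0 → a = b ∨ a = -b ∨ ∃ d, IsRoot cs h d ∧ Bf A d r = 0 ∧ Bf A a d = 1
  hs : IsRoot cs h s
  hg : IsRoot cs h g
  sr : Bf A s r = 1
  sb : Bf A s b = 1
  gr : Bf A g r = 1
  gb : Bf A g b = 1
  sg : Bf A s g = 1

/-- The pair `r`, `-b`. -/
theorem IsoRt.neg [Finite W] (h4 : ∀ i j, M i j ≠ 4) (h6 : ∀ i j, M i j ≠ 6) {r b s g : I → ℤ}
    (H : IsoRt cs h r b s g) : IsoRt cs h r (-b) (s - b) (g - b) := by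
  have hR := roots cs h h4 h6
  have bb := hR.two b H.hb
  have bg : Bf A b g = 1 := by rw [hR.symm]; exact H.gb
  exact
    { hb := H.hb.neg
      br := by rw [hR.neg_left, H.br, neg_zero]
      iso := fun d hd h0 h1 => H.iso (-d) hd.neg (by rw [hR.neg_left, h0, neg_zero])
        (by rw [hR.neg_left]; rw [hR.neg_right] at h1; exact h1)
      gd := fun a ha h0 => by
        rcases H.gd a ha h0 with h1 | h1 | h1
        · exact Or.inr (Or.inl (by rw [neg_neg]; exact h1))
        · exact Or.inl h1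
        · exact Or.inr (Or.inr h1)
      hs := hR.sub_mem H.hs H.hb H.sb
      hg := hR.sub_mem H.hg H.hb H.gb
      sr := by rw [hR.sub_left, H.sr, H.br]; norm_num
      sb := by rw [hR.neg_right, hR.sub_left, H.sb, bb]; norm_num
      gr := by rw [hR.sub_left, H.gr, H.br]; norm_num
      gb := by rw [hR.neg_right, hR.sub_left, H.gb, bb]; norm_num
      sg := by rw [hR.sub_left, hR.sub_right, hR.sub_right, H.sg, H.sb, bg, bb]; norm_num }

theorem bf_refl [Finite W] (h4 : ∀ i j, M i j ≠ 4) (h6 : ∀ i j, M i j ≠ 6) {a : I → ℤ} (ha : IsRoot cs h a) :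
    ∃ w : W, ∀ y, rep cs h w y = y - Bf A y a • a := by
  obtain ⟨v, i, e⟩ := id ha
  refine ⟨v * cs.simple i * v⁻¹, fun y => ?_⟩
  rw [bf_eq_cpr h4 h6 y ha, rep_mul_apply, rep_mul_apply, rep_simple_eq, map_sub, rep_apply_inv, map_smul,
    ← cpr_rep_sr (cs := cs) (h := h), ← e]

namespace BaseG

variable {R : RGD cs h p T n X} {t : G} {r₀ : I → ℤ} {V₀ : Subgroup G} (D : BaseG R t r₀ V₀)

include D

theorem wf_eq {w : W} {k : G} (hk : Rp cs R.nsys w k) : Wf R r₀ V₀ (rep cs h w r₀) = cj k V₀ := by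
  apply le_antisymm
  · refine iSup_le ?_
    rintro ⟨⟨w', k'⟩, hk', hr⟩
    intro v hv
    rw [mem_cj] at hv ⊢
    have h1 : rep cs h (w⁻¹ * w') r₀ = r₀ := by
      rw [rep_mul_apply]
      show rep cs h w⁻¹ (rep cs h w' r₀) = r₀
      rw [hr, rep_inv_apply]
    have h2 := D.nrm _ _ (hk.inv.mul hk') h1 _ hv
    have e : k⁻¹ * k' * (k'⁻¹ * v * k') * (k⁻¹ * k')⁻¹ = k⁻¹ * v * k := by group
    rwa [e] at h2
  · exact le_iSup (fun q : {q : W × G // Rp cs R.nsys q.1 q.2 ∧ rep cs h q.1 r₀ = rep cs h w r₀} =>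
      cj q.1.2 V₀) ⟨(w, k), hk, rfl⟩

theorem wf_self : Wf R r₀ V₀ r₀ = V₀ := by
  have h1 := D.wf_eq (w := 1) (k := 1) rp_one
  rw [map_one, Module.End.one_apply] at h1
  rw [h1]
  ext x
  rw [mem_cj, inv_one, one_mul, mul_one]

theorem key (htr : ∀ r, IsRoot cs h r → ∃ w, rep cs h w r₀ = r) {r : I → ℤ} (hr : IsRoot cs h r) :
    ∃ w k, Rp cs R.nsys w k ∧ rep cs h w r₀ = r ∧ Wf R r₀ V₀ r = cj k V₀ ∧ X r = cj k (X r₀) := by
  obtain ⟨w, rfl⟩ := htr r hr
  obtain ⟨k, hk⟩ := exists_rp cs R.nsys w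
  exact ⟨w, k, hk, rfl, D.wf_eq hk, (R.conj_rp hk D.root).symm⟩

/-- the transported groups are moved by the representatives -/
theorem eqv (htr : ∀ r, IsRoot cs h r → ∃ w, rep cs h w r₀ = r) {w : W} {k : G} (hk : Rp cs R.nsys w k) {r : I → ℤ}
    (hr : IsRoot cs h r) {v : G} (hv : v ∈ Wf R r₀ V₀ r) : k * v * k⁻¹ ∈ Wf R r₀ V₀ (rep cs h w r) := by
  obtain ⟨w', k', hk', e0, e1, e2⟩ := D.key htr hr
  have h1 := D.wf_eq (hk.mul hk')
  rw [rep_mul_apply, e0] at h1
  rw [h1, mem_cj]
  rw [e1, mem_cj] at hv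
  have e3 : (k * k')⁻¹ * (k * v * k⁻¹) * (k * k') = k'⁻¹ * v * k' := by group
  rwa [e3]

end BaseG

section

variable {K : Subgroup G} {t : G}
variable [Finite W] [Finite G] {T₀ : Subgroup ↥K} {n₀ : I → ↥K} {X₀ : (I → ℤ) → Subgroup ↥K}

/-- The abstract structure. -/
theorem exists_dh (D₀ : Datum (⊤ : Subgroup ↥K) 2 cs h T₀ n₀ X₀) (C : CT t K) {r₀ : I → ℤ} {V₀ : Subgroup G}
    (B : BaseG (dm D₀).rgd t r₀ V₀) :
    ∃ z : (I → ℤ) → G, DH t (Bf A) {x | IsRoot cs h x} (fun x => (X₀ x).map K.subtype) (Wf (dm D₀).rgd r₀ V₀) z := by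
  have D := dm D₀
  have hR := roots cs h D.h4 D.h6
  have hrg := KData.rg D
  have hex : ∀ r : I → ℤ, ∃ z : G, IsRoot cs h r → z ∈ (X₀ r).map K.subtype ∧ z ≠ 1 ∧
      ∀ x ∈ (X₀ r).map K.subtype, x = 1 ∨ x = z := by
    intro r
    by_cases hr : IsRoot cs h r
    · obtain ⟨z, h1, h2, h3⟩ := KTwo.exists_z D hr
      exact ⟨z, fun _ => ⟨h1, h2, h3⟩⟩
    · exact ⟨1, fun h1 => absurd h1 hr⟩
  choose z hz using hex
  have htr : ∀ r, IsRoot cs h r → ∃ w, rep cs h w r₀ = r := fun r hr => OfAut.exists_rep D B.root hr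
  have tX : ∀ r, IsRoot cs h r → ∀ x ∈ (X₀ r).map K.subtype, t * x = x * t := fun r hr x hx =>
    C.Kt x (D.XK hr hx)
  -- the element `w⁻¹ (t w t)` is `z r`
  have hbrk : ∀ r, IsRoot cs h r → ∀ w ∈ Wf D.rgd r₀ V₀ r, w⁻¹ * (t * w * t) ∈ (X₀ r).map K.subtype := by
    intro r hr v hv
    obtain ⟨w, k, hk, -, e1, e2⟩ := B.key htr hr
    rw [e1, mem_cj] at hv
    rw [e2, mem_cj]
    have h1 := B.brk _ hv
    have h2 := B.tN w k hk
    have h3 : t * k⁻¹ = k⁻¹ * t := B.tN w⁻¹ k⁻¹ hk.inv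
    have e3 : (k⁻¹ * v * k)⁻¹ * (t * (k⁻¹ * v * k) * t) = k⁻¹ * (v⁻¹ * (t * v * t)) * k := by
      calc (k⁻¹ * v * k)⁻¹ * (t * (k⁻¹ * v * k) * t) = k⁻¹ * v⁻¹ * k * ((t * k⁻¹) * v * (k * t)) := by group
        _ = k⁻¹ * v⁻¹ * k * ((k⁻¹ * t) * v * (t * k)) := by rw [h3, h2]
        _ = k⁻¹ * (v⁻¹ * (t * v * t)) * k := by group
    rwa [e3] at h1
  have hcent : ∀ r, IsRoot cs h r → ∀ w ∈ Wf D.rgd r₀ V₀ r, t * w = w * t → w ∈ (X₀ r).map K.subtype := by
    intro r hr v hv htv
    obtain ⟨w, k, hk, -, e1, e2⟩ := B.key htr hr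
    rw [e1, mem_cj] at hv
    rw [e2, mem_cj]
    apply B.cent _ hv
    have h2 := B.tN w k hk
    have h3 : t * k⁻¹ = k⁻¹ * t := B.tN w⁻¹ k⁻¹ hk.inv
    calc t * (k⁻¹ * v * k) = (t * k⁻¹) * v * k := by group
      _ = k⁻¹ * (t * v) * k := by rw [h3]; group
      _ = k⁻¹ * v * (t * k) := by rw [htv]; group
      _ = k⁻¹ * v * k * t := by rw [h2]; group
  refine ⟨z, ?_⟩
  exact
    { rg := hrg
      tt := C.tt
      zX := fun r hr => (hz r hr).1
      z1 := fun r hr => (hz r hr).2.1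
      Xz := fun r hr => (hz r hr).2.2
      dis := fun r hr s hs hrs e => (hz r hr).2.1 (Base0.inf D.rgd hr hs D.h4 D.h6 hrs (hz r hr).1 (e ▸ (hz s hs).1))
      tz := fun r hr => tX r hr _ (hz r hr).1
      XV := fun r hr => by
        obtain ⟨w, k, hk, -, e1, e2⟩ := B.key htr hr
        show (X₀ r).map K.subtype ≤ _
        rw [e1, e2]
        exact cj_mono k B.XW
      Vsq := fun r hr v hv => by
        obtain ⟨w, k, hk, -, e1, e2⟩ := B.key htr hr
        rw [e1, mem_cj] at hv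
        have h1 := B.sq _ hv
        calc v * v = k * ((k⁻¹ * v * k) * (k⁻¹ * v * k)) * k⁻¹ := by group
          _ = 1 := by rw [h1]; group
      brk := fun r hr w hw hwX => by
        have h1 := hbrk r hr w hw
        rcases (hz r hr).2.2 _ h1 with h2 | h2
        · exfalso
          apply hwX
          refine hcent r hr w hw ?_
          have h3 : t * w * t = w := (inv_mul_eq_one.1 h2).symm
          calc t * w = t * w * (t * t) := by rw [C.tt, mul_one]
            _ = (t * w * t) * t := by group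
            _ = w * t := by rw [h3]
        · rw [← h2]; group
      ex := fun r hr => by
        obtain ⟨w, k, hk, -, e1, e2⟩ := B.key htr hr
        obtain ⟨z₀, hz₀, hz₁, -⟩ := KTwo.exists_z D B.root
        obtain ⟨v, hv, e⟩ := B.surj z₀ hz₀
        refine ⟨k * v * k⁻¹, by rw [e1]; exact conj_mem_cj.2 hv, fun h1 => hz₁ ?_⟩
        have h2 : k * v * k⁻¹ ∈ cj k ((X₀ r₀).map K.subtype) := by rw [← e2]; exact h1
        have h3 : v ∈ (X₀ r₀).map K.subtype := conj_mem_cj.1 h2
        rw [← e, tX r₀ B.root v h3, mul_assoc, C.tt, mul_one, inv_mul_cancel]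
      WX := fun r hr a ha hg w hw => by
        obtain ⟨w', k, hk, e0, e1, e2⟩ := B.key htr hr
        rw [e1, mem_cj] at hw
        have h1 := D.rgd.conj_mem' hk ha (hz a ha).1
        have hbf : ∀ x y, Bf A (rep cs h w' x) (rep cs h w' y) = Bf A x y := fun x y => bf_rep D.h4 D.h6 w' x y
        have hbf' : ∀ x, Bf A (rep cs h w'⁻¹ x) r₀ = Bf A x r := fun x => by
          rw [← hbf, rep_apply_inv, e0]
        have hg' : Gd (Bf A) {x | IsRoot cs h x} (rep cs h w'⁻¹ a) r₀ := by
          rcases hg with hg | ⟨hg, d, hd, hd1, hd2⟩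
          · exact Or.inl (by rw [hbf']; exact hg)
          · refine Or.inr ⟨by rw [hbf']; exact hg, rep cs h w'⁻¹ d, IsRoot.act hd _, by rw [hbf']; exact hd1, ?_⟩
            rw [← hbf, rep_apply_inv, rep_apply_inv]; exact hd2
        have h2 := B.WX (rep cs h w'⁻¹ a) (ha.act _) hg' _ hw _ h1
        have e3 : z a * w = k * ((k⁻¹ * z a * k) * (k⁻¹ * w * k)) * k⁻¹ := by group
        have e4 : w * z a = k * ((k⁻¹ * w * k) * (k⁻¹ * z a * k)) * k⁻¹ := by group
        rw [e3, e4, h2]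
      K2 := fun r hr s hs hrs c hct hc => by
        refine OfAut.K2' D₀ (⟨C.tt, C.tK, C.Kt, C.nrm, C.cK⟩ : OfAut.Full t K) r hr s hs hrs c hct ?_
        intro a ha h1 h2 x hx
        rcases (hz a ha).2.2 x hx with h3 | h3
        · rw [h3, mul_one, one_mul]
        · rw [h3]; exact hc a ha h1 h2 }

/-- **The isolated root group centralises `V₀`.** -/
theorem comm_iso (D₀ : Datum (⊤ : Subgroup ↥K) 2 cs h T₀ n₀ X₀) (C : CT t K) {r b s g : I → ℤ} {V₀ : Subgroup G}
    (B : BaseG (dm D₀).rgd t r V₀) (H : IsoRt cs h r b s g) :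
    ∀ w ∈ V₀, ∀ x ∈ (X₀ b).map K.subtype, w * x = x * w := by
  have D := dm D₀
  have hR := roots cs h D.h4 D.h6
  obtain ⟨z, HH⟩ := exists_dh D₀ C B
  have hr := B.root
  have htr : ∀ r', IsRoot cs h r' → ∃ w, rep cs h w r = r' := fun r' hr' => OfAut.exists_rep D B.root hr'
  have eV : Wf D.rgd r V₀ r = V₀ := B.wf_self
  have tX : ∀ r, IsRoot cs h r → ∀ x ∈ (X₀ r).map K.subtype, t * x = x * t := fun r hr x hx =>
    C.Kt x (D.XK hr hx)
  have hbf : ∀ (w : W) x y, Bf A (rep cs h w x) (rep cs h w y) = Bf A x y := fun w x y => bf_rep D.h4 D.h6 w x y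
  intro w hw x hx
  rcases HH.Xz b H.hb x hx with h1 | h1
  · rw [h1, mul_one, one_mul]
  rw [h1]
  by_contra hne
  have zb2 := HH.zz H.hb
  have zr2 := HH.zz hr
  -- the action on the elements outside `X r`
  have act : ∀ v ∈ V₀, v ∉ (X₀ r).map K.subtype → z b * v * z b = v ∨ z b * v * z b = v * z r := by
    intro v hv hvX
    have e0 : z b * v * z b ∈ V₀ := by
      have := B.nX b H.hb H.br (z b) (HH.zX b H.hb) v hv
      rwa [HH.zi H.hb] at this
    have hv' : v ∈ Wf D.rgd r V₀ r := by rw [eV]; exact hv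
    have e0' : z b * v * z b ∈ Wf D.rgd r V₀ r := by rw [eV]; exact e0
    have e1 : z b * v * z b ∉ (X₀ r).map K.subtype := by
      intro h2
      apply hvX
      have h3 : z b * (z b * v * z b) = z b * v * z b * z b := by
        rcases HH.Xz r hr _ h2 with h4 | h4 <;> rw [h4]
        · rw [mul_one, one_mul]
        · exact HH.zpos H.hb hr (by rw [H.br])
      have h4 : z b * v * z b = v := by
        calc z b * v * z b = z b * (z b * (z b * v * z b)) := by rw [← mul_assoc (z b) (z b), zb2, one_mul]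
          _ = z b * (z b * v * z b * z b) := by rw [h3]
          _ = (z b * z b) * v * (z b * z b) := by group
          _ = v := by rw [zb2, one_mul, mul_one]
      rwa [h4] at h2
    obtain ⟨y, hy, e2⟩ := HH.coset hr hv' hvX e0' e1
    rcases HH.Xz r hr y hy with h4 | h4
    · left; rw [e2, h4, mul_one]
    · right; rw [e2, h4]
  have wX : w ∉ (X₀ r).map K.subtype := by
    intro h2
    apply hne
    rcases HH.Xz r hr w h2 with h3 | h3 <;> rw [h3]
    · rw [mul_one, one_mul]
    · exact (HH.zpos H.hb hr (by rw [H.br])).symm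
  have ew : z b * w * z b = w * z r := by
    refine (act w hw wX).resolve_left fun h2 => hne ?_
    calc w * z b = (z b * z b) * w * z b := by rw [zb2, one_mul]
      _ = z b * (z b * w * z b) := by group
      _ = z b * w := by rw [h2]
  have hE : ∀ v ∈ Wf D.rgd r V₀ r, v ∉ (X₀ r).map K.subtype → z b * v * z b = v * z r := by
    intro v hv hvX
    have hw' : w ∈ Wf D.rgd r V₀ r := by rw [eV]; exact hw
    obtain ⟨y, hy, e2⟩ := HH.coset hr hw' wX hv hvX
    have h3 : z b * y = y * z b := by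
      rcases HH.Xz r hr y hy with h4 | h4 <;> rw [h4]
      · rw [mul_one, one_mul]
      · exact HH.zpos H.hb hr (by rw [H.br])
    have h5 : z r * y = y * z r := by
      rcases HH.Xz r hr y hy with h4 | h4 <;> rw [h4]
      rw [mul_one, one_mul]
    rw [e2]
    calc z b * (w * y) * z b = z b * w * (y * z b) := by group
      _ = (z b * w * z b) * y := by rw [← h3]; group
      _ = w * (z r * y) := by rw [ew]; group
      _ = w * y * z r := by rw [h5]; group
  -- the pair
  have P : Pr (Bf A) {x | IsRoot cs h x} (fun x => (X₀ x).map K.subtype) (Wf D.rgd r V₀) z r b :=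
    ⟨hr, H.hb, H.br, fun d hd h0 => H.iso d hd h0, fun a ha h0 => H.gd a ha h0, hE⟩
  refine HH.false_of ?_ P H.hs H.hg H.sr H.sb H.gr H.gb H.sg
  -- transport by reflections
  intro r' b' δ P' hδ
  obtain ⟨v, hv⟩ := bf_refl D.h4 D.h6 (cs := cs) (h := h) hδ
  obtain ⟨k, hk⟩ := exists_rp cs D.rgd.nsys v
  rw [← hv, ← hv]
  have hr' : IsRoot cs h r' := P'.hr
  have hb' : IsRoot cs h b' := P'.hb
  have zk : ∀ a, IsRoot cs h a → k * z a * k⁻¹ = z (rep cs h v a) := by
    intro a ha
    have h2 : k * z a * k⁻¹ ∈ (X₀ (rep cs h v a)).map K.subtype := by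
      have h3 := D.rgd.conj_rp hk ha
      rw [← h3]
      exact conj_mem_cj.2 (HH.zX a ha)
    refine (HH.Xz _ (ha.act v) _ h2).resolve_left fun h3 => HH.z1 a ha ?_
    calc z a = k⁻¹ * (k * z a * k⁻¹) * k := by group
      _ = 1 := by rw [h3]; group
  refine ⟨hr'.act v, hb'.act v, by rw [hbf]; exact P'.br, ?_, ?_, ?_⟩
  · intro d hd h0 h1
    have e1 : ∀ y, Bf A (rep cs h v⁻¹ d) y = Bf A d (rep cs h v y) := fun y => by
      rw [← hbf v, rep_apply_inv]
    exact P'.iso (rep cs h v⁻¹ d) (IsRoot.act hd _) (by rw [e1]; exact h0) (by rw [e1]; exact h1)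
  · intro a ha h0
    have e1 : ∀ y, Bf A (rep cs h v⁻¹ a) y = Bf A a (rep cs h v y) := fun y => by
      rw [← hbf v, rep_apply_inv]
    rcases P'.gd (rep cs h v⁻¹ a) (IsRoot.act ha _) (by rw [e1]; exact h0) with h1 | h1 | ⟨d, hd, h1, h2⟩
    · left; rw [← h1, rep_apply_inv]
    · right; left
      have : rep cs h v (rep cs h v⁻¹ a) = rep cs h v (-b') := by rw [h1]
      rwa [rep_apply_inv, map_neg] at this
    · right; right
      refine ⟨rep cs h v d, IsRoot.act hd _, by rw [hbf]; exact h1, ?_⟩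
      rw [← e1]; exact h2
  · intro u hu huX
    have h1 : k⁻¹ * u * k ∈ Wf D.rgd r V₀ r' := by
      have := B.eqv htr hk.inv (hr'.act v) hu
      rwa [rep_inv_apply, inv_inv] at this
    have h2 : k⁻¹ * u * k ∉ (X₀ r').map K.subtype := by
      intro h3
      apply huX
      have h4 := D.rgd.conj_rp hk hr'
      show u ∈ (X₀ (rep cs h v r')).map K.subtype
      rw [← h4, mem_cj]
      exact h3
    have h3 := P'.E _ h1 h2
    rw [← zk b' hb', ← zk r' hr']
    calc k * z b' * k⁻¹ * u * (k * z b' * k⁻¹) = k * (z b' * (k⁻¹ * u * k) * z b') * k⁻¹ := by group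
      _ = k * ((k⁻¹ * u * k) * z r') * k⁻¹ := by rw [h3]
      _ = u * (k * z r' * k⁻¹) := by group

/-- **`Base0` from `BaseG`.** -/
theorem base0 (D₀ : Datum (⊤ : Subgroup ↥K) 2 cs h T₀ n₀ X₀) (C : CT t K) {r b s g : I → ℤ} {V₀ : Subgroup G}
    (B : BaseG (dm D₀).rgd t r V₀) (H : IsoRt cs h r b s g) : Base0.Base0 (dm D₀).rgd t r V₀ := by
  have D := dm D₀
  refine ⟨B.root, B.XW, fun w hw => ?_, B.brk, B.cent, B.surj, ?_, B.nrm, B.tN⟩
  · rw [B.sq w hw]; exact one_mem _
  · intro a ha h0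
    rcases (show 1 ≤ Bf A a r ∨ Bf A a r = 0 by omega) with h1 | h1
    · exact B.WX a ha (Or.inl h1)
    · rcases H.gd a ha h1 with h2 | h2 | ⟨d, hd, h2, h3⟩
      · rw [h2]; exact comm_iso D₀ C B H
      · rw [h2]; exact comm_iso D₀ C B (H.neg D.h4 D.h6)
      · exact B.WX a ha (Or.inr ⟨h1, d, hd, h2, h3⟩)

end

end Cfsg.Agent.OddHalf.D7Ex.DLastOf

end
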