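import Cfsg.Agent.OddHalf.SL.Defs
import Cfsg.Agent.OddHalf.D7Ex.Setup

-- merged: Cfsg.Agent.OddHalf.D7Ex.Roots
section

/-!
# The unipotent radical `Q r = ⟨X b : (b, r) ≥ 1⟩` and `P r = ⟨X b : (b, r) ≥ 0⟩` of a simply laced group

`RG`: the facts on the root groups; `E2`: every `ξ : Q → X r` trivial on `X r` and `P`-invariant modulo `Inn Q` is inner.
-/

set_option autoImplicit false
set_option linter.style.haveILetI false
set_option linter.unusedSectionVars false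
set_option linter.unusedVariables false

namespace Cfsg.Agent.OddHalf.D7Ex

open Subgroup Cfsg.Agent.OddHalf.SL.Defs
open scoped commutatorElement

variable {L : Type*} [AddCommGroup L] {G : Type*} [Group G]

/-- Facts on the root groups. -/
structure RG (B : L → L → ℤ) (Φ : Set L) (X : L → Subgroup G) : Prop where
  roots : Roots B Φ
  X2 : ∀ r ∈ Φ, ∀ x ∈ X r, x * x = 1
  pos : ∀ a ∈ Φ, ∀ b ∈ Φ, 0 ≤ B a b → ∀ x ∈ X a, ∀ y ∈ X b, x * y = y * x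
  neg : ∀ a ∈ Φ, ∀ b ∈ Φ, B a b = -1 → ∀ x ∈ X a, ∀ y ∈ X b, x * y * x⁻¹ * y⁻¹ ∈ X (a + b)
  sur : ∀ a ∈ Φ, ∀ b ∈ Φ, B a b = -1 → ∀ x ∈ X a, x ≠ 1 → ∀ z ∈ X (a + b), ∃ y ∈ X b, x * y * x⁻¹ * y⁻¹ = z
  inj : ∀ a ∈ Φ, ∀ b ∈ Φ, B a b = -1 → ∀ x ∈ X a, ∀ y ∈ X b, x * y = y * x → x = 1 ∨ y = 1
  ne : ∀ r ∈ Φ, ∃ x ∈ X r, x ≠ 1
  /-- every root has a neighbour -/
  one : ∀ r ∈ Φ, ∃ b ∈ Φ, B b r = 1

/-- The roots `b` with `(b, r) = 1`. -/
def Ph1 (B : L → L → ℤ) (Φ : Set L) (r : L) : Set L := {b | b ∈ Φ ∧ B b r = 1}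

/-- `⟨X b : b ∈ S⟩ X r` -/
def QS (X : L → Subgroup G) (S : Set L) (r : L) : Subgroup G := (⨆ b ∈ S, X b) ⊔ X r

/-- `⟨X b : (b, r) ≥ 0⟩` -/
def PR (B : L → L → ℤ) (Φ : Set L) (X : L → Subgroup G) (r : L) : Subgroup G := ⨆ b ∈ {b | b ∈ Φ ∧ 0 ≤ B b r}, X b

theorem X_le_QS (X : L → Subgroup G) (S : Set L) (r : L) : X r ≤ QS X S r := le_sup_right

theorem le_QS (X : L → Subgroup G) {S : Set L} (r : L) {b : L} (hb : b ∈ S) : X b ≤ QS X S r :=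
  le_trans (le_iSup₂ (f := fun b (_ : b ∈ S) => X b) b hb) le_sup_left

theorem QS_mono (X : L → Subgroup G) {S S' : Set L} (r : L) (h : S ⊆ S') : QS X S r ≤ QS X S' r :=
  sup_le_sup_right (biSup_mono fun _ hb => h hb) _

theorem QS_le {X : L → Subgroup G} {S : Set L} {r : L} {D : Subgroup G} (h1 : X r ≤ D) (h2 : ∀ b ∈ S, X b ≤ D) :
    QS X S r ≤ D := sup_le (iSup₂_le h2) h1

theorem le_PR {B : L → L → ℤ} {Φ : Set L} (X : L → Subgroup G) {r b : L} (hb : b ∈ Φ) (h : 0 ≤ B b r) :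
    X b ≤ PR B Φ X r := le_iSup₂ (f := fun b (_ : b ∈ {b | b ∈ Φ ∧ 0 ≤ B b r}) => X b) b ⟨hb, h⟩

theorem PR_le {B : L → L → ℤ} {Φ : Set L} {X : L → Subgroup G} {r : L} {D : Subgroup G}
    (h : ∀ b ∈ Φ, 0 ≤ B b r → X b ≤ D) : PR B Φ X r ≤ D := iSup₂_le fun b hb => h b hb.1 hb.2

namespace RG

variable {B : L → L → ℤ} {Φ : Set L} {X : L → Subgroup G}

theorem inv_X (h : RG B Φ X) {r : L} (hr : r ∈ Φ) {x : G} (hx : x ∈ X r) : x⁻¹ = x :=
  inv_eq_of_mul_eq_one_left (h.X2 r hr x hx)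

/-- the possible values of the form -/
theorem cases (h : RG B Φ X) {a b : L} (ha : a ∈ Φ) (hb : b ∈ Φ) :
    0 ≤ B a b ∨ B a b = -1 ∨ a = -b := by
  have h1 := h.roots.ge ha hb
  by_cases h2 : B a b = -2
  · exact Or.inr (Or.inr (h.roots.eq_neg ha hb h2))
  · omega

theorem add_eq (h : RG B Φ X) {r a b : L} (hr : r ∈ Φ) (ha : a ∈ Ph1 B Φ r) (hb : b ∈ Ph1 B Φ r) (hab : B a b = -1) :
    a + b = r := by
  apply h.roots.eq _ (h.roots.add a ha.1 b hb.1 hab) _ hr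
  rw [h.roots.add_left, ha.2, hb.2]; norm_num

theorem sub_mem1 (h : RG B Φ X) {r b : L} (hr : r ∈ Φ) (hb : b ∈ Ph1 B Φ r) : r - b ∈ Ph1 B Φ r := by
  have h1 : B r b = 1 := by rw [h.roots.symm]; exact hb.2
  refine ⟨h.roots.sub_mem hr hb.1 h1, ?_⟩
  rw [h.roots.sub_left, h.roots.two r hr, hb.2]; norm_num

/-- `X a` and `X b` commute for `a, b ∈ Ph1`, `b ≠ r - a`. -/
theorem comm1 (h : RG B Φ X) {r a b : L} (hr : r ∈ Φ) (ha : a ∈ Ph1 B Φ r) (hb : b ∈ Ph1 B Φ r) (hab : a + b ≠ r)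
    {x y : G} (hx : x ∈ X a) (hy : y ∈ X b) : x * y = y * x := by
  rcases h.cases ha.1 hb.1 with h1 | h1 | h1
  · exact h.pos a ha.1 b hb.1 h1 x hx y hy
  · exact absurd (h.add_eq hr ha hb h1) hab
  · exfalso
    have h2 := ha.2
    rw [h1, h.roots.neg_left, hb.2] at h2
    omega

/-- `X r` centralises `P r`. -/
theorem XP (h : RG B Φ X) {r : L} (hr : r ∈ Φ) {x p : G} (hx : x ∈ X r) (hp : p ∈ PR B Φ X r) : x * p = p * x := by
  have hle : PR B Φ X r ≤ centralizer ({x} : Set G) := PR_le fun b hb h0 y hy => by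
    rw [mem_centralizer_singleton_iff]
    exact h.pos b hb r hr h0 y hy x hx
  exact (mem_centralizer_singleton_iff.1 (hle hp)).symm

theorem QS_le_PR (h : RG B Φ X) {r : L} (hr : r ∈ Φ) {S : Set L} (hS : S ⊆ Ph1 B Φ r) : QS X S r ≤ PR B Φ X r :=
  QS_le (le_PR X hr (by rw [h.roots.two r hr]; norm_num)) fun b hb => le_PR X (hS hb).1 (by
    rw [(hS hb).2]; norm_num)

/-- A generator of `P r` normalises `QS X S r` if `S` is stable. -/
theorem conj_QS (h : RG B Φ X) {r a : L} (hr : r ∈ Φ) (ha : a ∈ Φ) (ha0 : 0 ≤ B a r) {S : Set L}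
    (hS : S ⊆ Ph1 B Φ r) (hst : ∀ b ∈ S, B a b = -1 → a + b ∈ S ∨ a + b = r) {x q : G} (hx : x ∈ X a)
    (hq : q ∈ QS X S r) : x * q * x⁻¹ ∈ QS X S r := by
  have hle : QS X S r ≤ (QS X S r).comap (MulAut.conj x).toMonoidHom := by
    refine QS_le ?_ fun b hb y hy => ?_
    · intro y hy
      show x * y * x⁻¹ ∈ QS X S r
      rw [h.pos a ha r hr ha0 x hx y hy, mul_inv_cancel_right]
      exact X_le_QS X S r hy
    · show x * y * x⁻¹ ∈ QS X S r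
      rcases h.cases ha (hS hb).1 with h1 | h1 | h1
      · rw [h.pos a ha b (hS hb).1 h1 x hx y hy, mul_inv_cancel_right]
        exact le_QS X r hb hy
      · have h2 := h.neg a ha b (hS hb).1 h1 x hx y hy
        have e : x * y * x⁻¹ = (x * y * x⁻¹ * y⁻¹) * y := by group
        rw [e]
        refine mul_mem ?_ (le_QS X r hb hy)
        rcases hst b hb h1 with h3 | h3
        · exact le_QS X r h3 h2
        · rw [h3] at h2; exact X_le_QS X S r h2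
      · exfalso
        have h2 := (hS hb).2
        rw [h1, h.roots.neg_left, h2] at ha0
        omega
  exact hle hq

/-- `P r` normalises `Q r`. -/
theorem PQ (h : RG B Φ X) {r : L} (hr : r ∈ Φ) {p q : G} (hp : p ∈ PR B Φ X r) (hq : q ∈ QS X (Ph1 B Φ r) r) :
    p * q * p⁻¹ ∈ QS X (Ph1 B Φ r) r := by
  have hst : ∀ a ∈ Φ, 0 ≤ B a r → ∀ b ∈ Ph1 B Φ r, B a b = -1 → a + b ∈ Ph1 B Φ r ∨ a + b = r := by
    intro a ha ha0 b hb hab
    have h1 := h.roots.add a ha b hb.1 hab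
    have h2 := h.roots.le _ h1 r hr
    have h3 : B (a + b) r = B a r + 1 := by rw [h.roots.add_left, hb.2]
    by_cases h4 : B a r = 0
    · left; exact ⟨h1, by rw [h3, h4]; norm_num⟩
    · right
      exact h.roots.eq _ h1 _ hr (by omega)
  have key : ∀ a ∈ Φ, 0 ≤ B a r → ∀ x ∈ X a, x ∈ normalizer (QS X (Ph1 B Φ r) r : Set G) := by
    intro a ha ha0 x hx
    rw [mem_normalizer_iff]
    intro q
    constructor
    · exact fun hq => h.conj_QS hr ha ha0 subset_rfl (hst a ha ha0) hx hq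
    · intro hq
      have := h.conj_QS hr ha ha0 subset_rfl (hst a ha ha0) (inv_mem hx) hq
      have e : x⁻¹ * (x * q * x⁻¹) * x⁻¹⁻¹ = q := by group
      rwa [e] at this
  have hle : PR B Φ X r ≤ normalizer (QS X (Ph1 B Φ r) r : Set G) := PR_le fun a ha ha0 x hx => key a ha ha0 x hx
  exact (mem_normalizer_iff.1 (hle hp) q).1 hq

/-- The elements of `Q` commuting with `g` modulo `X r`. -/
def TT (h : RG B Φ X) {r : L} (hr : r ∈ Φ) {g : G} (hg : g ∈ QS X (Ph1 B Φ r) r) : Subgroup G where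
  carrier := {w | w ∈ QS X (Ph1 B Φ r) r ∧ g * w * g⁻¹ * w⁻¹ ∈ X r}
  one_mem' := ⟨one_mem _, by
    rw [mul_one, mul_inv_cancel, inv_one, mul_one]; exact one_mem _⟩
  mul_mem' := by
    rintro a b ⟨ha, ha2⟩ ⟨hb, hb2⟩
    refine ⟨mul_mem ha hb, ?_⟩
    have cen := h.XP hr hb2 (h.QS_le_PR hr subset_rfl ha)
    have e : g * (a * b) * g⁻¹ * (a * b)⁻¹ = (g * a * g⁻¹ * a⁻¹) * (a * (g * b * g⁻¹ * b⁻¹) * a⁻¹) := by group
    rw [e, ← cen, mul_inv_cancel_right]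
    exact mul_mem ha2 hb2
  inv_mem' := by
    rintro a ⟨ha, ha2⟩
    refine ⟨inv_mem ha, ?_⟩
    have cen := h.XP hr (inv_mem ha2) (h.QS_le_PR hr subset_rfl ha)
    have e : g * a⁻¹ * g⁻¹ * a⁻¹⁻¹ = a⁻¹ * ((g * a * g⁻¹ * a⁻¹)⁻¹ * a) := by
      group
    rw [e, cen, inv_mul_cancel_left]
    exact inv_mem ha2

/-- `[Q, Q] ≤ X r`. -/
theorem QQ (h : RG B Φ X) {r : L} (hr : r ∈ Φ) {v w : G} (hv : v ∈ QS X (Ph1 B Φ r) r)
    (hw : w ∈ QS X (Ph1 B Φ r) r) : v * w * v⁻¹ * w⁻¹ ∈ X r := by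
  have hQP := h.QS_le_PR hr (subset_rfl : Ph1 B Φ r ⊆ Ph1 B Φ r)
  have hc1 : ∀ x ∈ X r, ∀ w ∈ QS X (Ph1 B Φ r) r, x * w * x⁻¹ * w⁻¹ ∈ X r := fun x hx w hw => by
    have e : x * w * x⁻¹ * w⁻¹ = 1 := by rw [h.XP hr hx (hQP hw)]; group
    rw [e]; exact one_mem _
  have hc2 : ∀ x ∈ X r, ∀ w ∈ QS X (Ph1 B Φ r) r, w * x * w⁻¹ * x⁻¹ ∈ X r := fun x hx w hw => by
    have e : w * x * w⁻¹ * x⁻¹ = 1 := by rw [← h.XP hr hx (hQP hw)]; group
    rw [e]; exact one_mem _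
  have hgen : ∀ a ∈ Ph1 B Φ r, ∀ b ∈ Ph1 B Φ r, ∀ x ∈ X a, ∀ y ∈ X b, x * y * x⁻¹ * y⁻¹ ∈ X r := by
    intro a ha b hb x hx y hy
    by_cases hab : a + b = r
    · have h1 : B a b = -1 := by
        have h2 := h.roots.add_left a b b
        rw [hab, h.roots.symm, hb.2, h.roots.two b hb.1] at h2
        omega
      rw [← hab]
      exact h.neg a ha.1 b hb.1 h1 x hx y hy
    · have e : x * y * x⁻¹ * y⁻¹ = 1 := by rw [h.comm1 hr ha hb hab hx hy]; group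
      rw [e]; exact one_mem _
  have step1 : ∀ a ∈ Ph1 B Φ r, ∀ x ∈ X a, ∀ w ∈ QS X (Ph1 B Φ r) r, x * w * x⁻¹ * w⁻¹ ∈ X r := by
    intro a ha x hx w hw
    have hxQ := le_QS X r ha hx
    have hle : QS X (Ph1 B Φ r) r ≤ h.TT hr hxQ :=
      QS_le (fun y hy => ⟨X_le_QS X _ r hy, hc2 y hy x hxQ⟩)
        fun b hb y hy => ⟨le_QS X r hb hy, hgen a ha b hb x hx y hy⟩
    exact (hle hw).2
  have hle : QS X (Ph1 B Φ r) r ≤ h.TT hr hw := by
    refine QS_le (fun y hy => ⟨X_le_QS X _ r hy, hc2 y hy w hw⟩) fun b hb y hy => ⟨le_QS X r hb hy, ?_⟩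
    have h1 := inv_mem (step1 b hb y hy w hw)
    have e : (y * w * y⁻¹ * w⁻¹)⁻¹ = w * y * w⁻¹ * y⁻¹ := by group
    rwa [e] at h1
  have h1 := inv_mem (hle hv).2
  have e : (w * v * w⁻¹ * v⁻¹)⁻¹ = v * w * v⁻¹ * w⁻¹ := by group
  rwa [e] at h1

/-- `X r ≤ [Q, Q]`. -/
theorem XQQ (h : RG B Φ X) {r : L} (hr : r ∈ Φ) : X r ≤ ⁅QS X (Ph1 B Φ r) r, QS X (Ph1 B Φ r) r⁆ := by
  intro x hx
  obtain ⟨b, hb, hbr⟩ := h.one r hr
  have hb1 : b ∈ Ph1 B Φ r := ⟨hb, hbr⟩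
  have hs := h.sub_mem1 hr hb1
  obtain ⟨v, hv, hv1⟩ := h.ne b hb
  have h1 : B b (r - b) = -1 := by
    rw [h.roots.sub_right, hbr, h.roots.two b hb]; norm_num
  obtain ⟨y, hy, e⟩ := h.sur b hb _ hs.1 h1 v hv hv1 x (by rwa [add_sub_cancel])
  rw [← e, ← commutatorElement_def]
  exact commutator_mem_commutator (le_QS X r hb1 hv) (le_QS X r hs hy)

/-- `QS X S r` is normalised by `Q`. -/
theorem Q_norm (h : RG B Φ X) {r : L} (hr : r ∈ Φ) (S : Set L) {v q : G}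
    (hv : v ∈ QS X (Ph1 B Φ r) r) (hS : S ⊆ Ph1 B Φ r) (hq : q ∈ QS X S r) : v * q * v⁻¹ ∈ QS X S r := by
  have hqQ := QS_mono X r hS hq
  have e : v * q * v⁻¹ = (v * q * v⁻¹ * q⁻¹) * q := by group
  rw [e]
  exact mul_mem (X_le_QS X S r (h.QQ hr hv hqQ)) hq

/-- Splitting off one root. -/
theorem split (h : RG B Φ X) {r : L} (hr : r ∈ Φ) {S : Set L} (hS : S ⊆ Ph1 B Φ r) {b : L} (hb : b ∈ S) {q : G}
    (hq : q ∈ QS X S r) : ∃ x ∈ X b, ∃ q' ∈ QS X (S \ {b}) r, q = x * q' := by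
  have hS' : S \ {b} ⊆ Ph1 B Φ r := fun a ha => hS ha.1
  have hle : X b ≤ normalizer (QS X (S \ {b}) r : Set G) := by
    intro v hv
    have hvQ : v ∈ QS X (Ph1 B Φ r) r := le_QS X r (hS hb) hv
    rw [mem_normalizer_iff]
    intro q
    constructor
    · exact fun hq => h.Q_norm hr _ hvQ hS' hq
    · intro hq
      have := h.Q_norm hr _ (inv_mem hvQ) hS' hq
      have e : v⁻¹ * (v * q * v⁻¹) * v⁻¹⁻¹ = q := by group
      rwa [e] at this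
  have h1 : QS X S r ≤ X b ⊔ QS X (S \ {b}) r := by
    refine QS_le (le_trans (X_le_QS X _ r) le_sup_right) fun a ha => ?_
    by_cases hab : a = b
    · rw [hab]; exact le_sup_left
    · exact le_trans (le_QS X r (⟨ha, hab⟩ : a ∈ S \ {b})) le_sup_right
  have h2 := h1 hq
  rw [← SetLike.mem_coe, coe_mul_of_left_le_normalizer_right _ _ hle] at h2
  obtain ⟨x, hx, q', hq', e⟩ := h2
  exact ⟨x, hx, q', hq', e.symm⟩

/-- `QS X S r` commutes with `X (r - b)` for `b ∉ S`. -/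
theorem comm_of_not_mem (h : RG B Φ X) {r : L} (hr : r ∈ Φ) {S : Set L} (hS : S ⊆ Ph1 B Φ r) {b : L}
    (hb : b ∈ Ph1 B Φ r) (hbS : b ∉ S) {q y : G} (hq : q ∈ QS X S r) (hy : y ∈ X (r - b)) : q * y = y * q := by
  have hs := h.sub_mem1 hr hb
  have hle : QS X S r ≤ centralizer ({y} : Set G) := by
    refine QS_le (fun x hx => ?_) fun a ha x hx => ?_
    · rw [mem_centralizer_singleton_iff]
      exact h.XP hr hx (le_PR X hs.1 (by rw [hs.2]; norm_num) hy)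
    · rw [mem_centralizer_singleton_iff]
      refine h.comm1 hr (hS ha) hs ?_ hx hy
      intro h1
      apply hbS
      have : a = b := by rw [← sub_eq_zero]; rw [← add_sub_assoc, add_sub_right_comm, add_comm, add_eq_left] at h1; exact h1
      rwa [← this]
  exact (mem_centralizer_singleton_iff.1 (hle hq))

/-- If `q ∈ QS X S r` commutes with `X (r - b)`, then `q` has no component in `X b`. -/
theorem drop (h : RG B Φ X) {r : L} (hr : r ∈ Φ) {S : Set L} (hS : S ⊆ Ph1 B Φ r) {b : L} (hb : b ∈ S) {q : G}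
    (hq : q ∈ QS X S r) (hc : ∀ y ∈ X (r - b), q * y = y * q) : q ∈ QS X (S \ {b}) r := by
  obtain ⟨x, hx, q', hq', rfl⟩ := h.split hr hS hb hq
  have hb1 := hS hb
  have hs := h.sub_mem1 hr hb1
  have hS' : S \ {b} ⊆ Ph1 B Φ r := fun a ha => hS ha.1
  have h1 : B b (r - b) = -1 := by
    rw [h.roots.sub_right, hb1.2, h.roots.two b hb1.1]; norm_num
  obtain ⟨y, hy, hy1⟩ := h.ne (r - b) hs.1
  have h2 : q' * y = y * q' := h.comm_of_not_mem hr hS' hb1 (fun h => h.2 rfl) hq' hy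
  have h3 : x * y = y * x := by
    have h4 := hc y hy
    have h5 : x * y * q' = y * x * q' := by
      rw [mul_assoc x, ← h2, ← mul_assoc, h4, mul_assoc y x q']
    exact mul_right_cancel h5
  rcases h.inj b hb1.1 _ hs.1 h1 x hx y hy h3 with h6 | h6
  · rw [h6, one_mul]; exact hq'
  · exact absurd h6 hy1

/-- An element of `Q` lies in `QS X S r` iff it commutes with `X (r - b)`, `b ∉ S`. -/
theorem mem_QS (h : RG B Φ X) {r : L} (hr : r ∈ Φ) {S : Set L} {q : G}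
    (hq : q ∈ QS X (Ph1 B Φ r) r) (hc : ∀ b ∈ Ph1 B Φ r, b ∉ S → ∀ y ∈ X (r - b), q * y = y * q) :
    q ∈ QS X (Ph1 B Φ r ∩ S) r := by
  classical
  have hfin : (Ph1 B Φ r).Finite := h.roots.fin.subset fun _ hb => hb.1
  suffices H : ∀ F : Finset L, (F : Set L) ⊆ Ph1 B Φ r \ S → q ∈ QS X (Ph1 B Φ r \ F) r by
    have hfin2 : (Ph1 B Φ r \ S).Finite := hfin.subset Set.sdiff_subset
    have := H hfin2.toFinset (by rw [Set.Finite.coe_toFinset])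
    rw [Set.Finite.coe_toFinset] at this
    rwa [Set.sdiff_sdiff_right_self] at this
  intro F
  induction F using Finset.induction_on with
  | empty => intro _; simpa using hq
  | insert b F hbF ih =>
    intro hF
    rw [Finset.coe_insert, Set.insert_subset_iff] at hF
    have h1 := h.drop hr (S := Ph1 B Φ r \ F) Set.sdiff_subset (b := b) ⟨hF.1.1, hbF⟩ (ih hF.2)
      (hc b hF.1.1 hF.1.2)
    have e : (Ph1 B Φ r \ (F : Set L)) \ {b} = Ph1 B Φ r \ ((insert b F : Finset L) : Set L) := by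
      rw [Finset.coe_insert, Set.sdiff_sdiff]
      congr 1
      exact Set.union_singleton
    rwa [e] at h1

/-- `Z(Q) = X r`. -/
theorem ZQ (h : RG B Φ X) {r : L} (hr : r ∈ Φ) {q : G} (hq : q ∈ QS X (Ph1 B Φ r) r)
    (hc : ∀ v ∈ QS X (Ph1 B Φ r) r, q * v = v * q) : q ∈ X r := by
  have h1 := h.mem_QS hr (S := ∅) hq fun b hb _ y hy => hc y (le_QS X r (h.sub_mem1 hr hb) hy)
  rw [Set.inter_empty] at h1
  have h2 : QS X (∅ : Set L) r ≤ X r := QS_le le_rfl fun b hb => absurd hb (Set.notMem_empty b)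
  exact h2 h1

/-- `X b ∩ X r = 1` -/
theorem inf_eq (h : RG B Φ X) {r : L} (hr : r ∈ Φ) {b : L} (hb : b ∈ Ph1 B Φ r) {x : G} (hx : x ∈ X b)
    (hxr : x ∈ X r) : x = 1 := by
  have hs := h.sub_mem1 hr hb
  have h1 : B b (r - b) = -1 := by
    rw [h.roots.sub_right, hb.2, h.roots.two b hb.1]; norm_num
  obtain ⟨y, hy, hy1⟩ := h.ne (r - b) hs.1
  have h3 : x * y = y * x := h.XP hr hxr (le_PR X hs.1 (by rw [hs.2]; norm_num) hy)
  exact (h.inj b hb.1 _ hs.1 h1 x hx y hy h3).resolve_right hy1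

end RG

/-- A subgroup `Q ≤ P ≤ ⟨X b : (b, r) ≥ 0⟩` containing enough root groups. -/
structure PG (B : L → L → ℤ) (Φ : Set L) (X : L → Subgroup G) (r : L) (P : Subgroup G) : Prop where
  QP : QS X (Ph1 B Φ r) r ≤ P
  PPR : P ≤ PR B Φ X r
  ex : ∀ b ∈ Ph1 B Φ r, ∃ d ∈ Φ, X d ≤ P ∧ B d r = 0 ∧ B b d = 1

namespace RG

variable {B : L → L → ℤ} {Φ : Set L} {X : L → Subgroup G}

/-- `ξ` is inner on each root group. -/
theorem E2_aux (h : RG B Φ X) {r : L} (hr : r ∈ Φ) {P : Subgroup G} (hP : PG B Φ X r P) {f : G → G}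
    (hfX : ∀ v ∈ QS X (Ph1 B Φ r) r, f v ∈ X r)
    (hfm : ∀ v ∈ QS X (Ph1 B Φ r) r, ∀ w ∈ QS X (Ph1 B Φ r) r, f (v * w) = f v * f w)
    (hfP : ∀ p ∈ P, ∃ q ∈ QS X (Ph1 B Φ r) r, ∀ v ∈ QS X (Ph1 B Φ r) r,
      f (p * v * p⁻¹) = f v * (q * v * q⁻¹ * v⁻¹)) {b : L} (hb : b ∈ Ph1 B Φ r) :
    ∃ c ∈ X (r - b), ∀ u ∈ X b, f u = c * u * c⁻¹ * u⁻¹ := by
  obtain ⟨d, hd, hdP, hdr, hbd⟩ := hP.ex b hb
  obtain ⟨p, hp, hp1⟩ := h.ne d hd
  have R := h.roots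
  -- the root `a = b - d`
  have ha : b - d ∈ Φ := R.sub_mem hb.1 hd hbd
  have har : B (b - d) r = 1 := by rw [R.sub_left, hb.2, hdr]; norm_num
  have ha1 : b - d ∈ Ph1 B Φ r := ⟨ha, har⟩
  have hda : B d (b - d) = -1 := by rw [R.sub_right, R.symm d b, hbd, R.two d hd]; norm_num
  have hrb := h.sub_mem1 hr hb
  have hra := h.sub_mem1 hr ha1
  have hdrb : B d (r - b) = -1 := by rw [R.sub_right, hdr, R.symm d b, hbd]; norm_num
  obtain ⟨q, hq, hf⟩ := hfP p (hdP hp)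
  -- the component of `q` in `X (r - a)`
  obtain ⟨y, hy, q', hq', rfl⟩ := h.split hr (subset_rfl) hra hq
  have e1 : d + (r - b) = r - (b - d) := by abel
  obtain ⟨c, hc, e⟩ := h.sur d hd _ hrb.1 hdrb p hp hp1 y (by rw [e1]; exact hy)
  refine ⟨c, hc, fun u hu => ?_⟩
  obtain ⟨x, hx, eu⟩ := h.sur d hd _ ha hda p hp hp1 u (by rw [add_sub_cancel]; exact hu)
  have hxQ : x ∈ QS X (Ph1 B Φ r) r := le_QS X r ha1 hx
  have huQ : u ∈ QS X (Ph1 B Φ r) r := le_QS X r hb hu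
  -- `f u = ⁅y q', x⁆ = ⁅y, x⁆`
  have h1 := hf x hxQ
  have e2 : p * x * p⁻¹ = u * x := by rw [← eu]; group
  rw [e2, hfm u huQ x hxQ] at h1
  have hfc : f u * f x = f x * f u := h.XP hr (hfX u huQ) (h.QS_le_PR hr subset_rfl (X_le_QS X _ r (hfX x hxQ)))
  rw [hfc] at h1
  have h2 : f u = (y * q') * x * (y * q')⁻¹ * x⁻¹ := mul_left_cancel h1
  have h3 : q' * x = x * q' := by
    refine h.comm_of_not_mem hr (S := Ph1 B Φ r \ {r - (b - d)}) Set.sdiff_subset hra (fun h => h.2 rfl) hq' ?_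
    rwa [sub_sub_cancel]
  have h4 : f u = y * x * y⁻¹ * x⁻¹ := by
    rw [h2]
    calc (y * q') * x * (y * q')⁻¹ * x⁻¹ = y * (q' * x) * q'⁻¹ * y⁻¹ * x⁻¹ := by group
      _ = _ := by rw [h3]; group
  -- `⁅y, x⁆ = ⁅c, u⁆`
  have hcx : c * x = x * c := by
    refine h.pos _ hrb.1 _ ha ?_ c hc x hx
    rw [R.sub_left, R.symm r, har, R.sub_right, R.two b hb.1, hbd]; norm_num
  have hyu : y * u = u * y := by
    refine h.pos _ hra.1 _ hb.1 ?_ y hy u hu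
    rw [R.sub_left, R.symm r, hb.2, R.sub_left, R.two b hb.1, R.symm d b, hbd]; norm_num
  have epc : p * c * p⁻¹ = y * c := by rw [← e]; group
  have h5 : y * c * (u * x) = u * x * (y * c) := by
    rw [← e2, ← epc]
    calc p * c * p⁻¹ * (p * x * p⁻¹) = p * (c * x) * p⁻¹ := by group
      _ = p * (x * c) * p⁻¹ := by rw [hcx]
      _ = _ := by group
  -- central elements
  have hcu : c * u * c⁻¹ * u⁻¹ ∈ X r := h.QQ hr (le_QS X r hrb hc) huQ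
  have hxy : x * y * x⁻¹ * y⁻¹ ∈ X r := h.QQ hr hxQ (le_QS X r hra hy)
  have hy' : y ∈ PR B Φ X r := h.QS_le_PR hr subset_rfl (le_QS X r hra hy)
  have hu' : u ∈ PR B Φ X r := h.QS_le_PR hr subset_rfl (le_QS X r hb hu)
  have h6 : (c * u * c⁻¹ * u⁻¹) * (y * u * c * x) = (x * y * x⁻¹ * y⁻¹) * (u * y * c * x) := by
    calc (c * u * c⁻¹ * u⁻¹) * (y * u * c * x) = ((c * u * c⁻¹ * u⁻¹) * y) * u * c * x := by group
      _ = y * (c * u * x) := by rw [h.XP hr hcu hy']; group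
      _ = y * c * (u * x) := by group
      _ = u * x * (y * c) := h5
      _ = u * (x * y * x⁻¹ * y⁻¹) * (y * x * c) := by group
      _ = (x * y * x⁻¹ * y⁻¹) * u * (y * (c * x)) := by rw [← h.XP hr hxy hu', hcx]; group
      _ = _ := by group
  rw [hyu] at h6
  have h7 := mul_right_cancel h6
  rw [h4, h7]
  have h8 := h.inv_X hr hxy
  rw [← h8]; group

/-- Every `P`-invariant class of homomorphisms `Q/X → X` modulo inner ones is trivial. -/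
theorem E2 (h : RG B Φ X) {r : L} (hr : r ∈ Φ) {P : Subgroup G} (hP : PG B Φ X r P) (f : G → G)
    (hfX : ∀ v ∈ QS X (Ph1 B Φ r) r, f v ∈ X r)
    (hfm : ∀ v ∈ QS X (Ph1 B Φ r) r, ∀ w ∈ QS X (Ph1 B Φ r) r, f (v * w) = f v * f w)
    (hf1 : ∀ x ∈ X r, f x = 1)
    (hfP : ∀ p ∈ P, ∃ q ∈ QS X (Ph1 B Φ r) r, ∀ v ∈ QS X (Ph1 B Φ r) r,
      f (p * v * p⁻¹) = f v * (q * v * q⁻¹ * v⁻¹)) :
    ∃ q ∈ QS X (Ph1 B Φ r) r, ∀ v ∈ QS X (Ph1 B Φ r) r, f v = q * v * q⁻¹ * v⁻¹ := by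
  classical
  have R := h.roots
  have hfin : (Ph1 B Φ r).Finite := h.roots.fin.subset fun _ hb => hb.1
  have H : ∀ F : Finset L, (F : Set L) ⊆ Ph1 B Φ r → ∃ q ∈ QS X (Ph1 B Φ r) r,
      (∀ b ∈ F, ∀ v ∈ X b, f v = q * v * q⁻¹ * v⁻¹) ∧
      (∀ b ∈ Ph1 B Φ r, b ∉ F → ∀ v ∈ X b, q * v * q⁻¹ * v⁻¹ = 1) := by
    intro F
    induction F using Finset.induction_on with
    | empty =>
      intro _
      exact ⟨1, one_mem _, fun b hb => absurd hb (Finset.notMem_empty b), fun b _ _ v _ => by group⟩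
    | insert b F hbF ih =>
      intro hF
      rw [Finset.coe_insert, Set.insert_subset_iff] at hF
      obtain ⟨q, hq, h1, h2⟩ := ih hF.2
      obtain ⟨c, hc, h3⟩ := h.E2_aux hr hP hfX hfm hfP hF.1
      have hrb := h.sub_mem1 hr hF.1
      -- `c` commutes with `X b'`, `b' ≠ b`
      have hcc : ∀ b' ∈ Ph1 B Φ r, b' ≠ b → ∀ v ∈ X b', c * v = v * c := by
        intro b' hb' hne v hv
        refine h.comm1 hr hrb hb' ?_ hc hv
        intro h4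
        apply hne
        have h6 : b' = r - (r - b) := eq_sub_of_add_eq (by rw [add_comm]; exact h4)
        rw [h6, sub_sub_cancel]
      have hcom : ∀ v ∈ QS X (Ph1 B Φ r) r, (c * q) * v * (c * q)⁻¹ * v⁻¹ =
          (q * v * q⁻¹ * v⁻¹) * (c * v * c⁻¹ * v⁻¹) := by
        intro v hv
        have h4 := h.QQ hr hq hv
        have hcP : c ∈ PR B Φ X r := h.QS_le_PR hr subset_rfl (le_QS X r hrb hc)
        calc (c * q) * v * (c * q)⁻¹ * v⁻¹ = c * (q * v * q⁻¹ * v⁻¹) * (v * c⁻¹ * v⁻¹) := by group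
          _ = _ := by rw [← h.XP hr h4 hcP]; group
      refine ⟨c * q, mul_mem (le_QS X r hrb hc) hq, fun b' hb' v hv => ?_, fun b' hb' hn v hv => ?_⟩
      · rcases Finset.mem_insert.1 hb' with rfl | hb'
        · rw [hcom v (le_QS X r hF.1 hv), h2 b' hF.1 hbF v hv, one_mul]
          exact h3 v hv
        · have hne : b' ≠ b := fun h => hbF (h ▸ hb')
          have hb1 := hF.2 hb'
          rw [hcom v (le_QS X r hb1 hv), ← h1 b' hb' v hv, hcc b' hb1 hne v hv]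
          group
      · have hne : b' ≠ b := fun h => hn (h ▸ Finset.mem_insert_self _ _)
        have hn' : b' ∉ F := fun h => hn (Finset.mem_insert_of_mem h)
        rw [hcom v (le_QS X r hb' hv), h2 b' hb' hn' v hv, hcc b' hb' hne v hv]
        group
  obtain ⟨q, hq, h1, -⟩ := H hfin.toFinset (by rw [Set.Finite.coe_toFinset])
  refine ⟨q, hq, fun v hv => ?_⟩
  -- the elements where `f` and the inner map agree
  have hqP : q ∈ PR B Φ X r := h.QS_le_PR hr subset_rfl hq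
  have hf1' : f 1 = 1 := hf1 1 (one_mem _)
  let D : Subgroup G :=
    { carrier := {v | v ∈ QS X (Ph1 B Φ r) r ∧ f v = q * v * q⁻¹ * v⁻¹}
      one_mem' := ⟨one_mem _, by rw [hf1']; group⟩
      mul_mem' := by
        rintro a b ⟨ha, ha2⟩ ⟨hb, hb2⟩
        refine ⟨mul_mem ha hb, ?_⟩
        have h3 := h.XP hr (h.QQ hr hq hb) (h.QS_le_PR hr subset_rfl ha)
        rw [hfm a ha b hb, ha2, hb2]
        calc q * a * q⁻¹ * a⁻¹ * (q * b * q⁻¹ * b⁻¹) = q * a * q⁻¹ * a⁻¹ * ((q * b * q⁻¹ * b⁻¹) * a) * a⁻¹ := by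
              group
          _ = _ := by rw [h3]; group
      inv_mem' := by
        rintro a ⟨ha, ha2⟩
        refine ⟨inv_mem ha, ?_⟩
        have h4 := hfm a ha a⁻¹ (inv_mem ha)
        rw [mul_inv_cancel, hf1', ha2] at h4
        have h3 := h.XP hr (h.QQ hr hq ha) (h.QS_le_PR hr subset_rfl (inv_mem ha))
        have h5 : f a⁻¹ = (q * a * q⁻¹ * a⁻¹)⁻¹ := eq_inv_of_mul_eq_one_right h4.symm
        rw [h5]
        calc (q * a * q⁻¹ * a⁻¹)⁻¹ = (a⁻¹ * (q * a * q⁻¹ * a⁻¹) * a)⁻¹ := by rw [← h3]; group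
          _ = _ := by group }
  have hle : QS X (Ph1 B Φ r) r ≤ D := by
    refine QS_le (fun x hx => ⟨X_le_QS X _ r hx, ?_⟩) fun b hb x hx => ⟨le_QS X r hb hx, ?_⟩
    · rw [hf1 x hx, ← h.XP hr hx hqP]; group
    · exact h1 b (by rw [Set.Finite.mem_toFinset]; exact hb) x hx
  exact (hle hv).2

end RG

end Cfsg.Agent.OddHalf.D7Ex

end

-- merged: Cfsg.Agent.OddHalf.D7Ex.Lin
section

/-!
# A 2-element commuting with `P` on `Q/X` is trivial there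
-/

set_option autoImplicit false
set_option linter.style.haveILetI false
set_option linter.unusedSectionVars false
set_option linter.unusedVariables false

namespace Cfsg.Agent.OddHalf.D7Ex

open Subgroup Cfsg.Agent.OddHalf.SL.Defs
open scoped commutatorElement

section Fix

variable {G : Type*} [Group G]

/-- A 2-element normalising `A Z` and `Z` fixes a nontrivial coset `a Z`. -/
theorem exists_fix {A Z : Subgroup G} [Finite A] {n : G} {k : ℕ} (hn : n ^ 2 ^ k = 1)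
    (hA : 2 ∣ Nat.card A) (hAZ : ∀ x ∈ A, x ∈ Z → x = 1) (hZn : ∀ z ∈ Z, n * z * n⁻¹ ∈ Z)
    (hdec : ∀ u ∈ A, ∃ u' ∈ A, ∃ z ∈ Z, n * u * n⁻¹ = u' * z) :
    ∃ u ∈ A, u ≠ 1 ∧ u⁻¹ * (n * u * n⁻¹) ∈ Z := by
  classical
  haveI : Fintype A := Fintype.ofFinite A
  haveI : Fact (Nat.Prime 2) := ⟨Nat.prime_two⟩
  choose! g hgA z hz hg using hdec
  let f : Function.End A := fun u => ⟨g u, hgA u u.2⟩
  have huniq : ∀ u ∈ A, ∀ v ∈ A, ∀ z ∈ Z, u = v * z → u = v := by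
    intro u hu v hv z hz e
    have h1 : v⁻¹ * u = 1 := hAZ _ (mul_mem (inv_mem hv) hu) (by rw [e, inv_mul_cancel_left]; exact hz)
    exact (inv_mul_eq_one.1 h1).symm
  have hpow : ∀ j : ℕ, ∀ u : A, ∃ z ∈ Z, n ^ j * (u : G) * (n ^ j)⁻¹ = ((f ^ j) u : A) * z := by
    intro j
    induction j with
    | zero =>
      intro u
      refine ⟨1, one_mem _, ?_⟩
      have e0 : ((f ^ 0) u : A) = u := by rw [pow_zero]; rfl
      rw [e0, pow_zero]; group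
    | succ j ih =>
      intro u
      obtain ⟨z1, hz1, e1⟩ := ih u
      have e2 := hg ((f ^ j) u : A) ((f ^ j) u).2
      refine ⟨z ((f ^ j) u : A) * (n * z1 * n⁻¹), mul_mem (hz _ ((f ^ j) u).2) (hZn z1 hz1), ?_⟩
      have e3 : ((f ^ (j + 1)) u : A) = f ((f ^ j) u) := by
        rw [pow_succ' f j]; rfl
      rw [e3]
      show n ^ (j + 1) * (u : G) * (n ^ (j + 1))⁻¹ = g ((f ^ j) u : A) * (z ((f ^ j) u : A) * (n * z1 * n⁻¹))
      calc n ^ (j + 1) * (u : G) * (n ^ (j + 1))⁻¹ = n * (n ^ j * (u : G) * (n ^ j)⁻¹) * n⁻¹ := by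
            rw [pow_succ' n j]; group
        _ = (n * ((f ^ j) u : A) * n⁻¹) * (n * z1 * n⁻¹) := by rw [e1]; group
        _ = _ := by rw [e2]; group
  have hf : f ^ 2 ^ k = 1 := by
    funext u
    obtain ⟨z1, hz1, e1⟩ := hpow (2 ^ k) u
    rw [hn, one_mul, inv_one, mul_one] at e1
    exact Subtype.ext (huniq _ u.2 _ ((f ^ 2 ^ k) u).2 z1 hz1 e1).symm
  have hf1 : f 1 = 1 := by
    have e1 := hg 1 (one_mem _)
    rw [mul_one, mul_inv_cancel] at e1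
    exact Subtype.ext (huniq 1 (one_mem _) _ (hgA 1 (one_mem _)) _ (hz 1 (one_mem _)) e1).symm
  have hcard := Equiv.Perm.card_fixedPoints_modEq hf
  rw [Nat.card_eq_fintype_card] at hA
  have h2 : 2 ∣ Fintype.card f.fixedPoints := (Nat.modEq_zero_iff_dvd.1
    (hcard.symm.trans (Nat.modEq_zero_iff_dvd.2 hA)))
  have h1mem : (1 : A) ∈ f.fixedPoints := hf1
  have h3 : 1 < Fintype.card f.fixedPoints := by
    have : 0 < Fintype.card f.fixedPoints := Fintype.card_pos_iff.2 ⟨⟨1, h1mem⟩⟩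
    omega
  obtain ⟨⟨u, hu⟩, hne⟩ := Fintype.exists_ne_of_one_lt_card h3 ⟨1, h1mem⟩
  have hu' : f u = u := hu
  refine ⟨u, u.2, fun h => hne (Subtype.ext (Subtype.ext h)), ?_⟩
  have e1 := hg u u.2
  have e2 : g u = u := congrArg Subtype.val hu'
  rw [e1, e2, inv_mul_cancel_left]
  exact hz u u.2

end Fix

variable {L : Type*} [AddCommGroup L] {G : Type*} [Group G]

/-- The subgroup `⟨X b : (b, r) = 1 = (b, d)⟩ X r`. -/
def Rd (B : L → L → ℤ) (Φ : Set L) (X : L → Subgroup G) (r d : L) : Subgroup G :=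
  QS X {b | b ∈ Ph1 B Φ r ∧ B b d = 1} r

/-- Enough root groups in `P` to separate, and enough torus. -/
structure PT (B : L → L → ℤ) (Φ : Set L) (X : L → Subgroup G) (r : L) (P : Subgroup G) : Prop where
  sep : ∀ b ∈ Ph1 B Φ r, ∀ b' ∈ Ph1 B Φ r, b' ≠ b → ∃ d ∈ Φ, X d ≤ P ∧ B d r = 0 ∧ B b d = 1 ∧ B b' d ≠ 1
  tor : ∀ b ∈ Ph1 B Φ r, ∀ x ∈ X b, ∀ y ∈ X b, x ≠ 1 → y ≠ 1 → ∃ p ∈ P, p * x * p⁻¹ = y

namespace RG

variable {B : L → L → ℤ} {Φ : Set L} {X : L → Subgroup G}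

/-- `[X d, Q] ≤ Rd`. -/
theorem comm_mem_Rd (h : RG B Φ X) {r d : L} (hr : r ∈ Φ) (hd : d ∈ Φ) (hdr : B d r = 0) {p q : G} (hp : p ∈ X d)
    (hq : q ∈ QS X (Ph1 B Φ r) r) : p * q * p⁻¹ * q⁻¹ ∈ Rd B Φ X r d := by
  have hS : {b | b ∈ Ph1 B Φ r ∧ B b d = 1} ⊆ Ph1 B Φ r := fun b hb => hb.1
  let D : Subgroup G :=
    { carrier := {q | q ∈ QS X (Ph1 B Φ r) r ∧ p * q * p⁻¹ * q⁻¹ ∈ Rd B Φ X r d}
      one_mem' := ⟨one_mem _, by rw [mul_one, mul_inv_cancel, inv_one, mul_one]; exact one_mem _⟩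
      mul_mem' := by
        rintro a b ⟨ha, ha2⟩ ⟨hb, hb2⟩
        refine ⟨mul_mem ha hb, ?_⟩
        have e : p * (a * b) * p⁻¹ * (a * b)⁻¹ = (p * a * p⁻¹ * a⁻¹) * (a * (p * b * p⁻¹ * b⁻¹) * a⁻¹) := by group
        rw [e]
        exact mul_mem ha2 (h.Q_norm hr _ ha hS hb2)
      inv_mem' := by
        rintro a ⟨ha, ha2⟩
        refine ⟨inv_mem ha, ?_⟩
        have e : p * a⁻¹ * p⁻¹ * a⁻¹⁻¹ = a⁻¹ * (p * a * p⁻¹ * a⁻¹)⁻¹ * a⁻¹⁻¹ := by group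
        rw [e]
        exact h.Q_norm hr _ (inv_mem ha) hS (inv_mem ha2) }
  have hle : QS X (Ph1 B Φ r) r ≤ D := by
    refine QS_le (fun x hx => ⟨X_le_QS X _ r hx, ?_⟩) fun b hb x hx => ⟨le_QS X r hb hx, ?_⟩
    · have e : p * x * p⁻¹ * x⁻¹ = 1 := by
        rw [h.pos d hd r hr (by rw [hdr]) p hp x hx]; group
      rw [e]; exact one_mem _
    · rcases h.cases hd hb.1 with h1 | h1 | h1
      · have e : p * x * p⁻¹ * x⁻¹ = 1 := by
          rw [h.pos d hd b hb.1 h1 p hp x hx]; group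
        rw [e]; exact one_mem _
      · have h2 := h.roots.add d hd b hb.1 h1
        refine le_QS X (S := {b | b ∈ Ph1 B Φ r ∧ B b d = 1}) r ⟨⟨h2, ?_⟩, ?_⟩ (h.neg d hd b hb.1 h1 p hp x hx)
        · rw [h.roots.add_left, hdr, hb.2]; norm_num
        · rw [h.roots.add_left, h.roots.two d hd, h.roots.symm b d, h1]; norm_num
      · exfalso
        rw [h1, h.roots.neg_left, hb.2] at hdr
        omega
  exact (hle hq).2

/-- An element trivial on `P/Q` normalises `Rd`. -/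
theorem conj_mem_Rd (h : RG B Φ X) {r d : L} (hr : r ∈ Φ) (hd : d ∈ Φ) (hdr : B d r = 0) {P : Subgroup G}
    (hdP : X d ≤ P) {n : G} (hnQ : ∀ q ∈ QS X (Ph1 B Φ r) r, n * q * n⁻¹ ∈ QS X (Ph1 B Φ r) r)
    (hnP : ∀ p ∈ P, n * p * n⁻¹ * p⁻¹ ∈ QS X (Ph1 B Φ r) r) {b : L} (hb : b ∈ Ph1 B Φ r) (hbd : B b d = 1)
    {u : G} (hu : u ∈ X b) : n * u * n⁻¹ ∈ Rd B Φ X r d := by
  have R := h.roots
  have hS : {b | b ∈ Ph1 B Φ r ∧ B b d = 1} ⊆ Ph1 B Φ r := fun b hb => hb.1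
  have ha : b - d ∈ Φ := R.sub_mem hb.1 hd hbd
  have ha1 : b - d ∈ Ph1 B Φ r := ⟨ha, by rw [R.sub_left, hb.2, hdr]; norm_num⟩
  have hda : B d (b - d) = -1 := by rw [R.sub_right, R.symm d b, hbd, R.two d hd]; norm_num
  obtain ⟨p, hp, hp1⟩ := h.ne d hd
  obtain ⟨x, hx, eu⟩ := h.sur d hd _ ha hda p hp hp1 u (by rw [add_sub_cancel]; exact hu)
  have hx' := hnQ x (le_QS X r ha1 hx)
  have hq1 := hnP p (hdP hp)
  set x' := n * x * n⁻¹ with hx'd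
  set q1 := n * p * n⁻¹ * p⁻¹ with hq1d
  have e : n * u * n⁻¹ = q1 * (p * x' * p⁻¹ * x'⁻¹) * q1⁻¹ * (q1 * x' * q1⁻¹ * x'⁻¹) := by
    rw [← eu, hq1d, hx'd]; group
  rw [e]
  exact mul_mem (h.Q_norm hr _ hq1 hS (h.comm_mem_Rd hr hd hdr hp hx'))
    (X_le_QS X _ r (h.QQ hr hq1 hx'))

/-- An element trivial on `P/Q` normalises `X b X r`. -/
theorem conj_mem_b (h : RG B Φ X) {r : L} (hr : r ∈ Φ) {P : Subgroup G} (hT : PT B Φ X r P) {n : G}
    (hnQ : ∀ q ∈ QS X (Ph1 B Φ r) r, n * q * n⁻¹ ∈ QS X (Ph1 B Φ r) r)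
    (hnP : ∀ p ∈ P, n * p * n⁻¹ * p⁻¹ ∈ QS X (Ph1 B Φ r) r) {b : L} (hb : b ∈ Ph1 B Φ r)
    {u : G} (hu : u ∈ X b) : ∃ u' ∈ X b, ∃ z ∈ X r, n * u * n⁻¹ = u' * z := by
  have h1 : n * u * n⁻¹ ∈ QS X (Ph1 B Φ r ∩ {b}) r := by
    refine h.mem_QS hr (hnQ u (le_QS X r hb hu)) fun b' hb' hne y hy => ?_
    obtain ⟨d, hd, hdP, hdr, hbd, hbd'⟩ := hT.sep b hb b' hb' hne
    exact h.comm_of_not_mem hr (S := {b | b ∈ Ph1 B Φ r ∧ B b d = 1}) (fun b hb => hb.1) hb'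
      (fun h => hbd' h.2) (h.conj_mem_Rd hr hd hdr hdP hnQ hnP hb hbd hu) hy
  have hbm : b ∈ Ph1 B Φ r ∩ {b} := ⟨hb, rfl⟩
  have hsub : Ph1 B Φ r ∩ {b} ⊆ Ph1 B Φ r := Set.inter_subset_left
  obtain ⟨u', hu', z, hz, e⟩ := h.split hr hsub hbm h1
  have h2 : QS X ((Ph1 B Φ r ∩ {b}) \ {b}) r ≤ X r := QS_le le_rfl fun c hc => absurd hc.1.2 hc.2
  exact ⟨u', hu', z, h2 hz, e⟩

/-- A 2-element commuting with `P` on `Q/X` is trivial there. -/
theorem lin (h : RG B Φ X) [Finite G] {r : L} (hr : r ∈ Φ) {P : Subgroup G} (hPP : P ≤ PR B Φ X r)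
    (hT : PT B Φ X r P) {n : G}
    (hn2 : IsPGroup 2 (zpowers n))
    (hnQ : ∀ q ∈ QS X (Ph1 B Φ r) r, n * q * n⁻¹ ∈ QS X (Ph1 B Φ r) r) (hnX : ∀ x ∈ X r, n * x * n⁻¹ ∈ X r)
    (hnP : ∀ p ∈ P, n * p * n⁻¹ * p⁻¹ ∈ QS X (Ph1 B Φ r) r) {q : G} (hq : q ∈ QS X (Ph1 B Φ r) r) :
    n * q * n⁻¹ * q⁻¹ ∈ X r := by
  obtain ⟨k, hk⟩ := hn2 ⟨n, mem_zpowers n⟩
  have hk' : n ^ 2 ^ k = 1 := congrArg Subtype.val hk
  -- on `X b`
  have hb : ∀ b ∈ Ph1 B Φ r, ∀ u ∈ X b, n * u * n⁻¹ * u⁻¹ ∈ X r := by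
    intro b hb u hu
    by_cases hu1 : u = 1
    · rw [hu1, mul_one, mul_inv_cancel, inv_one, mul_one]; exact one_mem _
    have hcard : 2 ∣ Nat.card (X b) := by
      have h1 : orderOf u = 2 := orderOf_eq_prime (by rw [pow_two]; exact h.X2 b hb.1 u hu) hu1
      rw [← h1, ← Subgroup.orderOf_mk u hu]
      exact orderOf_dvd_natCard _
    obtain ⟨u0, hu0, hu01, hfix⟩ := exists_fix (Z := X r) hk' hcard (fun x hx hx' => h.inf_eq hr hb hx hx') hnX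
      (fun u hu => h.conj_mem_b hr hT hnQ hnP hb hu)
    obtain ⟨p, hp, e⟩ := hT.tor b hb u0 hu0 u hu hu01 hu1
    have hq1 := hnP p hp
    set q1 := n * p * n⁻¹ * p⁻¹ with hq1d
    set z := u0⁻¹ * (n * u0 * n⁻¹) with hzd
    have huQ : u ∈ QS X (Ph1 B Φ r) r := le_QS X r hb hu
    have hzu := h.XP hr hfix (h.QS_le_PR hr subset_rfl huQ)
    have hzp := h.XP hr hfix (inv_mem (hPP hp))
    have e2 : n * u * n⁻¹ * u⁻¹ = (q1 * u * q1⁻¹ * u⁻¹) * z := by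
      calc n * u * n⁻¹ * u⁻¹ = (q1 * p) * (u0 * z) * (q1 * p)⁻¹ * u⁻¹ := by
            rw [← e, hq1d, hzd]; group
        _ = q1 * p * u0 * (z * p⁻¹) * q1⁻¹ * u⁻¹ := by group
        _ = q1 * (p * u0 * p⁻¹) * (z * q1⁻¹) * u⁻¹ := by rw [hzp]; group
        _ = q1 * u * q1⁻¹ * (z * u⁻¹) := by
          rw [e, h.XP hr hfix (h.QS_le_PR hr subset_rfl (inv_mem hq1))]; group
        _ = _ := by rw [h.XP hr hfix (h.QS_le_PR hr subset_rfl (inv_mem huQ))]; group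
    rw [e2]
    exact mul_mem (h.QQ hr hq1 huQ) hfix
  let D : Subgroup G :=
    { carrier := {q | q ∈ QS X (Ph1 B Φ r) r ∧ n * q * n⁻¹ * q⁻¹ ∈ X r}
      one_mem' := ⟨one_mem _, by rw [mul_one, mul_inv_cancel, inv_one, mul_one]; exact one_mem _⟩
      mul_mem' := by
        rintro a b ⟨ha, ha2⟩ ⟨hb, hb2⟩
        refine ⟨mul_mem ha hb, ?_⟩
        have e : n * (a * b) * n⁻¹ * (a * b)⁻¹ = (n * a * n⁻¹ * a⁻¹) * (a * (n * b * n⁻¹ * b⁻¹) * a⁻¹) := by group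
        rw [e, ← h.XP hr hb2 (h.QS_le_PR hr subset_rfl ha), mul_inv_cancel_right]
        exact mul_mem ha2 hb2
      inv_mem' := by
        rintro a ⟨ha, ha2⟩
        refine ⟨inv_mem ha, ?_⟩
        have e : n * a⁻¹ * n⁻¹ * a⁻¹⁻¹ = a⁻¹ * ((n * a * n⁻¹ * a⁻¹)⁻¹ * a) := by group
        rw [e, h.XP hr (inv_mem ha2) (h.QS_le_PR hr subset_rfl ha), inv_mul_cancel_left]
        exact inv_mem ha2 }
  have hle : QS X (Ph1 B Φ r) r ≤ D := by
    refine QS_le (fun x hx => ⟨X_le_QS X _ r hx, mul_mem (hnX x hx) (inv_mem hx)⟩) fun b hb' x hx =>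
      ⟨le_QS X r hb' hx, hb b hb' x hx⟩
  exact (hle hq).2

end RG

end Cfsg.Agent.OddHalf.D7Ex

end
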