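import Cfsg.Agent.OddHalf.D7Ex.Move
import Cfsg.Agent.OddHalf.SL.Defs
import Cfsg.Agent.OddHalf.D7Ex.Lin
import Cfsg.Agent.OddHalf.D7Ex.Norm

-- merged: Cfsg.Agent.OddHalf.D7Ex.MoveH
section

/-!
# Existence of the doubled root group, `q > 2`, with a torus element (helper991)

No linearity of the action on `Q/X`: it is enough that one `h ∈ C4`, fixed point free on `X`, commutes with `C4` modulo
`D`. (For `A₃` the 2-elements of `C4` can act nontrivially on `Q/X`.)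

* `exists_moveAux` : abstract form;
* `Setup.exists_moveH`, `Setup.exists_cent_of_h`.
-/

set_option autoImplicit false

namespace Cfsg.Agent.OddHalf.D7Ex

open Subgroup

variable {G : Type*} [Group G]

/-- `D, C ⊴ N`, `N` transitive on `tX`, `h ∈ C` centralises `t`, is fixed point free on `X` and `[C, h] ≤ D`: then `D`
moves `t`. -/
theorem exists_moveAux {t h : G} {X N C D : Subgroup G} (ht : h * t = t * h)
    (htr : ∀ x ∈ X, ∃ m ∈ N, m * t * m⁻¹ = t * x)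
    (hC : ∀ n ∈ N, ∀ c ∈ C, n * c * n⁻¹ ∈ C) (hD : ∀ n ∈ N, ∀ d ∈ D, n * d * n⁻¹ ∈ D)
    (hCt : ∀ c ∈ C, t * (c * t * c⁻¹) ∈ X) (tt : t * t = 1)
    (hhC : h ∈ C) (hfix : ∀ x ∈ X, h * x = x * h → x = 1) (hcD : ∀ c ∈ C, h * c * h⁻¹ * c⁻¹ ∈ D)
    (hne : ∃ x ∈ X, x ≠ 1) : ∃ d ∈ D, d * t * d⁻¹ ≠ t := by
  by_contra hcon
  push Not at hcon
  -- `D` fixes `tX`
  have hDX : ∀ d ∈ D, ∀ x ∈ X, d * (t * x) * d⁻¹ = t * x := by
    intro d hd x hx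
    obtain ⟨m, hm, hmt⟩ := htr x hx
    have h1 := hcon _ (by simpa using hD m⁻¹ (inv_mem hm) d hd : m⁻¹ * d * m ∈ D)
    rw [← hmt]
    calc d * (m * t * m⁻¹) * d⁻¹ = m * ((m⁻¹ * d * m) * t * (m⁻¹ * d * m)⁻¹) * m⁻¹ := by group
      _ = m * t * m⁻¹ := by rw [h1]
  -- `C` fixes `t`
  have hCfix : ∀ c ∈ C, c * t * c⁻¹ = t := by
    intro c hc
    have hx := hCt c hc
    set x := t * (c * t * c⁻¹) with hxd
    have e1 : c * t * c⁻¹ = t * x := by rw [hxd, ← mul_assoc, tt, one_mul]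
    have h1 := hcD c hc
    have h2 := hDX _ h1 x hx
    have h3 : h * (t * x) * h⁻¹ = t * x := by
      calc h * (t * x) * h⁻¹ = h * (c * t * c⁻¹) * h⁻¹ := by rw [e1]
        _ = (h * c * h⁻¹) * (h * t * h⁻¹) * (h * c * h⁻¹)⁻¹ := by group
        _ = (h * c * h⁻¹) * t * (h * c * h⁻¹)⁻¹ := by rw [ht, mul_inv_cancel_right]
        _ = (h * c * h⁻¹ * c⁻¹) * (c * t * c⁻¹) * (h * c * h⁻¹ * c⁻¹)⁻¹ := by group
        _ = (h * c * h⁻¹ * c⁻¹) * (t * x) * (h * c * h⁻¹ * c⁻¹)⁻¹ := by rw [e1]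
        _ = t * x := h2
    have h4 : t * (h * x * h⁻¹) = t * x := by
      rw [← h3, ← mul_assoc t, ← mul_assoc t, ← ht]; group
    have h5 : h * x = x * h := by
      have := mul_left_cancel h4
      calc h * x = (h * x * h⁻¹) * h := by group
        _ = x * h := by rw [this]
    rw [e1, hfix x hx h5, mul_one]
  obtain ⟨x, hx, hx1⟩ := hne
  apply hx1
  apply hfix x hx
  obtain ⟨m, hm, hmt⟩ := htr x hx
  have h1 := hCfix _ (by simpa using hC m⁻¹ (inv_mem hm) h hhC : m⁻¹ * h * m ∈ C)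
  have h2 : h * (t * x) * h⁻¹ = t * x := by
    rw [← hmt]
    calc h * (m * t * m⁻¹) * h⁻¹ = m * ((m⁻¹ * h * m) * t * (m⁻¹ * h * m)⁻¹) * m⁻¹ := by group
      _ = m * t * m⁻¹ := by rw [h1]
  have h4 : t * (h * x * h⁻¹) = t * x := by
    rw [← h2, ← mul_assoc t, ← mul_assoc t, ← ht]; group
  have := mul_left_cancel h4
  calc h * x = (h * x * h⁻¹) * h := by group
    _ = x * h := by rw [this]

/-- **Existence, `q > 2`**, with a torus element `h` commuting with `C4` modulo `D`. -/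
theorem Setup.exists_cent_of_h {t : G} {X Q P H : Subgroup G} (S : Setup t X Q P H)
    (Htr : ∀ x ∈ X, ∀ y ∈ X, x ≠ 1 → y ≠ 1 → ∃ h ∈ H, h * x * h⁻¹ = y) {h : G} (hH : h ∈ H)
    (hP : ∀ p ∈ P, h * p * h⁻¹ * p⁻¹ ∈ Q) (hfix : ∀ x ∈ X, h * x = x * h → x = 1)
    (hcD : ∀ c ∈ S.C4, ∀ q ∈ Q, (h * c * h⁻¹ * c⁻¹) * q * (h * c * h⁻¹ * c⁻¹)⁻¹ * q⁻¹ ∈ X)
    {n : G} (hn : n ∈ S.N) (hnt : n * t * n⁻¹ ≠ t) {x : G} (hx : x ∈ X) :
    ∃ b : G, (∀ p ∈ P, b * p = p * b) ∧ b * t * b⁻¹ = t * x := by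
  by_cases h1 : x = 1
  · exact ⟨1, fun p _ => by rw [one_mul, mul_one], by rw [h1]; group⟩
  have hhC : h ∈ S.C4 := ⟨S.H_le hH, hP⟩
  obtain ⟨d, hd, hdt⟩ := exists_moveAux (N := S.N) (C := S.C4) (D := S.D) (S.tH h hH).symm
    (fun x hx => S.exists_N Htr hn hnt hx) (fun n hn c hc => S.conj_C4 hn hc) (fun n hn d hd => S.conj_D hn hd)
    (fun c hc => hc.1.2.2) S.tt hhC hfix
    (fun c hc => ⟨mul_mem (mul_mem (mul_mem hhC hc) (inv_mem hhC)) (inv_mem hc), hcD c hc⟩) ⟨x, hx, h1⟩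
  set z := t * (d * t * d⁻¹) with hz
  have hzX : z ∈ X := hd.1.1.2.2
  have hz1 : z ≠ 1 := by
    intro h
    apply hdt
    have : t * (d * t * d⁻¹) = t * t := by rw [← hz, h, S.tt]
    exact mul_left_cancel this
  obtain ⟨g, hg, hgz⟩ := Htr z hzX x hx hz1 h1
  obtain ⟨b, hb, hbt⟩ := S.exists_cent (S.conj_D (S.H_le hg) hd)
  refine ⟨b, hb, ?_⟩
  have e1 : d * t * d⁻¹ = t * z := by rw [hz, ← mul_assoc, S.tt, one_mul]
  have e2 : g⁻¹ * t = t * g⁻¹ := (S.tH _ (inv_mem hg)).symm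
  rw [hbt]
  calc g * d * g⁻¹ * t * (g * d * g⁻¹)⁻¹ = g * d * (g⁻¹ * t) * g * d⁻¹ * g⁻¹ := by group
    _ = g * (d * t * d⁻¹) * g⁻¹ := by rw [e2]; group
    _ = g * t * z * g⁻¹ := by rw [e1]; group
    _ = t * (g * z * g⁻¹) := by rw [← S.tH g hg]; group
    _ = t * x := by rw [hgz]

end Cfsg.Agent.OddHalf.D7Ex

end

-- merged: Cfsg.Agent.OddHalf.D7Ex.Vzero
section

/-!
# The torus commutes with `C4` on `Q / X_r` (helper991)

`Φ` simply laced, `X` its root groups, `P = ⟨X_a : (a, r) ≥ 0⟩`, `Q = ⟨X_a : (a, r) ≥ 1⟩`, `β ⊥ r`. Let `h`, `κ` normalise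
all root groups, `κ ∈ P`, `h = κ` on `X_c` for `(c, r) = (c, β) = 1` (e.g. `h = h_r(λ)`, `κ = h_β(λ)`). If `y` normalises
`Q`, `X_r` and is trivial on `P / Q` then `[h, y]` is trivial on `Q / X_r` (`comm_D`).
The only input on the root system is `orth`.
-/

set_option autoImplicit false
set_option linter.unusedSectionVars false

namespace Cfsg.Agent.OddHalf.D7Ex.Vzero

open Subgroup Cfsg.Agent.OddHalf.SL.Defs

variable {L : Type*} [AddCommGroup L] {G : Type*} [Group G]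

/-- The subgroup generated by the root groups of `S`. -/
def SX (X : L → Subgroup G) (S : Set L) : Subgroup G := ⨆ z : S, X z.1

theorem le_SX {X : L → Subgroup G} {S : Set L} {a : L} (ha : a ∈ S) : X a ≤ SX X S :=
  le_iSup (fun z : S => X z.1) ⟨a, ha⟩

theorem SX_le {X : L → Subgroup G} {S : Set L} {H : Subgroup G} (hH : ∀ a ∈ S, X a ≤ H) : SX X S ≤ H :=
  iSup_le fun z => hH z.1 z.2

theorem SX_mono {X : L → Subgroup G} {S S' : Set L} (hS : S ⊆ S') : SX X S ≤ SX X S' :=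
  SX_le fun _ ha => le_SX (hS ha)

/-- Root groups of a simply laced root system. -/
structure RG (B : L → L → ℤ) (Φ : Set L) (X : L → Subgroup G) : Prop where
  roots : Roots B Φ
  pos : ∀ a ∈ Φ, ∀ b ∈ Φ, 0 ≤ B a b → ∀ x ∈ X a, ∀ y ∈ X b, x * y = y * x
  neg : ∀ a ∈ Φ, ∀ b ∈ Φ, B a b = -1 → ∀ x ∈ X a, ∀ y ∈ X b, x * y * x⁻¹ * y⁻¹ ∈ X (a + b)
  onto : ∀ a ∈ Φ, ∀ b ∈ Φ, B a b = -1 → ∀ y ∈ X b, y ≠ 1 → ∀ z ∈ X (a + b), ∃ x ∈ X a, x * y * x⁻¹ * y⁻¹ = z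
  ne : ∀ a ∈ Φ, ∃ x ∈ X a, x ≠ 1

/-- roots `a` with `(a, r) ≥ 1` -/
def Qs (B : L → L → ℤ) (Φ : Set L) (r : L) : Set L := {a | a ∈ Φ ∧ 1 ≤ B a r}

/-- roots `a` with `(a, r) ≥ 0` -/
def Ps (B : L → L → ℤ) (Φ : Set L) (r : L) : Set L := {a | a ∈ Φ ∧ 0 ≤ B a r}

theorem Qs_sub {B : L → L → ℤ} {Φ : Set L} {r : L} : Qs B Φ r ⊆ Ps B Φ r := fun _ ha => ⟨ha.1, le_trans (by norm_num) ha.2⟩

variable {B : L → L → ℤ} {Φ : Set L} {X : L → Subgroup G} {r : L}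

theorem Q_le_P : SX X (Qs B Φ r) ≤ SX X (Ps B Φ r) := SX_mono Qs_sub

namespace RG

variable (R : RG B Φ X)

include R

/-- `X_r` is central in `P`. -/
theorem XP (hr : r ∈ Φ) {x : G} (hx : x ∈ X r) {p : G} (hp : p ∈ SX X (Ps B Φ r)) : x * p = p * x := by
  have h1 : SX X (Ps B Φ r) ≤ centralizer ({x} : Set G) := by
    refine SX_le fun a ha y hy => ?_
    rw [mem_centralizer_singleton_iff]
    exact R.pos a ha.1 r hr ha.2 y hy x hx
  exact (mem_centralizer_singleton_iff.1 (h1 hp)).symm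

/-- `[P, Q] ≤ Q`. -/
theorem PQ {p q : G} (hp : p ∈ SX X (Ps B Φ r)) (hq : q ∈ SX X (Qs B Φ r)) : p * q * p⁻¹ ∈ SX X (Qs B Φ r) := by
  have h1 : SX X (Ps B Φ r) ≤ normalizer ((SX X (Qs B Φ r) : Subgroup G) : Set G) := by
    have key : ∀ a ∈ Ps B Φ r, ∀ x ∈ X a, ∀ q ∈ SX X (Qs B Φ r), x * q * x⁻¹ ∈ SX X (Qs B Φ r) := by
      intro a ha x hx q hq
      have h2 : SX X (Qs B Φ r) ≤ (SX X (Qs B Φ r)).comap (MulAut.conj x).toMonoidHom := by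
        refine SX_le fun b hb y hy => ?_
        rw [mem_comap]
        show x * y * x⁻¹ ∈ SX X (Qs B Φ r)
        have hy' : y ∈ SX X (Qs B Φ r) := le_SX hb hy
        rcases lt_or_ge (B a b) 0 with h0 | h0
        · have hge := R.roots.ge ha.1 hb.1
          rcases (show B a b = -1 ∨ B a b = -2 by omega) with h3 | h3
          · have h4 := R.neg a ha.1 b hb.1 h3 x hx y hy
            have h5 : a + b ∈ Qs B Φ r := ⟨R.roots.add a ha.1 b hb.1 h3, by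
              rw [R.roots.add_left]; have := ha.2; have := hb.2; omega⟩
            have e : x * y * x⁻¹ = (x * y * x⁻¹ * y⁻¹) * y := by group
            rw [e]
            exact mul_mem (le_SX h5 h4) hy'
          · exfalso
            have h4 := R.roots.eq_neg ha.1 hb.1 h3
            have h5 := ha.2
            rw [h4, R.roots.neg_left] at h5
            have := hb.2
            omega
        · rw [R.pos a ha.1 b hb.1 h0 x hx y hy, mul_inv_cancel_right]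
          exact hy'
      exact h2 hq
    refine SX_le fun a ha x hx => ?_
    rw [mem_normalizer_iff]
    intro q
    refine ⟨fun hq => key a ha x hx q hq, fun hq => ?_⟩
    have h3 := key a ha x⁻¹ (inv_mem hx) _ hq
    have e : x⁻¹ * (x * q * x⁻¹) * x⁻¹⁻¹ = q := by group
    rwa [e] at h3
  exact (mem_normalizer_iff.1 (h1 hp) q).1 hq

/-- a root of `Q` other than `r` -/
theorem eq_or {a : L} (hr : r ∈ Φ) (ha : a ∈ Qs B Φ r) : a = r ∨ B a r = 1 := by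
  have h1 := R.roots.le a ha.1 r hr
  have h2 := ha.2
  rcases (show B a r = 1 ∨ B a r = 2 by omega) with h3 | h3
  · exact Or.inr h3
  · exact Or.inl (R.roots.eq a ha.1 r hr h3)

theorem sub_props (hr : r ∈ Φ) {b : L} (hb : b ∈ Φ) (hbr : B b r = 1) : r - b ∈ Φ ∧ B (r - b) r = 1 ∧ B b (r - b) = -1 := by
  have h1 := R.roots.symm b r
  have h2 := R.roots.two r hr
  have h3 := R.roots.two b hb
  refine ⟨R.roots.sub_mem hr hb (by omega), ?_, ?_⟩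
  · rw [R.roots.sub_left]; omega
  · rw [R.roots.sub_right]; omega

/-- commutation of `X_b` and `X_a` in `Q` -/
theorem comm_Q (hr : r ∈ Φ) {a b : L} (hb : b ∈ Φ) (hbr : B b r = 1) (ha : a ∈ Qs B Φ r) (hne : a ≠ r - b)
    {x v : G} (hx : x ∈ X b) (hv : v ∈ X a) : x * v = v * x := by
  have h0 : 0 ≤ B b a := by
    by_contra hlt
    have hge := R.roots.ge hb ha.1
    rcases (show B b a = -1 ∨ B b a = -2 by omega) with h3 | h3
    · apply hne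
      have h4 := R.roots.add b hb a ha.1 h3
      have h5 : B (b + a) r = 2 := by
        have h6 := R.roots.le _ h4 r hr
        have := ha.2
        rw [R.roots.add_left] at h6 ⊢
        omega
      have h6 := R.roots.eq _ h4 r hr h5
      rw [← h6]; abel
    · have h4 := R.roots.eq_neg hb ha.1 h3
      have := ha.2
      rw [h4, R.roots.neg_left] at hbr
      omega
  exact R.pos b hb a ha.1 h0 x hx v hv

/-- `[X_b, v] ≤ X_r` and `[xb, v] = [xb, d]` for a `d ∈ X_{r-b}`. -/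
theorem comp (hr : r ∈ Φ) {b : L} (hb : b ∈ Φ) (hbr : B b r = 1) {v : G} (hv : v ∈ SX X (Qs B Φ r)) :
    ∃ d ∈ X (r - b), ∀ x ∈ X b, x * v * x⁻¹ * v⁻¹ = x * d * x⁻¹ * d⁻¹ := by
  obtain ⟨s1, s2, s3⟩ := R.sub_props hr hb hbr
  have hmem : ∀ x ∈ X b, ∀ d ∈ X (r - b), x * d * x⁻¹ * d⁻¹ ∈ X r := by
    intro x hx d hd
    have := R.neg b hb (r - b) s1 s3 x hx d hd
    rwa [add_sub_cancel] at this
  unfold SX at hv
  induction hv using Subgroup.iSup_induction' with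
  | hp a v hv =>
    obtain ⟨a, ha⟩ := a
    by_cases hne : a = r - b
    · exact ⟨v, by rw [← hne]; exact hv, fun _ _ => rfl⟩
    · refine ⟨1, one_mem _, fun x hx => ?_⟩
      rw [R.comm_Q hr hb hbr ha hne hx hv]
      group
  | h1 => exact ⟨1, one_mem _, fun _ _ => rfl⟩
  | hmul v w hv hw ih1 ih2 =>
    obtain ⟨d, hd, h1⟩ := ih1
    obtain ⟨e, he, h2⟩ := ih2
    refine ⟨d * e, mul_mem hd he, fun x hx => ?_⟩
    have c1 : (x * w * x⁻¹ * w⁻¹) * v⁻¹ = v⁻¹ * (x * w * x⁻¹ * w⁻¹) := by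
      rw [h2 x hx]
      exact R.XP hr (hmem x hx e he) (Q_le_P (inv_mem hv))
    have c2 : (x * e * x⁻¹ * e⁻¹) * d⁻¹ = d⁻¹ * (x * e * x⁻¹ * e⁻¹) := by
      refine R.XP hr (hmem x hx e he) (inv_mem ?_)
      exact le_SX (show r - b ∈ Ps B Φ r from ⟨s1, by omega⟩) hd
    calc x * (v * w) * x⁻¹ * (v * w)⁻¹ = x * v * x⁻¹ * ((x * w * x⁻¹ * w⁻¹) * v⁻¹) := by group
      _ = (x * v * x⁻¹ * v⁻¹) * (x * w * x⁻¹ * w⁻¹) := by rw [c1]; group
      _ = (x * d * x⁻¹ * d⁻¹) * (x * e * x⁻¹ * e⁻¹) := by rw [h1 x hx, h2 x hx]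
      _ = x * d * x⁻¹ * (d⁻¹ * (x * e * x⁻¹ * e⁻¹)) := by group
      _ = x * (d * e) * x⁻¹ * (d * e)⁻¹ := by rw [← c2]; group

theorem comm_mem (hr : r ∈ Φ) {b : L} (hb : b ∈ Φ) (hbr : B b r = 1) {v x : G} (hv : v ∈ SX X (Qs B Φ r))
    (hx : x ∈ X b) : x * v * x⁻¹ * v⁻¹ ∈ X r := by
  obtain ⟨s1, s2, s3⟩ := R.sub_props hr hb hbr
  obtain ⟨d, hd, h1⟩ := R.comp hr hb hbr hv
  rw [h1 x hx]
  have := R.neg b hb (r - b) s1 s3 x hx d hd
  rwa [add_sub_cancel] at this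

/-- `[Q, Q] ≤ X_r` -/
theorem QQ (hr : r ∈ Φ) {v w : G} (hv : v ∈ SX X (Qs B Φ r)) (hw : w ∈ SX X (Qs B Φ r)) :
    v * w * v⁻¹ * w⁻¹ ∈ X r := by
  unfold SX at hv
  induction hv using Subgroup.iSup_induction' with
  | hp a v hv =>
    obtain ⟨a, ha⟩ := a
    rcases R.eq_or hr ha with h1 | h1
    · subst h1
      rw [R.XP hr hv (Q_le_P hw)]
      have : w * v * v⁻¹ * w⁻¹ = 1 := by group
      rw [this]
      exact one_mem _
    · exact R.comm_mem hr ha.1 h1 hw hv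
  | h1 =>
    have : 1 * w * (1 : G)⁻¹ * w⁻¹ = 1 := by group
    rw [this]; exact one_mem _
  | hmul v v' hv hv' ih1 ih2 =>
    have c1 := R.XP hr ih2 (Q_le_P (inv_mem hv))
    have e : v * v' * w * (v * v')⁻¹ * w⁻¹ = (v' * w * v'⁻¹ * w⁻¹) * (v * w * v⁻¹ * w⁻¹) := by
      have c2 := R.XP hr ih2 (Q_le_P hv)
      calc v * v' * w * (v * v')⁻¹ * w⁻¹ = (v * (v' * w * v'⁻¹ * w⁻¹)) * w * v⁻¹ * w⁻¹ := by group
        _ = _ := by rw [← c2]; group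
    rw [e]
    exact mul_mem ih2 ih1

end RG

/-- The elements normalising `X`, `Q` and trivial on `P / Q`. -/
def Cq (X Q P : Subgroup G) : Subgroup G where
  carrier := {y | (∀ x ∈ X, y * x * y⁻¹ ∈ X) ∧ (∀ x ∈ X, y⁻¹ * x * y ∈ X) ∧ (∀ q ∈ Q, y * q * y⁻¹ ∈ Q) ∧
    (∀ q ∈ Q, y⁻¹ * q * y ∈ Q) ∧ ∀ p ∈ P, y * p * y⁻¹ * p⁻¹ ∈ Q}
  one_mem' := by
    refine ⟨fun x hx => by simpa using hx, fun x hx => by simpa using hx, fun x hx => by simpa using hx,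
      fun x hx => by simpa using hx, fun p _ => ?_⟩
    rw [one_mul, inv_one, mul_one, mul_inv_cancel]; exact one_mem _
  mul_mem' := by
    rintro a b ⟨ha1, ha2, ha3, ha4, ha5⟩ ⟨hb1, hb2, hb3, hb4, hb5⟩
    refine ⟨fun x hx => ?_, fun x hx => ?_, fun x hx => ?_, fun x hx => ?_, fun p hp => ?_⟩
    · have e : a * b * x * (a * b)⁻¹ = a * (b * x * b⁻¹) * a⁻¹ := by group
      rw [e]; exact ha1 _ (hb1 x hx)
    · have e : (a * b)⁻¹ * x * (a * b) = b⁻¹ * (a⁻¹ * x * a) * b := by group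
      rw [e]; exact hb2 _ (ha2 x hx)
    · have e : a * b * x * (a * b)⁻¹ = a * (b * x * b⁻¹) * a⁻¹ := by group
      rw [e]; exact ha3 _ (hb3 x hx)
    · have e : (a * b)⁻¹ * x * (a * b) = b⁻¹ * (a⁻¹ * x * a) * b := by group
      rw [e]; exact hb4 _ (ha4 x hx)
    · have e : a * b * p * (a * b)⁻¹ * p⁻¹ = a * (b * p * b⁻¹ * p⁻¹) * a⁻¹ * (a * p * a⁻¹ * p⁻¹) := by group
      rw [e]; exact mul_mem (ha3 _ (hb5 p hp)) (ha5 p hp)
  inv_mem' := by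
    rintro a ⟨ha1, ha2, ha3, ha4, ha5⟩
    refine ⟨fun x hx => by simpa using ha2 x hx, fun x hx => by simpa using ha1 x hx,
      fun x hx => by simpa using ha4 x hx, fun x hx => by simpa using ha3 x hx, fun p hp => ?_⟩
    have e : a⁻¹ * p * a⁻¹⁻¹ * p⁻¹ = (a⁻¹ * (a * p * a⁻¹ * p⁻¹) * a)⁻¹ := by group
    rw [e]; exact inv_mem (ha4 _ (ha5 p hp))

theorem mem_Cq {X Q P : Subgroup G} {y : G} : y ∈ Cq X Q P ↔ (∀ x ∈ X, y * x * y⁻¹ ∈ X) ∧ (∀ x ∈ X, y⁻¹ * x * y ∈ X) ∧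
    (∀ q ∈ Q, y * q * y⁻¹ ∈ Q) ∧ (∀ q ∈ Q, y⁻¹ * q * y ∈ Q) ∧ ∀ p ∈ P, y * p * y⁻¹ * p⁻¹ ∈ Q := Iff.rfl

/-- `V₀`: the fixed points modulo `X_r` of the radical of `β` in `L`. -/
def V0 (B : L → L → ℤ) (Φ : Set L) (X : L → Subgroup G) (r β : L) : Set G :=
  {v | v ∈ SX X (Qs B Φ r) ∧ ∀ a ∈ Φ, B a r = 0 → 1 ≤ B a β → ∀ u ∈ X a, v * u * v⁻¹ * u⁻¹ ∈ X r}

namespace RG

variable (R : RG B Φ X)

include R

/-- `V₀` is invariant under `C4`. -/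
theorem V0_conj (hr : r ∈ Φ) {β : L} {y v : G} (hy : y ∈ Cq (X r) (SX X (Qs B Φ r)) (SX X (Ps B Φ r)))
    (hv : v ∈ V0 B Φ X r β) : y * v * y⁻¹ ∈ V0 B Φ X r β := by
  obtain ⟨hv1, hv2⟩ := hv
  obtain ⟨hy1, hy2, hy3, hy4, hy5⟩ := hy
  have hv' := hy3 v hv1
  refine ⟨hv', fun a ha har haβ u hu => ?_⟩
  have huP : u ∈ SX X (Ps B Φ r) := le_SX (show a ∈ Ps B Φ r from ⟨ha, by omega⟩) hu
  have h1 := hy1 _ (hv2 a ha har haβ u hu)
  have hq := hy5 u huP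
  set q := y * u * y⁻¹ * u⁻¹ with hqd
  set v' := y * v * y⁻¹ with hvd
  have e1 : y * (v * u * v⁻¹ * u⁻¹) * y⁻¹ = (v' * q * v'⁻¹ * q⁻¹) * (q * (v' * u * v'⁻¹ * u⁻¹) * q⁻¹) := by
    have : y * (v * u * v⁻¹ * u⁻¹) * y⁻¹ = v' * (y * u * y⁻¹) * v'⁻¹ * (y * u * y⁻¹)⁻¹ := by rw [hvd]; group
    rw [this]
    have h2 : y * u * y⁻¹ = q * u := by rw [hqd]; group
    rw [h2]
    group
  rw [e1] at h1
  have h2 := mul_mem (inv_mem (R.QQ hr hv' hq)) h1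
  rw [inv_mul_cancel_left] at h2
  have h3 := R.XP hr h2 (Q_le_P hq)
  have e2 : v' * u * v'⁻¹ * u⁻¹ = q * (v' * u * v'⁻¹ * u⁻¹) * q⁻¹ := by
    have h4 : q⁻¹ * (q * (v' * u * v'⁻¹ * u⁻¹) * q⁻¹) * q = q * (v' * u * v'⁻¹ * u⁻¹) * q⁻¹ := by
      rw [mul_assoc, h3, inv_mul_cancel_left]
    rw [← h4]; group
  rw [e2]
  exact h2

/-- The auxiliary root. -/
theorem exists_aux (h3 : ∀ r ∈ Φ, ∀ s ∈ Φ, B r s = 0 → ∃ a ∈ Φ, B a r = 1 ∧ B a s = -1) (hr : r ∈ Φ) {β b : L}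
    (hβ : β ∈ Φ) (hβr : B β r = 0) (hb : b ∈ Φ) (hbr : B b r = 1) (h0 : B b β = 0) :
    ∃ a ∈ Φ, B a r = 0 ∧ B a β = 1 ∧ B a b = 1 := by
  have hR := R.roots
  obtain ⟨a, ha, h1, h2⟩ := h3 β hβ b hb (by rw [hR.symm]; exact h0)
  have c1 := hR.two b hb
  have c2 := hR.two β hβ
  have c3 := hR.symm b β
  have c4 := hR.symm r b
  have c5 := hR.symm β r
  have c6 := hR.symm b r
  have c7 := hR.le a ha r hr
  have c8 := hR.ge ha hr
  obtain ⟨s1, s2, s3⟩ := R.sub_props hr hb hbr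
  have d1 := hR.le a ha _ s1
  rw [hR.sub_right] at d1
  rcases (show B a r = 0 ∨ B a r = -1 ∨ B a r = -2 ∨ B a r = 1 by omega) with h4 | h4 | h4 | h4
  · have h5 : β - a ∈ Φ := hR.sub_mem hβ ha (by rw [hR.symm]; exact h1)
    refine ⟨β - a, h5, ?_, ?_, ?_⟩ <;> rw [hR.sub_left] <;> omega
  · have h5 : a + b ∈ Φ := hR.add a ha b hb h2
    refine ⟨a + b, h5, ?_, ?_, ?_⟩ <;> rw [hR.add_left] <;> omega
  · exfalso
    have h5 := hR.eq_neg ha hr h4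
    rw [h5, hR.neg_left] at h1
    omega
  · exfalso
    have h5 : B a (r - b) = 2 := by rw [hR.sub_right]; omega
    have h6 := hR.eq a ha _ s1 h5
    rw [h6, hR.sub_left] at h1
    omega

/-- For `v ∈ V₀` and `(b, β) ≠ -1`: `[X_b, v] = 1`. -/
theorem V0_comm (h3 : ∀ r ∈ Φ, ∀ s ∈ Φ, B r s = 0 → ∃ a ∈ Φ, B a r = 1 ∧ B a s = -1) (hr : r ∈ Φ) {β b : L}
    (hβ : β ∈ Φ) (hβr : B β r = 0) (hb : b ∈ Φ) (hbr : B b r = 1) (h0 : B b β ≠ -1) {v x : G}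
    (hv : v ∈ V0 B Φ X r β) (hx : x ∈ X b) : x * v = v * x := by
  have hR := R.roots
  obtain ⟨a, ha, har, haβ, hab⟩ : ∃ a ∈ Φ, B a r = 0 ∧ 1 ≤ B a β ∧ B a b = 1 := by
    have c1 := hR.le b hb β hβ
    have c2 := hR.ge hb hβ
    rcases (show B b β = 0 ∨ B b β = 1 ∨ B b β = 2 ∨ B b β = -2 by omega) with h4 | h4 | h4 | h4
    · obtain ⟨a, ha, h5, h6, h7⟩ := R.exists_aux h3 hr hβ hβr hb hbr h4
      exact ⟨a, ha, h5, by omega, h7⟩
    · have := hR.two β hβ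
      exact ⟨β, hβ, hβr, by omega, by rw [hR.symm]; exact h4⟩
    · exfalso
      have := hR.eq b hb β hβ h4
      rw [this] at hbr; omega
    · exfalso
      have := hR.eq_neg hb hβ h4
      rw [this, hR.neg_left] at hbr; omega
  have s1 : b - a ∈ Φ := hR.sub_mem hb ha (by rw [hR.symm]; exact hab)
  have s2 : B (b - a) r = 1 := by rw [hR.sub_left]; omega
  have s3 : B (b - a) a = -1 := by
    have := hR.symm b a
    have := hR.two a ha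
    rw [hR.sub_left]; omega
  obtain ⟨u, hu, hu1⟩ := R.ne a ha
  obtain ⟨x', hx', hxe⟩ := R.onto (b - a) s1 a ha s3 u hu hu1 x (by rw [sub_add_cancel]; exact hx)
  have hvQ := hv.1
  have hvP := Q_le_P hvQ
  have hx'P : x' ∈ SX X (Ps B Φ r) := le_SX (show b - a ∈ Ps B Φ r from ⟨s1, by omega⟩) hx'
  have huP : u ∈ SX X (Ps B Φ r) := le_SX (show a ∈ Ps B Φ r from ⟨ha, by omega⟩) hu
  -- `z1`, `z2`
  have hz1 := hv.2 a ha har haβ u⁻¹ (inv_mem hu)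
  set z1 := v * u⁻¹ * v⁻¹ * u⁻¹⁻¹ with hz1d
  have e1 : u⁻¹ * v * u = z1⁻¹ * v := by rw [hz1d]; group
  have hz2 := R.comm_mem hr s1 s2 hvQ (inv_mem hx')
  set z2 := x'⁻¹ * v * x'⁻¹⁻¹ * v⁻¹ with hz2d
  have e2 : x'⁻¹ * v * x' = z2 * v := by rw [hz2d]; group
  have c1 : ∀ p ∈ SX X (Ps B Φ r), z1 * p = p * z1 := fun p hp => R.XP hr hz1 hp
  have c1' : ∀ p ∈ SX X (Ps B Φ r), z1⁻¹ * p = p * z1⁻¹ := fun p hp => R.XP hr (inv_mem hz1) hp
  have c2 : ∀ p ∈ SX X (Ps B Φ r), z2 * p = p * z2 := fun p hp => R.XP hr hz2 hp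
  have e3 : u * v * u⁻¹ = z1 * v := by
    calc u * v * u⁻¹ = u * (z1 * (z1⁻¹ * v)) * u⁻¹ := by group
      _ = u * z1 * (u⁻¹ * v * u) * u⁻¹ := by rw [e1]; group
      _ = z1 * u * (u⁻¹ * v * u) * u⁻¹ := by rw [c1 u huP]
      _ = z1 * v := by group
  have e4 : z2 * (x' * v * x'⁻¹) = v := by
    calc z2 * (x' * v * x'⁻¹) = (z2 * x') * v * x'⁻¹ := by group
      _ = (x' * z2) * v * x'⁻¹ := by rw [c2 x' hx'P]
      _ = x' * (z2 * v) * x'⁻¹ := by group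
      _ = v := by rw [← e2]; group
  have e5 : x * v * x⁻¹ = v := by
    rw [← hxe]
    calc x' * u * x'⁻¹ * u⁻¹ * v * (x' * u * x'⁻¹ * u⁻¹)⁻¹
        = x' * u * x'⁻¹ * (u⁻¹ * v * u) * x' * u⁻¹ * x'⁻¹ := by group
      _ = x' * u * (x'⁻¹ * z1⁻¹) * v * x' * u⁻¹ * x'⁻¹ := by rw [e1]; group
      _ = x' * u * (z1⁻¹ * x'⁻¹) * v * x' * u⁻¹ * x'⁻¹ := by rw [c1' _ (inv_mem hx'P)]
      _ = x' * (u * z1⁻¹) * (x'⁻¹ * v * x') * u⁻¹ * x'⁻¹ := by group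
      _ = x' * (z1⁻¹ * u) * (z2 * v) * u⁻¹ * x'⁻¹ := by rw [← c1' _ huP, e2]
      _ = x' * z1⁻¹ * (u * z2) * v * u⁻¹ * x'⁻¹ := by group
      _ = x' * z1⁻¹ * (z2 * u) * v * u⁻¹ * x'⁻¹ := by rw [← c2 _ huP]
      _ = x' * z1⁻¹ * z2 * (u * v * u⁻¹) * x'⁻¹ := by group
      _ = x' * z1⁻¹ * (z2 * z1) * v * x'⁻¹ := by rw [e3]; group
      _ = x' * z1⁻¹ * (z1 * z2) * v * x'⁻¹ := by rw [c1 z2 (Q_le_P (le_SX (show r ∈ Qs B Φ r from
          ⟨hr, by have := hR.two r hr; omega⟩) hz2))]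
      _ = (x' * z2) * v * x'⁻¹ := by group
      _ = (z2 * x') * v * x'⁻¹ := by rw [← c2 _ hx'P]
      _ = z2 * (x' * v * x'⁻¹) := by group
      _ = v := e4
  calc x * v = x * v * x⁻¹ * x := by group
    _ = v * x := by rw [e5]

/-- `h = κ` on `V₀` modulo `X_r`. -/
theorem V0_eq (h3 : ∀ r ∈ Φ, ∀ s ∈ Φ, B r s = 0 → ∃ a ∈ Φ, B a r = 1 ∧ B a s = -1) (hr : r ∈ Φ) {β : L}
    (hβ : β ∈ Φ) (hβr : B β r = 0)
    (ZQ : ∀ q ∈ SX X (Qs B Φ r), (∀ v ∈ SX X (Qs B Φ r), q * v = v * q) → q ∈ X r) {g : G}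
    (hg : ∀ a ∈ Φ, ∀ x ∈ X a, g * x * g⁻¹ ∈ X a) (hg' : ∀ a ∈ Φ, ∀ x ∈ X a, g⁻¹ * x * g ∈ X a)
    (hc : ∀ c ∈ Φ, B c r = 1 → B c β = 1 → ∀ x ∈ X c, g * x * g⁻¹ = x) {v : G} (hv : v ∈ V0 B Φ X r β) :
    g * v * g⁻¹ * v⁻¹ ∈ X r := by
  have hR := R.roots
  have hgQ : SX X (Qs B Φ r) ≤ (SX X (Qs B Φ r)).comap (MulAut.conj g).toMonoidHom := by
    refine SX_le fun b hb y hy => ?_
    rw [mem_comap]
    exact le_SX hb (hg b hb.1 y hy)
  have hgv : g * v * g⁻¹ ∈ SX X (Qs B Φ r) := hgQ hv.1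
  have hm := mul_mem hgv (inv_mem hv.1)
  apply ZQ _ hm
  intro w hw
  have hle : SX X (Qs B Φ r) ≤ centralizer ({g * v * g⁻¹ * v⁻¹} : Set G) := by
    refine SX_le fun b hb x hx => ?_
    rw [mem_centralizer_singleton_iff]
    rcases R.eq_or hr hb with h1 | h1
    · subst h1
      exact R.XP hr hx (Q_le_P hm)
    -- `[x, g v g⁻¹] = [x, v]`
    have hx' := hg' b hb.1 x hx
    have key : x * (g * v * g⁻¹) * x⁻¹ * (g * v * g⁻¹)⁻¹ = x * v * x⁻¹ * v⁻¹ := by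
      by_cases h4 : B b β = -1
      · obtain ⟨s1, s2, s3⟩ := R.sub_props hr hb.1 h1
        obtain ⟨d, hd, hdc⟩ := R.comp hr hb.1 h1 hv.1
        have h5 : g * d * g⁻¹ = d := by
          refine hc _ s1 s2 ?_ d hd
          have := hR.symm r β
          rw [hR.sub_left]; omega
        calc x * (g * v * g⁻¹) * x⁻¹ * (g * v * g⁻¹)⁻¹
            = g * ((g⁻¹ * x * g) * v * (g⁻¹ * x * g)⁻¹ * v⁻¹) * g⁻¹ := by group
          _ = g * ((g⁻¹ * x * g) * d * (g⁻¹ * x * g)⁻¹ * d⁻¹) * g⁻¹ := by rw [hdc _ hx']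
          _ = x * (g * d * g⁻¹) * x⁻¹ * (g * d * g⁻¹)⁻¹ := by group
          _ = x * v * x⁻¹ * v⁻¹ := by rw [h5, hdc x hx]
      · have h5 := R.V0_comm h3 hr hβ hβr hb.1 h1 h4 hv hx
        have h6 := R.V0_comm h3 hr hβ hβr hb.1 h1 h4 hv hx'
        calc x * (g * v * g⁻¹) * x⁻¹ * (g * v * g⁻¹)⁻¹
            = g * ((g⁻¹ * x * g) * v * (g⁻¹ * x * g)⁻¹ * v⁻¹) * g⁻¹ := by group
          _ = g * (v * (g⁻¹ * x * g) * (g⁻¹ * x * g)⁻¹ * v⁻¹) * g⁻¹ := by rw [h6]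
          _ = v * x * x⁻¹ * v⁻¹ := by group
          _ = x * v * x⁻¹ * v⁻¹ := by rw [h5]
    have hz := R.comm_mem hr hb.1 h1 hv.1 hx
    set z := x * v * x⁻¹ * v⁻¹ with hzd
    have e1 : x * v * x⁻¹ = z * v := by rw [hzd]; group
    have e2 : x * (g * v * g⁻¹) * x⁻¹ = z * (g * v * g⁻¹) := by rw [← key]; group
    have c1 := R.XP hr hz (Q_le_P hm)
    calc x * (g * v * g⁻¹ * v⁻¹) = (x * (g * v * g⁻¹) * x⁻¹) * (x * v * x⁻¹)⁻¹ * x := by group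
      _ = (z * (g * v * g⁻¹)) * (z * v)⁻¹ * x := by rw [e1, e2]
      _ = (z * (g * v * g⁻¹ * v⁻¹)) * z⁻¹ * x := by group
      _ = g * v * g⁻¹ * v⁻¹ * x := by rw [c1]; group
  exact (mem_centralizer_singleton_iff.1 (hle hw)).symm

/-- The groups `X_c`, `(c, r) = (c, β) = 1`, lie in `V₀`. -/
theorem le_V0 {β c : L} (hβ : β ∈ Φ) (hβr : B β r = 0) (hc : c ∈ Φ) (hcr : B c r = 1)
    (hcβ : B c β = 1) {x : G} (hx : x ∈ X c) : x ∈ V0 B Φ X r β := by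
  have hR := R.roots
  refine ⟨le_SX (show c ∈ Qs B Φ r from ⟨hc, by omega⟩) hx, fun a ha har haβ u hu => ?_⟩
  have h0 : 0 ≤ B c a := by
    by_contra hlt
    have hge := hR.ge hc ha
    have hle := hR.le a ha β hβ
    rcases (show B c a = -1 ∨ B c a = -2 by omega) with h4 | h4
    · have h5 := hR.add c hc a ha h4
      have h6 := hR.le _ h5 β hβ
      rw [hR.add_left] at h6
      have h7 : B (c + a) β = 2 := by rw [hR.add_left]; omega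
      have h8 := hR.eq _ h5 β hβ h7
      have h9 : B (c + a) r = 1 := by rw [hR.add_left]; omega
      rw [h8] at h9
      omega
    · have h5 := hR.eq_neg hc ha h4
      rw [h5, hR.neg_left] at hcr
      omega
  rw [R.pos c hc a ha h0 x hx u hu]
  have : u * x * x⁻¹ * u⁻¹ = 1 := by group
  rw [this]
  exact one_mem _

/-- `C4` is trivial on `Q / X_r` as soon as it is trivial on `V₀`. -/
theorem eq_of_V0 (h3 : ∀ r ∈ Φ, ∀ s ∈ Φ, B r s = 0 → ∃ a ∈ Φ, B a r = 1 ∧ B a s = -1) (hr : r ∈ Φ) {β : L}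
    (hβ : β ∈ Φ) (hβr : B β r = 0) {g : G} (hg : g ∈ Cq (X r) (SX X (Qs B Φ r)) (SX X (Ps B Φ r)))
    (h0 : ∀ v ∈ V0 B Φ X r β, g * v * g⁻¹ * v⁻¹ ∈ X r) (hgr : ∀ x ∈ X r, g * x * g⁻¹ ∈ X r) {v : G}
    (hv : v ∈ SX X (Qs B Φ r)) : g * v * g⁻¹ * v⁻¹ ∈ X r := by
  have hR := R.roots
  obtain ⟨hg1, hg2, hg3, hg4, hg5⟩ := hg
  -- the elements of `Q` fixed modulo `X r`
  let F : Subgroup G :=
    { carrier := {v | v ∈ SX X (Qs B Φ r) ∧ g * v * g⁻¹ * v⁻¹ ∈ X r}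
      one_mem' := ⟨one_mem _, by
        have : g * 1 * g⁻¹ * (1 : G)⁻¹ = 1 := by group
        rw [this]; exact one_mem _⟩
      mul_mem' := by
        rintro a b ⟨ha, ha'⟩ ⟨hb, hb'⟩
        refine ⟨mul_mem ha hb, ?_⟩
        have c1 := R.XP hr hb' (Q_le_P (inv_mem ha))
        have e : g * (a * b) * g⁻¹ * (a * b)⁻¹ = (g * a * g⁻¹ * a⁻¹) * (g * b * g⁻¹ * b⁻¹) := by
          calc g * (a * b) * g⁻¹ * (a * b)⁻¹ = g * a * g⁻¹ * ((g * b * g⁻¹ * b⁻¹) * a⁻¹) := by group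
            _ = _ := by rw [c1]; group
        rw [e]
        exact mul_mem ha' hb'
      inv_mem' := by
        rintro a ⟨ha, ha'⟩
        refine ⟨inv_mem ha, ?_⟩
        have c1 := R.XP hr (inv_mem ha') (Q_le_P (inv_mem ha))
        have e : g * a⁻¹ * g⁻¹ * a⁻¹⁻¹ = (g * a * g⁻¹ * a⁻¹)⁻¹ := by
          calc g * a⁻¹ * g⁻¹ * a⁻¹⁻¹ = a⁻¹ * ((g * a * g⁻¹ * a⁻¹)⁻¹) * a := by group
            _ = (g * a * g⁻¹ * a⁻¹)⁻¹ := by rw [← c1, inv_mul_cancel_right]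
        rw [e]
        exact inv_mem ha' }
  have hFP : ∀ p ∈ SX X (Ps B Φ r), ∀ v ∈ F, p * v * p⁻¹ ∈ F := by
    rintro p hp v ⟨hv, hv'⟩
    have hw := R.PQ hp hv
    refine ⟨hw, ?_⟩
    have hq := hg5 p hp
    set q := g * p * g⁻¹ * p⁻¹ with hqd
    set z := g * v * g⁻¹ * v⁻¹ with hzd
    have e1 : g * p = q * p * g := by rw [hqd]; group
    have e2 : g * v = z * v * g := by rw [hzd]; group
    have c1 : ∀ p ∈ SX X (Ps B Φ r), z * p = p * z := fun p hp => R.XP hr hv' hp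
    have hqq := R.QQ hr hq hw
    have e : g * (p * v * p⁻¹) * g⁻¹ * (p * v * p⁻¹)⁻¹ = z * (q * (p * v * p⁻¹) * q⁻¹ * (p * v * p⁻¹)⁻¹) := by
      calc g * (p * v * p⁻¹) * g⁻¹ * (p * v * p⁻¹)⁻¹
          = (g * p) * v * (g * p)⁻¹ * (p * v * p⁻¹)⁻¹ := by group
        _ = q * p * (g * v) * g⁻¹ * p⁻¹ * q⁻¹ * (p * v * p⁻¹)⁻¹ := by rw [e1]; group
        _ = (q * p) * z * v * p⁻¹ * q⁻¹ * (p * v * p⁻¹)⁻¹ := by rw [e2]; group
        _ = z * (q * p) * v * p⁻¹ * q⁻¹ * (p * v * p⁻¹)⁻¹ := by rw [c1 _ (mul_mem (Q_le_P hq) hp)]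
        _ = _ := by group
    rw [e]
    exact mul_mem hv' hqq
  have hV : ∀ c ∈ Φ, B c r = 1 → B c β = 1 → X c ≤ F := fun c hc hcr hcβ x hx => by
    have h4 := R.le_V0 hβ hβr hc hcr hcβ hx
    exact ⟨h4.1, h0 x h4⟩
  -- the step
  have step : ∀ c ∈ Φ, ∀ a ∈ Φ, B c a = -1 → B a r = 0 → X c ≤ F → X (c + a) ≤ F := by
    intro c hc a ha hca har hF x hx
    obtain ⟨u, hu, hu1⟩ := R.ne a ha
    obtain ⟨x', hx', he⟩ := R.onto c hc a ha hca u hu hu1 x hx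
    have huP : u ∈ SX X (Ps B Φ r) := le_SX (show a ∈ Ps B Φ r from ⟨ha, by omega⟩) hu
    rw [← he]
    have := mul_mem (hF hx') (hFP u huP _ (inv_mem (hF hx')))
    have e : x' * u * x'⁻¹ * u⁻¹ = x' * (u * x'⁻¹ * u⁻¹) := by group
    rw [e]
    exact this
  have hβ2 := hR.two β hβ
  have hneg : ∀ c ∈ Φ, B c r = 1 → B c β = -1 → X c ≤ F := by
    intro c hc hcr hcβ
    have h5 := hR.add c hc β hβ hcβ
    have h6 := step (c + β) h5 (-β) (hR.neg_mem β hβ) (by rw [hR.neg_right, hR.add_left]; omega)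
      (by rw [hR.neg_left]; omega) (hV _ h5 (by rw [hR.add_left]; omega) (by rw [hR.add_left]; omega))
    rwa [add_neg_cancel_right] at h6
  have hall : ∀ c ∈ Φ, B c r = 1 → X c ≤ F := by
    intro c hc hcr
    have c1 := hR.le c hc β hβ
    have c2 := hR.ge hc hβ
    rcases (show B c β = 1 ∨ B c β = -1 ∨ B c β = 0 ∨ B c β = 2 ∨ B c β = -2 by omega) with h4 | h4 | h4 | h4 | h4
    · exact hV c hc hcr h4
    · exact hneg c hc hcr h4
    · obtain ⟨a, ha, h5, h6, h7⟩ := R.exists_aux h3 hr hβ hβr hc hcr h4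
      have hca : B c a = 1 := by rw [hR.symm]; exact h7
      have s1 : c - a ∈ Φ := hR.sub_mem hc ha hca
      have haa := hR.two a ha
      have h8 := step (c - a) s1 a ha (by rw [hR.sub_left]; omega) h5
        (hneg _ s1 (by rw [hR.sub_left]; omega) (by rw [hR.sub_left]; omega))
      rwa [sub_add_cancel] at h8
    · exfalso
      have := hR.eq c hc β hβ h4
      rw [this] at hcr; omega
    · exfalso
      have := hR.eq_neg hc hβ h4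
      rw [this, hR.neg_left] at hcr; omega
  have hrF : X r ≤ F := fun x hx => ⟨le_SX (show r ∈ Qs B Φ r from ⟨hr, by
    have := hR.two r hr; omega⟩) hx, mul_mem (hgr x hx) (inv_mem hx)⟩
  have hle : SX X (Qs B Φ r) ≤ F := by
    refine SX_le fun a ha => ?_
    rcases R.eq_or hr ha with h4 | h4
    · rw [h4]; exact hrF
    · exact hall a ha.1 h4
  exact (hle hv).2

/-- **The torus element `h` commutes with `C4` on `Q / X_r`.** -/
theorem comm_D (h3 : ∀ r ∈ Φ, ∀ s ∈ Φ, B r s = 0 → ∃ a ∈ Φ, B a r = 1 ∧ B a s = -1) (hr : r ∈ Φ) {β : L}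
    (hβ : β ∈ Φ) (hβr : B β r = 0)
    (ZQ : ∀ q ∈ SX X (Qs B Φ r), (∀ v ∈ SX X (Qs B Φ r), q * v = v * q) → q ∈ X r) {h k : G}
    (hh : ∀ a ∈ Φ, ∀ x ∈ X a, h * x * h⁻¹ ∈ X a) (hh' : ∀ a ∈ Φ, ∀ x ∈ X a, h⁻¹ * x * h ∈ X a)
    (hk : ∀ a ∈ Φ, ∀ x ∈ X a, k * x * k⁻¹ ∈ X a) (hk' : ∀ a ∈ Φ, ∀ x ∈ X a, k⁻¹ * x * k ∈ X a)
    (hkP : k ∈ SX X (Ps B Φ r))
    (hc : ∀ c ∈ Φ, B c r = 1 → B c β = 1 → ∀ x ∈ X c, h * x * h⁻¹ = k * x * k⁻¹)
    (hhC : h ∈ Cq (X r) (SX X (Qs B Φ r)) (SX X (Ps B Φ r)))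
    {y : G} (hy : y ∈ Cq (X r) (SX X (Qs B Φ r)) (SX X (Ps B Φ r))) {v : G} (hv : v ∈ SX X (Qs B Φ r)) :
    (h * y * h⁻¹ * y⁻¹) * v * (h * y * h⁻¹ * y⁻¹)⁻¹ * v⁻¹ ∈ X r := by
  have hg : h * y * h⁻¹ * y⁻¹ ∈ Cq (X r) (SX X (Qs B Φ r)) (SX X (Ps B Φ r)) :=
    mul_mem (mul_mem (mul_mem hhC hy) (inv_mem hhC)) (inv_mem hy)
  refine R.eq_of_V0 h3 hr hβ hβr hg ?_ hg.1 hv
  -- `g = k⁻¹ h` is trivial on `V₀`
  have hg0 : ∀ v ∈ V0 B Φ X r β, (k⁻¹ * h) * v * (k⁻¹ * h)⁻¹ * v⁻¹ ∈ X r := by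
    intro v hv
    refine R.V0_eq h3 hr hβ hβr ZQ ?_ ?_ ?_ hv
    · intro a ha x hx
      have e : k⁻¹ * h * x * (k⁻¹ * h)⁻¹ = k⁻¹ * (h * x * h⁻¹) * k := by group
      rw [e]; exact hk' a ha _ (hh a ha x hx)
    · intro a ha x hx
      have e : (k⁻¹ * h)⁻¹ * x * (k⁻¹ * h) = h⁻¹ * (k * x * k⁻¹) * h := by group
      rw [e]; exact hh' a ha _ (hk a ha x hx)
    · intro c hc' h4 h5 x hx
      have e : k⁻¹ * h * x * (k⁻¹ * h)⁻¹ = k⁻¹ * (h * x * h⁻¹) * k := by group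
      rw [e, hc c hc' h4 h5 x hx]; group
  -- so `h v h⁻¹ = z (k v k⁻¹)`
  have hkr : ∀ x ∈ X r, k * x * k⁻¹ = x := fun x hx => by rw [← R.XP hr hx hkP]; group
  have hV : ∀ v ∈ V0 B Φ X r β, ∃ z ∈ X r, h * v * h⁻¹ = z * (k * v * k⁻¹) := by
    intro v hv
    refine ⟨_, hg0 v hv, ?_⟩
    have h4 := hkr _ (hg0 v hv)
    calc h * v * h⁻¹ = k * ((k⁻¹ * h) * v * (k⁻¹ * h)⁻¹ * v⁻¹) * k⁻¹ * (k * v * k⁻¹) := by group
      _ = _ := by rw [h4]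
  -- `k` preserves `V₀`
  have hkV : ∀ v ∈ V0 B Φ X r β, k⁻¹ * v * k ∈ V0 B Φ X r β := by
    rintro v ⟨hv1, hv2⟩
    have hQ : k⁻¹ * v * k ∈ SX X (Qs B Φ r) := by
      have := R.PQ (inv_mem hkP) hv1
      rwa [inv_inv] at this
    refine ⟨hQ, fun a ha har haβ u hu => ?_⟩
    have h4 := hv2 a ha har haβ _ (hk a ha u hu)
    have h5 : k⁻¹ * (v * (k * u * k⁻¹) * v⁻¹ * (k * u * k⁻¹)⁻¹) * k ∈ X r := hk' r hr _ h4
    have e : k⁻¹ * v * k * u * (k⁻¹ * v * k)⁻¹ * u⁻¹ = k⁻¹ * (v * (k * u * k⁻¹) * v⁻¹ * (k * u * k⁻¹)⁻¹) * k := by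
      group
    rw [e]; exact h5
  intro v hv
  -- `v₁ = k⁻¹ y⁻¹ v y k`
  have hyv := R.V0_conj hr (inv_mem hy) hv
  rw [inv_inv] at hyv
  have h1 := hkV _ hyv
  set w := y⁻¹ * v * y with hwd
  set v1 := k⁻¹ * w * k with hv1d
  obtain ⟨z, hz, he⟩ := hV v1 h1
  -- `h v1 h⁻¹ = z w`
  have e1 : h * v1 * h⁻¹ = z * w := by rw [he, hv1d]; group
  have e2 : h⁻¹ * w * h = (h⁻¹ * z⁻¹ * h) * v1 := by
    have : v1 = h⁻¹ * (z * w) * h := by rw [← e1]; group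
    rw [this]; group
  -- `y v1 y⁻¹ = z' (k⁻¹ v k)`
  have hq := hy.2.2.2.2 k⁻¹ (inv_mem hkP)
  set q := y * k⁻¹ * y⁻¹ * k⁻¹⁻¹ with hqd
  have e3 : y * v1 * y⁻¹ = q * (k⁻¹ * v * k) * q⁻¹ := by rw [hv1d, hwd, hqd]; group
  have hz' := R.QQ hr hq (hkV v hv).1
  set z' := q * (k⁻¹ * v * k) * q⁻¹ * (k⁻¹ * v * k)⁻¹ with hz'd
  have e4 : y * v1 * y⁻¹ = z' * (k⁻¹ * v * k) := by rw [e3, hz'd]; group
  obtain ⟨z2, hz2, he2⟩ := hV _ (hkV v hv)
  have e5 : h * (k⁻¹ * v * k) * h⁻¹ = z2 * v := by rw [he2]; group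
  -- collect
  have hzz : h⁻¹ * z⁻¹ * h ∈ X r := hh' r hr _ (inv_mem hz)
  have hfin : (h * y * h⁻¹ * y⁻¹) * v * (h * y * h⁻¹ * y⁻¹)⁻¹ * v⁻¹ =
      (h * (y * (h⁻¹ * z⁻¹ * h) * y⁻¹) * h⁻¹) * (h * z' * h⁻¹) * z2 := by
    calc (h * y * h⁻¹ * y⁻¹) * v * (h * y * h⁻¹ * y⁻¹)⁻¹ * v⁻¹
        = h * (y * (h⁻¹ * w * h) * y⁻¹) * h⁻¹ * v⁻¹ := by rw [hwd]; group
      _ = h * (y * (h⁻¹ * z⁻¹ * h) * y⁻¹) * (y * v1 * y⁻¹) * h⁻¹ * v⁻¹ := by rw [e2]; group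
      _ = (h * (y * (h⁻¹ * z⁻¹ * h) * y⁻¹) * h⁻¹) * (h * z' * h⁻¹) * (h * (k⁻¹ * v * k) * h⁻¹) * v⁻¹ := by
        rw [e4]; group
      _ = _ := by rw [e5]; group
  rw [hfin]
  exact mul_mem (mul_mem (hh r hr _ (hy.1 _ hzz)) (hh r hr _ hz')) hz2

end RG

end Cfsg.Agent.OddHalf.D7Ex.Vzero

end

-- merged: Cfsg.Agent.OddHalf.D7Ex.SetupOf
section

/-!
# The doubled root group at one root, from facts on the root groups

`KR` : the facts on `t`, the root groups and `P` (`Q ≤ P ≤ ⟨X b : (b, r) ≥ 0⟩`, `P` perfect) for all `q`;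
`KR.setup` : the hypotheses of `Setup`; `KR.exists_big` : the doubled root group, `q > 2`; `KR.exists_two` : `q = 2`.
-/

set_option autoImplicit false
set_option linter.style.haveILetI false
set_option linter.unusedSectionVars false
set_option linter.unusedVariables false

namespace Cfsg.Agent.OddHalf.D7Ex

open Subgroup Cfsg.Agent.OddHalf.SL.Defs
open scoped commutatorElement

variable {L : Type*} [AddCommGroup L] {G : Type*} [Group G]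

/-! ### Derived series -/

/-- The derived series of a subgroup. -/
def Dser (C : Subgroup G) : ℕ → Subgroup G
  | 0 => C
  | k + 1 => ⁅Dser C k, Dser C k⁆

theorem le_Dser {C R : Subgroup G} (hR : R ≤ C) (hp : R ≤ ⁅R, R⁆) (k : ℕ) : R ≤ Dser C k := by
  induction k with
  | zero => exact hR
  | succ k ih => exact hp.trans (commutator_mono ih ih)

/-- The centraliser of `t` and `X`. -/
def CC (t : G) (X : Subgroup G) : Subgroup G := centralizer ({t} : Set G) ⊓ centralizer (X : Set G)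

theorem mem_CC {t : G} {X : Subgroup G} {c : G} : c ∈ CC t X ↔ c * t = t * c ∧ ∀ x ∈ X, c * x = x * c := by
  unfold CC
  rw [mem_inf, mem_centralizer_singleton_iff, mem_centralizer_iff]
  refine and_congr Iff.rfl ⟨fun h x hx => (h x hx).symm, fun h x hx => (h x hx).symm⟩

/-- The inverse of an element normalising `X` and `t X`. -/
theorem inv_normX {t : G} {X : Subgroup G} (tt : t * t = 1) [Finite G] {n : G} (hX : ∀ x ∈ X, n * x * n⁻¹ ∈ X)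
    (ht : t * (n * t * n⁻¹) ∈ X) : (∀ x ∈ X, n⁻¹ * x * n⁻¹⁻¹ ∈ X) ∧ t * (n⁻¹ * t * n⁻¹⁻¹) ∈ X := by
  have t_inv : t⁻¹ = t := inv_eq_of_mul_eq_one_left tt
  have h1 : ∀ x ∈ X, n⁻¹ * x * n ∈ X := by
    let f : X → X := fun x => ⟨n * x * n⁻¹, hX x x.2⟩
    have hf : Function.Injective f := by
      intro x y hxy
      have h2 : n * (x : G) * n⁻¹ = n * (y : G) * n⁻¹ := congrArg Subtype.val hxy
      exact Subtype.ext (mul_left_cancel (mul_right_cancel h2))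
    have hs := Finite.surjective_of_injective hf
    intro x hx
    obtain ⟨y, hy⟩ := hs ⟨x, hx⟩
    have h2 : n * (y : G) * n⁻¹ = x := congrArg Subtype.val hy
    have h3 : n⁻¹ * x * n = y := by rw [← h2]; group
    rw [h3]; exact y.2
  refine ⟨fun x hx => by simpa using h1 x hx, ?_⟩
  have h2 := inv_mem (h1 _ ht)
  have e : t * (n⁻¹ * t * n⁻¹⁻¹) = (n⁻¹ * (t * (n * t * n⁻¹)) * n)⁻¹ := by
    calc t * (n⁻¹ * t * n⁻¹⁻¹) = t⁻¹ * (n⁻¹ * t⁻¹ * n) := by rw [t_inv, inv_inv]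
      _ = _ := by group
  rwa [e]

theorem conj_CC {t : G} {X : Subgroup G} (tt : t * t = 1) [Finite G] {n : G} (hX : ∀ x ∈ X, n * x * n⁻¹ ∈ X)
    (ht : t * (n * t * n⁻¹) ∈ X) {c : G} (hc : c ∈ CC t X) : n * c * n⁻¹ ∈ CC t X := by
  obtain ⟨hX', ht'⟩ := inv_normX tt hX ht
  rw [mem_CC] at hc ⊢
  have key : ∀ y, c * (n⁻¹ * y * n) = (n⁻¹ * y * n) * c → n * c * n⁻¹ * y = y * (n * c * n⁻¹) := by
    intro y hy
    calc n * c * n⁻¹ * y = n * (c * (n⁻¹ * y * n)) * n⁻¹ := by group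
      _ = n * ((n⁻¹ * y * n) * c) * n⁻¹ := by rw [hy]
      _ = _ := by group
  constructor
  · apply key
    have e : n⁻¹ * t * n = t * (t * (n⁻¹ * t * n⁻¹⁻¹)) := by
      rw [← mul_assoc, tt, one_mul, inv_inv]
    rw [e, ← mul_assoc, hc.1, mul_assoc, hc.2 _ ht', ← mul_assoc]
  · intro x hx
    apply key
    have := hX' x hx
    rw [inv_inv] at this
    exact hc.2 _ this

/-- `n` normalises `P`: `P` perfect and `C_G(⟨t⟩X)/P` solvable. -/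
theorem nP_of_solv {t : G} {X P : Subgroup G} (tt : t * t = 1) [Finite G] (hPC : P ≤ CC t X) (perf : P ≤ ⁅P, P⁆)
    (solv : ∃ k, Dser (CC t X) k ≤ P) (n : G) (hX : ∀ x ∈ X, n * x * n⁻¹ ∈ X)
    (ht : t * (n * t * n⁻¹) ∈ X) : ∀ p ∈ P, n * p * n⁻¹ ∈ P := by
  intro p hp
  obtain ⟨k, hk⟩ := solv
  let R : Subgroup G := P.map (MulAut.conj n).toMonoidHom
  have hR : R ≤ CC t X := by
    rintro _ ⟨p, hp, rfl⟩
    exact conj_CC tt hX ht (hPC hp)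
  have hRp : R ≤ ⁅R, R⁆ := by
    rw [← map_commutator]
    exact map_mono perf
  exact hk (le_Dser hR hRp k ⟨p, hp, rfl⟩)

/-- `n` normalises `P`: `P` perfect, generated by involutions, and the involutions of `C_G(⟨t⟩X)` lie in
`⟨t⟩ P₁`, `P₁^(k) ≤ P`. -/
theorem nP_of_inv {t : G} {X P P1 : Subgroup G} (tt : t * t = 1) [Finite G] (hPC : P ≤ CC t X) (hP1 : P1 ≤ CC t X)
    (perf : P ≤ ⁅P, P⁆) (gen : P ≤ closure {c | c ∈ P ∧ c * c = 1})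
    (two : ∀ c ∈ CC t X, c * c = 1 → c ∈ P1 ∨ t * c ∈ P1)
    (solv : ∃ k, Dser P1 k ≤ P) (n : G) (hX : ∀ x ∈ X, n * x * n⁻¹ ∈ X)
    (ht : t * (n * t * n⁻¹) ∈ X) : ∀ p ∈ P, n * p * n⁻¹ ∈ P := by
  intro p hp
  obtain ⟨k, hk⟩ := solv
  let R : Subgroup G := P.map (MulAut.conj n).toMonoidHom
  -- `E = ⟨t⟩ P₁`
  let E : Subgroup G :=
    { carrier := {c | c ∈ P1 ∨ t * c ∈ P1}
      one_mem' := Or.inl (one_mem _)
      mul_mem' := by
        rintro a b ha hb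
        have hct : ∀ c ∈ P1, t * c = c * t := fun c hc => ((mem_CC.1 (hP1 hc)).1).symm
        rcases ha with ha | ha <;> rcases hb with hb | hb
        · exact Or.inl (mul_mem ha hb)
        · right
          have := mul_mem ha hb
          rwa [← mul_assoc, ← hct a ha, mul_assoc] at this
        · right
          have := mul_mem ha hb
          rwa [mul_assoc] at this
        · left
          have := mul_mem ha hb
          have e : t * a * (t * b) = a * b := by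
            calc t * a * (t * b) = (t * (t * a)) * b := by rw [hct _ ha]; group
              _ = a * b := by rw [← mul_assoc t t, tt, one_mul]
          rwa [e] at this
      inv_mem' := by
        have t_inv : t⁻¹ = t := inv_eq_of_mul_eq_one_left tt
        rintro a (ha | ha)
        · exact Or.inl (inv_mem ha)
        · right
          have h1 := inv_mem ha
          have h2 : t * (t * a)⁻¹ = (t * a)⁻¹ * t := ((mem_CC.1 (hP1 h1)).1).symm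
          have e : t * a⁻¹ = (t * a)⁻¹ := by
            calc t * a⁻¹ = t * ((t * a)⁻¹ * t) := by group
              _ = t * (t * (t * a)⁻¹) := by rw [h2]
              _ = (t * a)⁻¹ := by rw [← mul_assoc, tt, one_mul]
          rwa [e] }
  have hR : R ≤ E := by
    refine (map_mono gen).trans ?_
    rw [MonoidHom.map_closure, closure_le]
    rintro _ ⟨c, ⟨hc, hc2⟩, rfl⟩
    refine two _ (conj_CC tt hX ht (hPC hc)) ?_
    show n * c * n⁻¹ * (n * c * n⁻¹) = 1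
    calc n * c * n⁻¹ * (n * c * n⁻¹) = n * (c * c) * n⁻¹ := by group
      _ = 1 := by rw [hc2]; group
  have hE : ⁅E, E⁆ ≤ P1 := by
    rw [commutator_le]
    intro a ha b hb
    have hct : ∀ c ∈ P1, t * c = c * t := fun c hc => ((mem_CC.1 (hP1 hc)).1).symm
    have t_inv : t⁻¹ = t := inv_eq_of_mul_eq_one_left tt
    -- `a = a' t^i`
    have key : ∀ a, (a ∈ P1 ∨ t * a ∈ P1) → ∃ a' ∈ P1, ∃ s : G, (∀ b, (b ∈ P1 ∨ t * b ∈ P1) → s * b = b * s) ∧ a = s * a' := by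
      rintro a (ha | ha)
      · exact ⟨a, ha, 1, fun b _ => by rw [one_mul, mul_one], (one_mul a).symm⟩
      · refine ⟨t * a, ha, t, ?_, by rw [← mul_assoc, tt, one_mul]⟩
        rintro b (hb | hb)
        · exact hct b hb
        · have h1 := hct _ hb
          have h2 : t * (t * b) = t * (b * t) := by rw [h1]; group
          exact mul_left_cancel h2
    obtain ⟨a', ha', s, hs, rfl⟩ := key a ha
    obtain ⟨b', hb', u, hu, rfl⟩ := key b hb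
    have h1 : s * (u * b') = (u * b') * s := hs _ hb
    have h2 : u * a' = a' * u := hu _ (Or.inl ha')
    have e : ⁅s * a', u * b'⁆ = ⁅a', b'⁆ := by
      rw [commutatorElement_def, commutatorElement_def]
      calc s * a' * (u * b') * (s * a')⁻¹ * (u * b')⁻¹
          = s * (a' * u) * b' * a'⁻¹ * s⁻¹ * (u * b')⁻¹ := by group
        _ = s * u * a' * b' * a'⁻¹ * s⁻¹ * (u * b')⁻¹ := by rw [← h2]; group
        _ = s * u * a' * b' * a'⁻¹ * (s⁻¹ * (u * b')⁻¹) := by group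
        _ = s * u * a' * b' * a'⁻¹ * ((u * b')⁻¹ * s⁻¹) := by
          rw [← mul_inv_rev (u * b') s, ← h1, mul_inv_rev]
        _ = s * u * (a' * b' * a'⁻¹ * b'⁻¹) * u⁻¹ * s⁻¹ := by group
        _ = s * (u * (a' * b' * a'⁻¹ * b'⁻¹)) * u⁻¹ * s⁻¹ := by group
        _ = s * ((a' * b' * a'⁻¹ * b'⁻¹) * u) * u⁻¹ * s⁻¹ := by
          rw [hu _ (Or.inl (mul_mem (mul_mem (mul_mem ha' hb') (inv_mem ha')) (inv_mem hb')))]
        _ = (s * (a' * b' * a'⁻¹ * b'⁻¹)) * s⁻¹ := by group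
        _ = a' * b' * a'⁻¹ * b'⁻¹ := by
          rw [hs _ (Or.inl (mul_mem (mul_mem (mul_mem ha' hb') (inv_mem ha')) (inv_mem hb')))]; group
    rw [e, commutatorElement_def]
    exact mul_mem (mul_mem (mul_mem ha' hb') (inv_mem ha')) (inv_mem hb')
  have hRp : R ≤ ⁅R, R⁆ := by
    rw [← map_commutator]
    exact map_mono perf
  have hR1 : R ≤ P1 := hRp.trans ((commutator_mono hR hR).trans hE)
  exact hk (le_Dser hR1 hRp k ⟨p, hp, rfl⟩)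

/-! ### The quotient `Q / X` -/

namespace RG

variable {B : L → L → ℤ} {Φ : Set L} {X : L → Subgroup G}

/-- Squares of elements of `Q` lie in `X r`. -/
theorem sq_mem (h : RG B Φ X) {r : L} (hr : r ∈ Φ) {q : G} (hq : q ∈ QS X (Ph1 B Φ r) r) : q * q ∈ X r := by
  let D : Subgroup G :=
    { carrier := {q | q ∈ QS X (Ph1 B Φ r) r ∧ q * q ∈ X r}
      one_mem' := ⟨one_mem _, by rw [mul_one]; exact one_mem _⟩
      mul_mem' := by
        rintro a b ⟨ha, ha2⟩ ⟨hb, hb2⟩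
        refine ⟨mul_mem ha hb, ?_⟩
        have h1 := h.QQ hr (inv_mem ha) hb
        have e : a * b * (a * b) = (a * a) * (a⁻¹ * b * a⁻¹⁻¹ * b⁻¹) * (b * b) := by group
        rw [e]
        exact mul_mem (mul_mem ha2 h1) hb2
      inv_mem' := by
        rintro a ⟨ha, ha2⟩
        refine ⟨inv_mem ha, ?_⟩
        rw [← mul_inv_rev]
        exact inv_mem ha2 }
  have hle : QS X (Ph1 B Φ r) r ≤ D := by
    refine QS_le (fun x hx => ⟨X_le_QS X _ r hx, mul_mem hx hx⟩) fun b hb x hx => ⟨le_QS X r hb hx, ?_⟩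
    rw [h.X2 b hb.1 x hx]; exact one_mem _
  exact (hle hq).2

theorem isPGroup_Q (h : RG B Φ X) {r : L} (hr : r ∈ Φ) : IsPGroup 2 (QS X (Ph1 B Φ r) r) := by
  rintro ⟨q, hq⟩
  refine ⟨2, Subtype.ext ?_⟩
  show q ^ (2 ^ 2) = 1
  have h1 := h.X2 r hr _ (h.sq_mem hr hq)
  have e : q ^ (2 ^ 2) = q * q * (q * q) := by norm_num [pow_succ, mul_assoc]
  rw [e, h1]

end RG

/-! ### The facts -/

/-- The facts on `t`, the root groups and `P`. -/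
structure KR (t : G) (B : L → L → ℤ) (Φ : Set L) (X : L → Subgroup G) (r : L) (P T : Subgroup G) : Prop where
  rg : RG B Φ X
  hr : r ∈ Φ
  pg : PG B Φ X r P
  tt : t * t = 1
  tX : ∀ a ∈ Φ, ∀ x ∈ X a, t * x = x * t
  tr : t ∉ X r
  tT : ∀ h ∈ T, t * h = h * t
  TX : ∀ h ∈ T, ∀ x ∈ X r, h * x * h⁻¹ ∈ X r
  TP : ∀ h ∈ T, ∀ p ∈ P, h * p * h⁻¹ ∈ P
  Tab : ∀ h ∈ T, ∀ k ∈ T, h * k = k * h
  cP : ∀ c, t * c = c * t → (∀ p ∈ P, c * p = p * c) → c ∈ X r ∨ t * c ∈ X r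
  perf : P ≤ ⁅P, P⁆
  nP0 : ∀ n : G, (∀ x ∈ X r, n * x * n⁻¹ ∈ X r) → t * (n * t * n⁻¹) ∈ X r → ∀ p ∈ P, n * p * n⁻¹ ∈ P
  o2 : ∀ R : Subgroup G, R ≤ P → IsPGroup 2 R → (∀ p ∈ P, ∀ x ∈ R, p * x * p⁻¹ ∈ R) → R ≤ QS X (Ph1 B Φ r) r

namespace KR

variable {t : G} {B : L → L → ℤ} {Φ : Set L} {X : L → Subgroup G} {r : L} {P T : Subgroup G}

theorem tP (K : KR t B Φ X r P T) : ∀ p ∈ P, t * p = p * t := by
  have h1 : PR B Φ X r ≤ centralizer ({t} : Set G) := PR_le fun b hb _ x hx => by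
    rw [mem_centralizer_singleton_iff]
    exact (K.tX b hb x hx).symm
  exact fun p hp => (mem_centralizer_singleton_iff.1 (h1 (K.pg.PPR hp))).symm

theorem XP (K : KR t B Φ X r P T) : ∀ x ∈ X r, ∀ p ∈ P, x * p = p * x := fun x hx p hp =>
  K.rg.XP K.hr hx (K.pg.PPR hp)

theorem t_inv (K : KR t B Φ X r P T) : t⁻¹ = t := inv_eq_of_mul_eq_one_left K.tt

/-- The inverse of an element normalising `X` and `t X`. -/
theorem inv_norm (K : KR t B Φ X r P T) [Finite G] {n : G} (hX : ∀ x ∈ X r, n * x * n⁻¹ ∈ X r)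
    (ht : t * (n * t * n⁻¹) ∈ X r) :
    (∀ x ∈ X r, n⁻¹ * x * n⁻¹⁻¹ ∈ X r) ∧ t * (n⁻¹ * t * n⁻¹⁻¹) ∈ X r := inv_normX K.tt hX ht

theorem nQ1 (K : KR t B Φ X r P T) [Finite G] {n : G} (hX : ∀ x ∈ X r, n * x * n⁻¹ ∈ X r)
    (ht : t * (n * t * n⁻¹) ∈ X r) {q : G} (hq : q ∈ QS X (Ph1 B Φ r) r) :
    n * q * n⁻¹ ∈ QS X (Ph1 B Φ r) r := by
  obtain ⟨hX', ht'⟩ := K.inv_norm hX ht
  let R : Subgroup G := (QS X (Ph1 B Φ r) r).map (MulAut.conj n).toMonoidHom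
  have hR : R ≤ QS X (Ph1 B Φ r) r := by
    apply K.o2 R
    · rintro _ ⟨q, hq, rfl⟩
      exact K.nP0 n hX ht _ (K.pg.QP hq)
    · exact (K.rg.isPGroup_Q K.hr).map _
    · rintro p hp _ ⟨q, hq, rfl⟩
      have h1 := K.nP0 n⁻¹ hX' ht' p hp
      have h2 := K.rg.PQ K.hr (K.pg.PPR h1) hq
      refine ⟨_, h2, ?_⟩
      show n * (n⁻¹ * p * n⁻¹⁻¹ * q * (n⁻¹ * p * n⁻¹⁻¹)⁻¹) * n⁻¹ = p * (n * q * n⁻¹) * p⁻¹
      group
  exact hR ⟨q, hq, rfl⟩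

/-- The hypotheses of `Setup`. -/
theorem setup (K : KR t B Φ X r P T) [Finite G] : Setup t (X r) (QS X (Ph1 B Φ r) r) P T where
  tt := K.tt
  tX := K.tr
  X2 := K.rg.X2 r K.hr
  XQ := X_le_QS X _ r
  QP := K.pg.QP
  tP := K.tP
  XP := K.XP
  PQ := fun p hp q hq => K.rg.PQ K.hr (K.pg.PPR hp) hq
  tH := K.tT
  HX := K.TX
  nP := fun n hX ht => ⟨K.nP0 n hX ht, fun q hq => K.nQ1 hX ht hq⟩
  XQQ := K.rg.XQQ K.hr
  QQ := fun v hv w hw => K.rg.QQ K.hr hv hw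
  ZQ := fun q hq hc => K.rg.ZQ K.hr hq hc
  E2 := fun f h1 h2 h3 h4 => K.rg.E2 K.hr K.pg f h1 h2 h3 h4
  noh := by
    intro f p
    have hcomm : ∀ a b : X r, a * b = b * a := fun a b => Subtype.ext
      (K.XP a a.2 b (K.pg.QP (X_le_QS X _ r b.2)))
    -- the kernel contains the commutators
    have h1 : ⁅P, P⁆ ≤ f.ker.map P.subtype := by
      rw [commutator_le]
      intro a ha b hb
      refine ⟨⁅(⟨a, ha⟩ : P), ⟨b, hb⟩⁆, ?_, rfl⟩
      show f _ = 1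
      rw [map_commutatorElement, commutatorElement_eq_one_iff_mul_comm]
      exact hcomm _ _
    obtain ⟨⟨p', hp'⟩, h2, h3⟩ := h1 (K.perf p.2)
    have : (⟨p', hp'⟩ : P) = p := Subtype.ext h3
    rw [← this]; exact h2

/-- The hypotheses of `Cent`. -/
theorem cent (K : KR t B Φ X r P T) (hex : ∀ x ∈ X r, ∃ b : G, (∀ p ∈ P, b * p = p * b) ∧ b * t * b⁻¹ = t * x) :
    Cent t (X r) P where
  tt := K.tt
  tX := K.tr
  X2 := K.rg.X2 r K.hr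
  XP := fun x hx => K.pg.QP (X_le_QS X _ r hx)
  tP := K.tP
  Xc := K.XP
  cP := K.cP
  ex := hex

theorem nice (K : KR t B Φ X r P T) {h k : G} (hh : h ∈ T) (hk : k ∈ T) : Nice t (X r) P h k where
  kt := (K.tT k hk).symm
  kX := by
    intro x
    refine ⟨K.TX k hk x, fun hx => ?_⟩
    have := K.TX k⁻¹ (inv_mem hk) _ hx
    have e : k⁻¹ * (k * x * k⁻¹) * k⁻¹⁻¹ = x := by group
    rwa [e] at this
  kP := by
    intro p
    refine ⟨K.TP k hk p, fun hp => ?_⟩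
    have := K.TP k⁻¹ (inv_mem hk) _ hp
    have e : k⁻¹ * (k * p * k⁻¹) * k⁻¹⁻¹ = p := by group
    rwa [e] at this
  kh := by
    have e : k * h * k⁻¹ * h⁻¹ = 1 := by rw [K.Tab k hk h hh]; group
    rw [e]; exact one_mem _

/-- The output at one root. -/
structure Out (t : G) (Xr P T W : Subgroup G) : Prop where
  dbl : IsDbl t Xr P W
  sq : ∀ w ∈ W, w * w ∈ Xr
  nrm : ∀ k ∈ T ⊔ P, ∀ w ∈ W, k * w * k⁻¹ ∈ W

/-- `h` is fixed point free on `X`. -/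
theorem fpf (K : KR t B Φ X r P T) (Htr : ∀ x ∈ X r, ∀ y ∈ X r, x ≠ 1 → y ≠ 1 → ∃ h ∈ T, h * x * h⁻¹ = y)
    {h : G} (hh : h ∈ T) (hne : ∃ x ∈ X r, h * x * h⁻¹ ≠ x) : ∀ x ∈ X r, h * x * h⁻¹ = x → x = 1 := by
  obtain ⟨x0, hx0, hne⟩ := hne
  have hx01 : x0 ≠ 1 := by
    rintro rfl
    apply hne; group
  intro x hx e
  by_contra hx1
  apply hne
  obtain ⟨k, hk, ek⟩ := Htr x hx x0 hx0 hx1 hx01
  have hc := K.Tab h hh k hk
  calc h * x0 * h⁻¹ = (h * k) * x * (h * k)⁻¹ := by rw [← ek]; group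
    _ = k * (h * x * h⁻¹) * k⁻¹ := by rw [hc]; group
    _ = x0 := by rw [e, ek]

/-- **The doubled root group from `Cent`, `q > 2`.** -/
theorem out_big (K : KR t B Φ X r P T) [Finite G] (C : Cent t (X r) P)
    (Htr : ∀ x ∈ X r, ∀ y ∈ X r, x ≠ 1 → y ≠ 1 → ∃ h ∈ T, h * x * h⁻¹ = y)
    {h : G} (hh : h ∈ T) {m : ℕ} (hm : Odd m) (hm1 : h ^ m = 1) (hne : ∃ x ∈ X r, h * x * h⁻¹ ≠ x) :
    ∃ W, Out t (X r) P T W := by
  have hf := K.fpf Htr hh hne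
  have hN := K.nice hh hh
  refine ⟨C.Wbig hN m, C.isDbl_big hN hm1 hm hf, fun w hw => ?_, ?_⟩
  · obtain ⟨h1, -⟩ := (C.mem_Wbig hN m).1 hw
    exact C.sq_mem h1
  · intro k hk
    have hle : T ⊔ P ≤
        { carrier := {k | (∀ w ∈ C.Wbig hN m, k * w * k⁻¹ ∈ C.Wbig hN m) ∧
            ∀ w ∈ C.Wbig hN m, k⁻¹ * w * k ∈ C.Wbig hN m}
          one_mem' := ⟨fun w hw => by simpa using hw, fun w hw => by simpa using hw⟩
          mul_mem' := by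
            rintro a b ⟨ha, ha'⟩ ⟨hb, hb'⟩
            refine ⟨fun w hw => ?_, fun w hw => ?_⟩
            · have := ha _ (hb w hw)
              have e : a * b * w * (a * b)⁻¹ = a * (b * w * b⁻¹) * a⁻¹ := by group
              rwa [e]
            · have := hb' _ (ha' w hw)
              have e : (a * b)⁻¹ * w * (a * b) = b⁻¹ * (a⁻¹ * w * a) * b := by group
              rwa [e]
          inv_mem' := by
            rintro a ⟨ha, ha'⟩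
            exact ⟨fun w hw => by simpa using ha' w hw, fun w hw => by simpa using ha w hw⟩ : Subgroup G } := by
      refine sup_le (fun k hk => ⟨fun w hw => C.nice_big hN m (K.nice hh hk) hw, fun w hw => ?_⟩)
        fun k hk => ⟨fun w hw => ?_, fun w hw => ?_⟩
      · have := C.nice_big hN m (K.nice hh (inv_mem hk)) hw
        rwa [inv_inv] at this
      · rw [← (C.isDbl_big hN hm1 hm hf).WP w hw k hk, mul_inv_cancel_right]
        exact hw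
      · rw [mul_assoc, (C.isDbl_big hN hm1 hm hf).WP w hw k hk, inv_mul_cancel_left]
        exact hw
    exact (hle hk).1

/-- **The doubled root group, `q = 2`**: `n` acts on `P/Q` as an element of `P`. -/
theorem exists_two (K : KR t B Φ X r P T) (pt : PT B Φ X r P) [Finite G] {z : G} (hz : ∀ x ∈ X r, x = 1 ∨ x = z)
    {n : G} (hX : ∀ x ∈ X r, n * x * n⁻¹ ∈ X r) (ht : t * (n * t * n⁻¹) ∈ X r) (hnt : n * t * n⁻¹ ≠ t)
    {p0 : G} (hp0 : p0 ∈ P) (hin : ∀ p ∈ P, n * p * n⁻¹ * (p0 * p * p0⁻¹)⁻¹ ∈ QS X (Ph1 B Φ r) r) :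
    ∃ W, Out t (X r) P T W ∧ (∀ w ∈ W, w * w = 1) ∧
      ∀ k, Nice t (X r) P 1 k → ∀ w ∈ W, k * w * k⁻¹ ∈ W := by
  have S := K.setup
  have hn : n ∈ S.N := by
    refine ⟨hX, fun x hx => ?_, ht⟩
    have := (K.inv_norm hX ht).1 x hx
    rwa [inv_inv] at this
  have C : Cent t (X r) P := K.cent fun x hx => S.exists_cent_of_inner
    (fun n h2 hQ hX hP q hq => K.rg.lin K.hr K.pg.PPR pt h2 hQ hX hP hq) hz hn hnt hp0 hin hx
  refine ⟨C.Wtwo hz, ⟨C.isDbl_two hz, fun w hw => ?_, ?_⟩, fun w hw => hw.2.1, fun k hk w hw => C.nice_two hz hk hw⟩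
  · rw [hw.2.1]; exact one_mem _
  · intro k hk
    have hle : T ⊔ P ≤
        { carrier := {k | (∀ w ∈ C.Wtwo hz, k * w * k⁻¹ ∈ C.Wtwo hz) ∧
            ∀ w ∈ C.Wtwo hz, k⁻¹ * w * k ∈ C.Wtwo hz}
          one_mem' := ⟨fun w hw => by simpa using hw, fun w hw => by simpa using hw⟩
          mul_mem' := by
            rintro a b ⟨ha, ha'⟩ ⟨hb, hb'⟩
            refine ⟨fun w hw => ?_, fun w hw => ?_⟩
            · have := ha _ (hb w hw)
              have e : a * b * w * (a * b)⁻¹ = a * (b * w * b⁻¹) * a⁻¹ := by group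
              rwa [e]
            · have := hb' _ (ha' w hw)
              have e : (a * b)⁻¹ * w * (a * b) = b⁻¹ * (a⁻¹ * w * a) * b := by group
              rwa [e]
          inv_mem' := by
            rintro a ⟨ha, ha'⟩
            exact ⟨fun w hw => by simpa using ha' w hw, fun w hw => by simpa using ha w hw⟩ : Subgroup G } := by
      refine sup_le (fun k hk => ⟨fun w hw => C.nice_two hz (K.nice (one_mem T) hk) hw, fun w hw => ?_⟩)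
        fun k hk => ⟨fun w hw => ?_, fun w hw => ?_⟩
      · have := C.nice_two hz (K.nice (one_mem T) (inv_mem hk)) hw
        rwa [inv_inv] at this
      · rw [← (C.isDbl_two hz).WP w hw k hk, mul_inv_cancel_right]
        exact hw
      · rw [mul_assoc, (C.isDbl_two hz).WP w hw k hk, inv_mul_cancel_left]
        exact hw
    exact (hle hk).1

end KR

/-! ### `q > 2`: everything from the root groups and the torus -/

section Big

variable {t : G} {B : L → L → ℤ} {Φ : Set L} {X : L → Subgroup G} {r : L} {T : Subgroup G}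

theorem SX_eq_PR : Vzero.SX X (Vzero.Ps B Φ r) = PR B Φ X r := by
  apply le_antisymm
  · exact Vzero.SX_le fun a ha => le_PR X ha.1 ha.2
  · exact PR_le fun b hb h0 => Vzero.le_SX (show b ∈ Vzero.Ps B Φ r from ⟨hb, h0⟩)

theorem SX_eq_QS (h : RG B Φ X) (hr : r ∈ Φ) : Vzero.SX X (Vzero.Qs B Φ r) = QS X (Ph1 B Φ r) r := by
  have R := h.roots
  apply le_antisymm
  · refine Vzero.SX_le fun a ha => ?_
    have h1 := R.le a ha.1 r hr
    have h2 := ha.2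
    rcases (show B a r = 1 ∨ B a r = 2 by omega) with h3 | h3
    · exact le_QS X r (show a ∈ Ph1 B Φ r from ⟨ha.1, h3⟩)
    · rw [R.eq a ha.1 r hr h3]; exact X_le_QS X _ r
  · refine QS_le (Vzero.le_SX (show r ∈ Vzero.Qs B Φ r from ⟨hr, by rw [R.two r hr]; norm_num⟩)) fun b hb =>
      Vzero.le_SX (show b ∈ Vzero.Qs B Φ r from ⟨hb.1, by rw [hb.2]⟩)

theorem vzRG (h : RG B Φ X) : Vzero.RG B Φ X where
  roots := h.roots
  pos := h.pos
  neg := h.neg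
  onto := by
    intro a ha b hb hab y hy hy1 z hz
    have hba : B b a = -1 := by rw [h.roots.symm]; exact hab
    have hsum := h.roots.add a ha b hb hab
    have hz' : z⁻¹ ∈ X (b + a) := by rw [add_comm]; exact inv_mem hz
    obtain ⟨x, hx, e⟩ := h.sur b hb a ha hba y hy hy1 _ hz'
    refine ⟨x, hx, ?_⟩
    have : x * y * x⁻¹ * y⁻¹ = (y * x * y⁻¹ * x⁻¹)⁻¹ := by group
    rw [this, e, inv_inv]
  ne := h.ne

/-- The torus elements used for `q > 2`. -/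
structure Tor (B : L → L → ℤ) (Φ : Set L) (X : L → Subgroup G) (r : L) (T : Subgroup G) (β : L) (h k : G) : Prop where
  mβ : β ∈ Φ
  βr : B β r = 0
  mh : h ∈ T
  kT : k ∈ T
  kP : k ∈ PR B Φ X r
  /-- `h = k` on `X c`, `(c, r) = (c, β) = 1` -/
  hk : ∀ c ∈ Φ, B c r = 1 → B c β = 1 → ∀ x ∈ X c, h * x * h⁻¹ = k * x * k⁻¹
  /-- `h` centralises the root groups orthogonal to `r` -/
  h0 : ∀ b ∈ Φ, B b r = 0 → ∀ x ∈ X b, h * x = x * h
  ne : ∃ x ∈ X r, h * x * h⁻¹ ≠ x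
  odd : ∃ m, Odd m ∧ h ^ m = 1

/-- `h` is trivial on `P / Q`. -/
theorem triv_PQ (K : KR t B Φ X r (PR B Φ X r) T) (TX : ∀ h ∈ T, ∀ a ∈ Φ, ∀ x ∈ X a, h * x * h⁻¹ ∈ X a)
    {h : G} (hh : h ∈ T) (h0 : ∀ b ∈ Φ, B b r = 0 → ∀ x ∈ X b, h * x = x * h) :
    ∀ p ∈ PR B Φ X r, h * p * h⁻¹ * p⁻¹ ∈ QS X (Ph1 B Φ r) r := by
  have hr := K.hr
  have R := K.rg.roots
  let D : Subgroup G :=
    { carrier := {p | p ∈ PR B Φ X r ∧ h * p * h⁻¹ * p⁻¹ ∈ QS X (Ph1 B Φ r) r}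
      one_mem' := ⟨one_mem _, by rw [mul_one, mul_inv_cancel, inv_one, mul_one]; exact one_mem _⟩
      mul_mem' := by
        rintro a b ⟨ha, ha2⟩ ⟨hb, hb2⟩
        refine ⟨mul_mem ha hb, ?_⟩
        have e : h * (a * b) * h⁻¹ * (a * b)⁻¹ = (h * a * h⁻¹ * a⁻¹) * (a * (h * b * h⁻¹ * b⁻¹) * a⁻¹) := by group
        rw [e]
        exact mul_mem ha2 (K.rg.PQ hr ha hb2)
      inv_mem' := by
        rintro a ⟨ha, ha2⟩
        refine ⟨inv_mem ha, ?_⟩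
        have e : h * a⁻¹ * h⁻¹ * a⁻¹⁻¹ = a⁻¹ * (h * a * h⁻¹ * a⁻¹)⁻¹ * a⁻¹⁻¹ := by group
        rw [e]
        exact K.rg.PQ hr (inv_mem ha) (inv_mem ha2) }
  have hle : PR B Φ X r ≤ D := by
    refine PR_le fun b hb hb0 x hx => ⟨le_PR X hb hb0 hx, ?_⟩
    have h1 := R.le b hb r hr
    have hx' := TX h hh b hb x hx
    rcases (show B b r = 0 ∨ B b r = 1 ∨ B b r = 2 by omega) with h3 | h3 | h3
    · have e : h * x * h⁻¹ * x⁻¹ = 1 := by rw [h0 b hb h3 x hx]; group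
      rw [e]; exact one_mem _
    · exact mul_mem (le_QS X r (show b ∈ Ph1 B Φ r from ⟨hb, h3⟩) hx')
        (inv_mem (le_QS X r (show b ∈ Ph1 B Φ r from ⟨hb, h3⟩) hx))
    · have h4 := R.eq b hb r hr h3
      rw [h4] at hx hx'
      exact mul_mem (X_le_QS X _ r hx') (inv_mem (X_le_QS X _ r hx))
  exact fun p hp => (hle hp).2

/-- **`C_G(P)` moves `t`, `q > 2`**, `P = ⟨X b : (b, r) ≥ 0⟩`, with torus elements `h`, `k`. -/
theorem cent_of_tor (K : KR t B Φ X r (PR B Φ X r) T) [Finite G]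
    (orth : ∀ r ∈ Φ, ∀ s ∈ Φ, B r s = 0 → ∃ a ∈ Φ, B a r = 1 ∧ B a s = -1)
    (TX : ∀ h ∈ T, ∀ a ∈ Φ, ∀ x ∈ X a, h * x * h⁻¹ ∈ X a)
    (Htr : ∀ x ∈ X r, ∀ y ∈ X r, x ≠ 1 → y ≠ 1 → ∃ h ∈ T, h * x * h⁻¹ = y)
    {β : L} {h k : G} (Hk : Tor B Φ X r T β h k)
    {n : G} (hX : ∀ x ∈ X r, n * x * n⁻¹ ∈ X r) (ht : t * (n * t * n⁻¹) ∈ X r) (hnt : n * t * n⁻¹ ≠ t) :
    Cent t (X r) (PR B Φ X r) := by
  have hr := K.hr
  have R := K.rg.roots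
  have hhP := triv_PQ K TX Hk.mh Hk.h0
  have hf := K.fpf Htr Hk.mh Hk.ne
  have hn : n ∈ K.setup.N := by
    refine ⟨hX, fun x hx => ?_, ht⟩
    have := (K.inv_norm hX ht).1 x hx
    rwa [inv_inv] at this
  refine K.cent fun x hx => K.setup.exists_cent_of_h Htr Hk.mh hhP
    (fun x hx e => hf x hx (by rw [e, mul_inv_cancel_right])) ?_ hn hnt hx
  -- the commutator with `h`
  have eQ := SX_eq_QS K.rg hr
  have eP : Vzero.SX X (Vzero.Ps B Φ r) = PR B Φ X r := SX_eq_PR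
  have S := K.setup
  have hC : ∀ c ∈ S.C4, c ∈ Vzero.Cq (X r) (Vzero.SX X (Vzero.Qs B Φ r)) (Vzero.SX X (Vzero.Ps B Φ r)) := by
    intro c hc
    rw [eQ, eP, Vzero.mem_Cq]
    refine ⟨hc.1.1, hc.1.2.1, fun q hq => S.N_Q hc.1 hq, fun q hq => ?_, hc.2⟩
    have := S.N_Q (inv_mem hc.1) hq
    rwa [inv_inv] at this
  have hhC : h ∈ S.C4 := ⟨S.H_le Hk.mh, hhP⟩
  intro c hc q hq
  have hi : ∀ g ∈ T, ∀ a ∈ Φ, ∀ x ∈ X a, g⁻¹ * x * g ∈ X a := fun g hg a ha x hx => by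
    have := TX g⁻¹ (inv_mem hg) a ha x hx
    rwa [inv_inv] at this
  refine (vzRG K.rg).comm_D orth hr Hk.mβ Hk.βr ?_ (TX h Hk.mh) (hi h Hk.mh) (TX k Hk.kT) (hi k Hk.kT) ?_ Hk.hk
    (hC h hhC) (hC c hc) ?_
  · intro q hq hc
    rw [eQ] at hq hc
    exact K.rg.ZQ hr hq hc
  · rw [eP]; exact Hk.kP
  · rw [eQ]; exact hq

/-- **`C_G(P)` moves `t`, `q > 2`**, `P = ⟨X b : (b, r) ≥ 0⟩`, with `sep`. -/
theorem cent_of_sep (K : KR t B Φ X r (PR B Φ X r) T) (pt : PT B Φ X r (PR B Φ X r)) [Finite G]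
    (TX : ∀ h ∈ T, ∀ a ∈ Φ, ∀ x ∈ X a, h * x * h⁻¹ ∈ X a)
    (Htr : ∀ x ∈ X r, ∀ y ∈ X r, x ≠ 1 → y ≠ 1 → ∃ h ∈ T, h * x * h⁻¹ = y)
    {h : G} (hh : h ∈ T) (h0 : ∀ b ∈ Φ, B b r = 0 → ∀ x ∈ X b, h * x = x * h)
    (hne : ∃ x ∈ X r, h * x * h⁻¹ ≠ x)
    {n : G} (hX : ∀ x ∈ X r, n * x * n⁻¹ ∈ X r) (ht : t * (n * t * n⁻¹) ∈ X r) (hnt : n * t * n⁻¹ ≠ t) :
    Cent t (X r) (PR B Φ X r) := by
  have hn : n ∈ K.setup.N := by
    refine ⟨hX, fun x hx => ?_, ht⟩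
    have := (K.inv_norm hX ht).1 x hx
    rwa [inv_inv] at this
  exact K.cent fun x hx => K.setup.exists_cent_of_big
    (fun n h2 hQ hX hP q hq => K.rg.lin K.hr K.pg.PPR pt h2 hQ hX hP hq) Htr
    ⟨h, hh, triv_PQ K TX hh h0, hne⟩ hn hnt hx

end Big

end Cfsg.Agent.OddHalf.D7Ex

end
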