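import Mathlib
import Cfsg.Agent.OddHalf.D7Ex.TriComb

-- merged: Cfsg.Agent.OddHalf.D7Ex.TriAux
section

/-!
# ODD D7, `q = 2`: auxiliary group theory for the normaliser of a Sylow subgroup (helper57)

* `Two H a` : `H ∪ H a` for an involution `a` normalising `H`;
* `Rel.trick_t`, `Rel.trick_z` : if `n` centralises `z`, `z'` and `n t n⁻¹ = t z`, and `x'`, `x₀` generate the group
  `S₃` acting on `⟨z, z'⟩`, then `c = k [x', n] k⁻¹`, `k = x' x₀ x'`, satisfies `c t c⁻¹ = t z`, `c z = z c`.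
-/

set_option autoImplicit false

namespace Cfsg.Agent.OddHalf.D7Ex.TriAux

variable {G : Type*} [Group G]

/-- `H ∪ H a` -/
def Two (H : Subgroup G) (a : G) (ha : a * a = 1) (hn : ∀ y ∈ H, a * y * a⁻¹ ∈ H) : Subgroup G where
  carrier := {y | y ∈ H ∨ y * a ∈ H}
  one_mem' := Or.inl (one_mem H)
  mul_mem' := by
    have hi : a⁻¹ = a := inv_eq_of_mul_eq_one_left ha
    rintro x y (hx | hx) (hy | hy)
    · exact Or.inl (mul_mem hx hy)
    · right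
      rw [mul_assoc]; exact mul_mem hx hy
    · right
      have e : x * y * a = (x * a) * (a * y * a⁻¹) := by
        calc x * y * a = x * (a * a) * y * a := by rw [ha, mul_one]
          _ = (x * a) * (a * y * a) := by group
          _ = _ := by rw [hi]
      rw [e]
      exact mul_mem hx (hn y hy)
    · left
      have e : x * y = (x * a) * (a * (y * a) * a⁻¹) := by
        calc x * y = x * (a * a) * (y * a) * a⁻¹ := by rw [ha]; group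
          _ = _ := by group
      rw [e]
      exact mul_mem hx (hn _ hy)
  inv_mem' := by
    have hi : a⁻¹ = a := inv_eq_of_mul_eq_one_left ha
    rintro x (hx | hx)
    · exact Or.inl (inv_mem hx)
    · right
      have e : x⁻¹ * a = a * (x * a)⁻¹ * a⁻¹ := by
        rw [mul_inv_rev, ← mul_assoc, mul_inv_cancel, one_mul, hi]
      rw [e]
      exact hn _ (inv_mem hx)

theorem mem_Two {H : Subgroup G} {a : G} {ha : a * a = 1} {hn : ∀ y ∈ H, a * y * a⁻¹ ∈ H} {y : G} :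
    y ∈ Two H a ha hn ↔ y ∈ H ∨ y * a ∈ H := Iff.rfl

theorem le_Two {H : Subgroup G} {a : G} {ha : a * a = 1} {hn : ∀ y ∈ H, a * y * a⁻¹ ∈ H} :
    H ≤ Two H a ha hn := fun _ hx => Or.inl hx

theorem mem_Two_self {H : Subgroup G} {a : G} {ha : a * a = 1} {hn : ∀ y ∈ H, a * y * a⁻¹ ∈ H} :
    a ∈ Two H a ha hn := Or.inr (by rw [ha]; exact one_mem H)

/-- conjugation by `a b` -/
theorem cc (a b y : G) : a * b * y * (a * b)⁻¹ = a * (b * y * b⁻¹) * a⁻¹ := by group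

theorem cm (a x y : G) : a * (x * y) * a⁻¹ = (a * x * a⁻¹) * (a * y * a⁻¹) := by group

theorem fix {a y : G} (h : a * y = y * a) : a * y * a⁻¹ = y := by rw [h, mul_inv_cancel_right]

theorem cof {a y : G} (h : a * y * a⁻¹ = y) : a * y = y * a := mul_inv_eq_iff_eq_mul.1 h

theorem inv_conj {a y y' : G} (h : a * y * a⁻¹ = y') : a⁻¹ * y' * a⁻¹⁻¹ = y := by rw [← h]; group

/-- the relations -/
structure Rel (t z zs x' x0 n : G) : Prop where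
  zz : z * z = 1
  ss : zs * zs = 1
  pp : x' * x' = 1
  oo : x0 * x0 = 1
  tp : x' * t = t * x'
  tx : x0 * t = t * x0
  zc : z * zs = zs * z
  ps : x' * zs = zs * x'
  oz : x0 * z = z * x0
  pz : x' * z * x'⁻¹ = zs * z
  os : x0 * zs * x0⁻¹ = zs * z
  nz : n * z = z * n
  ns : n * zs = zs * n
  nt : n * t * n⁻¹ = t * z

namespace Rel

variable {t z zs x' x0 n : G} (R : Rel t z zs x' x0 n)

include R

theorem k_t : (x' * x0 * x') * t * (x' * x0 * x')⁻¹ = t := by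
  rw [cc, cc, fix R.tp, fix R.tx, fix R.tp]

theorem k_s : (x' * x0 * x') * zs * (x' * x0 * x')⁻¹ = z := by
  rw [cc, cc, fix R.ps, R.os, cm x', fix R.ps, R.pz, ← mul_assoc, R.ss, one_mul]

theorem k_z : (x' * x0 * x') * z * (x' * x0 * x')⁻¹ = zs := by
  rw [cc, cc, R.pz, cm x0, R.os, fix R.oz, mul_assoc zs, R.zz, mul_one, fix R.ps]

theorem k_inv : (x' * x0 * x')⁻¹ = x' * x0 * x' := by
  rw [mul_inv_rev, mul_inv_rev, inv_eq_of_mul_eq_one_left R.pp, inv_eq_of_mul_eq_one_left R.oo, mul_assoc]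

theorem n_inv_t : n⁻¹ * t * n⁻¹⁻¹ = t * z := by
  have h1 : n * (t * z) * n⁻¹ = t := by
    rw [cm n, R.nt, fix R.nz, mul_assoc, R.zz, mul_one]
  exact inv_conj h1

theorem n_inv_s : n⁻¹ * zs * n⁻¹⁻¹ = zs := inv_conj (fix R.ns)

theorem p_conj (y : G) : x'⁻¹ * y * x'⁻¹⁻¹ = x' * y * x'⁻¹ := by
  simp only [inv_eq_of_mul_eq_one_left R.pp]

theorem c0_t : (x' * n * x'⁻¹ * n⁻¹) * t * (x' * n * x'⁻¹ * n⁻¹)⁻¹ = t * zs := by
  rw [cc, R.n_inv_t, cc, R.p_conj, cm x', fix R.tp, R.pz, cc, cm n, cm n, R.nt, fix R.nz, fix R.ns]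
  have e : t * z * (zs * z) = t * zs := by
    rw [← R.zc, mul_assoc, ← mul_assoc z z, R.zz, one_mul]
  rw [e, cm x', fix R.tp, fix R.ps]

theorem c0_s : (x' * n * x'⁻¹ * n⁻¹) * zs * (x' * n * x'⁻¹ * n⁻¹)⁻¹ = zs := by
  rw [cc, R.n_inv_s, cc, R.p_conj, fix R.ps, cc, fix R.ns, fix R.ps]

/-- **the trick** -/
theorem trick_t : ((x' * x0 * x') * (x' * n * x'⁻¹ * n⁻¹) * (x' * x0 * x')⁻¹) * t *
    ((x' * x0 * x') * (x' * n * x'⁻¹ * n⁻¹) * (x' * x0 * x')⁻¹)⁻¹ = t * z := by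
  rw [cc, cc, inv_conj R.k_t, R.c0_t, cm (x' * x0 * x'), R.k_t, R.k_s]

theorem trick_z : ((x' * x0 * x') * (x' * n * x'⁻¹ * n⁻¹) * (x' * x0 * x')⁻¹) * z *
    ((x' * x0 * x') * (x' * n * x'⁻¹ * n⁻¹) * (x' * x0 * x')⁻¹)⁻¹ = z := by
  rw [cc, cc, inv_conj R.k_s, R.c0_s, R.k_s]

end Rel

end Cfsg.Agent.OddHalf.D7Ex.TriAux

end

-- merged: Cfsg.Agent.OddHalf.D7Ex.TriGrp
section

/-!
# ODD D7, `q = 2`: the groups of a node (helper57)

`L = ⟨X a : a ∈ Φ_J⟩`, `U_J`, `Q = ⟨X b : (b, r) ≥ 1⟩`, `V₁ = ⟨X b : b > 0, b ≠ j⟩`, `s = r - j`: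
`inf_P` : `H V_J ∩ L Q ≤ H Q` for `H ≤ L`; `conj_V1` : `X (± j)` normalises `V₁`; `mem_U` : `U = V₁ ∪ V₁ x₀`;
`rel_*` : the relations of `x₀ ∈ X j`, `x' ∈ X (-j)`, `z ∈ X r`, `z' ∈ X s`; `NE` : the normaliser of `⟨z, z'⟩` in
`C(z)`; `fixed` : `{q ∈ Q : [q, U] ≤ X r} = X r X s`.
-/

set_option autoImplicit false
set_option linter.unusedSectionVars false

namespace Cfsg.Agent.OddHalf.D7Ex.TriGrp

open Cfsg.Agent.OddHalf.SL Cfsg.Agent.KFacts CoxeterSystem Cfsg.Agent.ChevalleyStructure.CoxeterGeom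
  Cfsg.Agent.Tits.Roots Cfsg.Agent.Tits.Core
  Cfsg.Agent.Tits.RootComb Cfsg.Agent.Nodes.Comb Cfsg.Agent.Nodes.Reps Cfsg.Agent.Nodes.BNOf
  Cfsg.Agent.Nodes.Bruhat Cfsg.Agent.Nodes.Coroot Cfsg.Agent.OddHalf.SL.Index Cfsg.Agent.OddHalf.SL.OfRGD
  Cfsg.Agent.Nodes.StabComb Cfsg.Agent.Nodes.LeviDec Cfsg.Agent.Nodes.Sub Cfsg.Agent.Nodes.SubComb
  Cfsg.Agent.OddHalf.D7Ex.KTwo Cfsg.Agent.OddHalf.D7Ex.TriComb Cfsg.Agent.OddHalf.D7Ex.TriAux
  Cfsg.Agent.OddHalf.D7Ex.KData Cfsg.Agent.KFacts.SLRow.Def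
open scoped commutatorElement

variable {I J W G : Type*} [Fintype I] [DecidableEq I] [Fintype J] [DecidableEq J] [Group W] [Group G]
  {M : CoxeterMatrix I} {cs : CoxeterSystem M W} {A : I → I → ℤ} {h : IsCartan M A} {T : Subgroup G} {n : I → G}
  {X : (I → ℤ) → Subgroup G} {K : Subgroup G} {t : G}

/-- `L` -/
def Lv (cs : CoxeterSystem M W) (h : IsCartan M A) (X : (I → ℤ) → Subgroup G) (f : J ↪ I) : Subgroup G :=
  RGD.Sup X (RootsJ cs h (Set.range f))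

/-- `U_J` -/
def Uv (cs : CoxeterSystem M W) (h : IsCartan M A) (X : (I → ℤ) → Subgroup G) (f : J ↪ I) : Subgroup G :=
  UJ cs h X (Set.range f)

/-- `Q` -/
def Qr (cs : CoxeterSystem M W) (h : IsCartan M A) (X : (I → ℤ) → Subgroup G) (r : I → ℤ) : Subgroup G :=
  QS X (Ph1 (Bf A) {x | IsRoot cs h x} r) r

/-- `V₁` -/
def V1 (cs : CoxeterSystem M W) (h : IsCartan M A) (X : (I → ℤ) → Subgroup G) (j : I) : Subgroup G :=
  RGD.Sup X {b | IsRoot cs h b ∧ 0 ≤ b ∧ b ≠ sr j}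

theorem mem_sup_norm {H V : Subgroup G} (hn : ∀ l ∈ H, ∀ q ∈ V, l * q * l⁻¹ ∈ V) {y : G} :
    y ∈ H ⊔ V ↔ ∃ s ∈ H, ∃ q ∈ V, y = s * q := GamAut.mem_sup_iff (L := H) hn le_rfl

theorem Uv_le_Lv {f : J ↪ I} : Uv cs h X f ≤ Lv cs h X f := RGD.Sup_mono fun _ hx => PosJ_subset _ hx

theorem Uv_le_U {f : J ↪ I} : Uv cs h X f ≤ RGD.Sup X (RGD.Pos cs h) := UJ_le_U _

theorem Lv_le_LJ {f : J ↪ I} : Lv cs h X f ≤ LJ cs h T X (Set.range f) := le_sup_right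

theorem U_le {J : Set I} : RGD.Sup X (RGD.Pos cs h) ≤ UJ cs h X J ⊔ VJ cs h X J := by
  refine RGD.Sup_le fun x hx => ?_
  rcases mem_PosJ_or_NotJ J hx.1 hx.2 with h1 | h1
  · exact le_trans (RGD.le_Sup h1) le_sup_left
  · exact le_trans (RGD.le_Sup h1) le_sup_right

theorem V1_le_U {j : I} : V1 cs h X j ≤ RGD.Sup X (RGD.Pos cs h) := RGD.Sup_mono fun _ hx => ⟨hx.1, hx.2.1⟩

theorem X_le_U {b : I → ℤ} (hb : IsRoot cs h b) (h0 : 0 ≤ b) : X b ≤ RGD.Sup X (RGD.Pos cs h) :=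
  RGD.le_Sup (S := RGD.Pos cs h) ⟨hb, h0⟩

variable [Finite W] [Finite G] {f : J ↪ I} {j : I} {κ : J} {r : I → ℤ} (D : Datum K 2 cs h T n X)
  (N : Nd cs h f j κ r)

include D

theorem pow_two_X {b : I → ℤ} (hb : IsRoot cs h b) {x : G} (hx : x ∈ X b) : x * x = 1 := (rg D).X2 b hb x hx

/-- `X (± j)` normalises `V₁` -/
theorem conj_V1 {a : I → ℤ} (ha : a = sr j ∨ a = -sr j) {x y : G} (hx : x ∈ X a) (hy : y ∈ V1 cs h X j) :
    x * y * x⁻¹ ∈ V1 cs h X j := by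
  have hR := roots cs h D.h4 D.h6
  have har : IsRoot cs h a := by
    rcases ha with rfl | rfl
    · exact isRoot_sr cs h j
    · exact (isRoot_sr cs h j).neg
  have ha0 : ∀ k, k ≠ j → a k = 0 := by
    intro k hk
    rcases ha with rfl | rfl
    · exact sr_ne hk
    · rw [Pi.neg_apply, sr_ne hk, neg_zero]
  have hle : V1 cs h X j ≤ (V1 cs h X j).comap (MulAut.conj x).toMonoidHom := by
    refine RGD.Sup_le fun b hb y hy => ?_
    show x * y * x⁻¹ ∈ V1 cs h X j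
    obtain ⟨hb1, hb2, hb3⟩ := hb
    obtain ⟨k, hkj, hk⟩ : ∃ k, k ≠ j ∧ 0 < b k := by
      by_contra hcon
      push Not at hcon
      exact hb3 (hb1.eq_sr hb2 j fun k hk => le_antisymm (hcon k hk) (hb2 k))
    have hXb : X b ≤ V1 cs h X j := RGD.le_Sup (S := {b | IsRoot cs h b ∧ 0 ≤ b ∧ b ≠ sr j}) ⟨hb1, hb2, hb3⟩
    rcases (rg D).cases har hb1 with h1 | h1 | h1
    · rw [(rg D).pos a har b hb1 h1 x hx y hy, mul_inv_cancel_right]
      exact hXb hy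
    · have h2 := (rg D).neg a har b hb1 h1 x hx y hy
      have e : x * y * x⁻¹ = (x * y * x⁻¹ * y⁻¹) * y := by group
      rw [e]
      refine mul_mem ?_ (hXb hy)
      have hab := hR.add a har b hb1 h1
      have hk' : 0 < (a + b) k := by rw [Pi.add_apply, ha0 k hkj, zero_add]; exact hk
      refine RGD.le_Sup (S := {b | IsRoot cs h b ∧ 0 ≤ b ∧ b ≠ sr j}) ⟨hab, nonneg_of_pos_apply hab hk', ?_⟩ h2
      intro e1
      rw [e1, sr_ne hkj] at hk'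
      exact lt_irrefl _ hk'
    · exfalso
      have h2 := congrFun h1 k
      rw [ha0 k hkj, Pi.neg_apply] at h2
      omega
  exact hle hy

/-- `U ≤ V₁ ∪ V₁ x₀` -/
theorem mem_U {x0 : G} (hx0 : x0 ∈ X (sr j)) (hx1 : x0 ≠ 1) {y : G} (hy : y ∈ RGD.Sup X (RGD.Pos cs h)) :
    y ∈ V1 cs h X j ∨ y * x0 ∈ V1 cs h X j := by
  have h1 : RGD.Sup X (RGD.Pos cs h) ≤
      Two (V1 cs h X j) x0 (pow_two_X D (isRoot_sr cs h j) hx0) fun y hy => conj_V1 D (Or.inl rfl) hx0 hy := by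
    refine RGD.Sup_le fun b hb y hy => ?_
    by_cases hbj : b = sr j
    · subst hbj
      by_cases hy1 : y = 1
      · rw [hy1]; exact one_mem _
      · rw [eq_of_ne D hb.1 hy hx0 hy1 hx1]
        exact mem_Two_self
    · exact le_Two (RGD.le_Sup (S := {b | IsRoot cs h b ∧ 0 ≤ b ∧ b ≠ sr j}) ⟨hb.1, hb.2, hbj⟩ hy)
  exact h1 hy

include N

theorem Q_le_VJ : Qr cs h X r ≤ VJ cs h X (Set.range f) :=
  QS_le (RGD.le_Sup (r_NotJ D.h4 D.h6 N)) fun _ hb => RGD.le_Sup (Ph1_NotJ D.h4 D.h6 N hb)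

theorem Q_le_U : Qr cs h X r ≤ RGD.Sup X (RGD.Pos cs h) := (Q_le_VJ D N).trans (VJ_le_U _)

theorem Lv_le_PR : Lv cs h X f ≤ PR (Bf A) {x | IsRoot cs h x} X r :=
  RGD.Sup_le fun a ha => le_PR X ha.1 (by rw [RootsJ_zero D.h4 D.h6 N ha])

theorem U_le_PR : RGD.Sup X (RGD.Pos cs h) ≤ PR (Bf A) {x | IsRoot cs h x} X r :=
  RGD.Sup_le fun a ha => le_PR X ha.1 (by rw [bf_r D.h4 D.h6 N]; exact ha.2 j)

theorem Q_le_PR : Qr cs h X r ≤ PR (Bf A) {x | IsRoot cs h x} X r := (rg D).QS_le_PR N.hr subset_rfl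

theorem nQ : ∀ l ∈ Lv cs h X f, ∀ q ∈ Qr cs h X r, l * q * l⁻¹ ∈ Qr cs h X r := fun _ hl _ hq =>
  (rg D).PQ N.hr (Lv_le_PR D N hl) hq

theorem inf : ∀ x ∈ Lv cs h X f, x ∈ Qr cs h X r → x = 1 := fun _ hx hq =>
  eq_one_of_mem_LJ_of_mem_VJ D.rgd (Lv_le_LJ hx) (Q_le_VJ D N hq)

/-- `H V_J ∩ L Q ≤ H Q` -/
theorem inf_P {H : Subgroup G} (hH : H ≤ Lv cs h X f) {y : G} (hy : y ∈ H ⊔ VJ cs h X (Set.range f))
    (hyP : y ∈ Lv cs h X f ⊔ Qr cs h X r) : y ∈ H ⊔ Qr cs h X r := by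
  obtain ⟨l', hl', q, hq, e'⟩ := (mem_sup_norm (nQ D N)).1 hyP
  have h1 : ∀ l ∈ H, ∀ q ∈ VJ cs h X (Set.range f), l * q * l⁻¹ ∈ VJ cs h X (Set.range f) := by
    intro l hl q hq
    exact (Subgroup.mem_normalizer_iff.1 (LJ_le_normalizer_VJ (T := T) D.rgd _ (Lv_le_LJ (hH hl))) q).1 hq
  obtain ⟨l, hl, v, hv, e⟩ := (mem_sup_norm h1).1 hy
  have h2 : l⁻¹ * l' = v * q⁻¹ := by
    calc l⁻¹ * l' = l⁻¹ * (l' * q) * q⁻¹ := by group
      _ = l⁻¹ * (l * v) * q⁻¹ := by rw [← e', e]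
      _ = _ := by group
  have h3 : l⁻¹ * l' = 1 := eq_one_of_mem_LJ_of_mem_VJ (T := T) D.rgd (J := Set.range f)
    (mul_mem (inv_mem (Lv_le_LJ (hH hl))) (Lv_le_LJ hl')) (by
      rw [h2]; exact mul_mem hv (inv_mem (Q_le_VJ D N hq)))
  have h4 : l = l' := inv_mul_eq_one.1 h3
  rw [e', ← h4]
  exact mul_mem (Subgroup.mem_sup_left hl) (Subgroup.mem_sup_right hq)

/-- `U ∩ L Q = U_J Q` -/
theorem inf_U {y : G} (hy : y ∈ RGD.Sup X (RGD.Pos cs h)) (hyP : y ∈ Lv cs h X f ⊔ Qr cs h X r) :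
    y ∈ Uv cs h X f ⊔ Qr cs h X r := inf_P D N Uv_le_Lv (U_le hy) hyP

/-- `⟨U, X (-i)⟩ ∩ L Q = ⟨U_J, X (-i)⟩ Q` for `i ∈ J` -/
theorem inf_F {i : J} {y : G} (hy : y ∈ RGD.Sup X (RGD.Pos cs h) ⊔ X (-sr (f i)))
    (hyP : y ∈ Lv cs h X f ⊔ Qr cs h X r) : y ∈ (Uv cs h X f ⊔ X (-sr (f i))) ⊔ Qr cs h X r := by
  refine inf_P D N (sup_le Uv_le_Lv ?_) ?_ hyP
  · exact RGD.le_Sup (S := RootsJ cs h (Set.range f)) (RootsJ.neg (PosJ_subset _ (sr_mem_PosJ ⟨i, rfl⟩)))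
  · exact (sup_le (U_le.trans (sup_le_sup_right le_sup_left _)) (le_sup_right.trans le_sup_left) :
      RGD.Sup X (RGD.Pos cs h) ⊔ X (-sr (f i)) ≤ _) hy

/-- `V₁` centralises `X s` -/
theorem V1_s {y v : G} (hy : y ∈ V1 cs h X j) (hv : v ∈ X (r - sr j)) : y * v = v * y := by
  have hle : V1 cs h X j ≤ Subgroup.centralizer ({v} : Set G) := RGD.Sup_le fun b hb x hx => by
    rw [Subgroup.mem_centralizer_singleton_iff]
    exact (rg D).pos b hb.1 _ (hs D.h4 D.h6 N) (nonneg_s D.h4 D.h6 N hb.1 hb.2.1 hb.2.2) x hx v hv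
  exact Subgroup.mem_centralizer_singleton_iff.1 (hle hy)

/-- `U` centralises `X r` -/
theorem U_r {y v : G} (hy : y ∈ RGD.Sup X (RGD.Pos cs h)) (hv : v ∈ X r) : y * v = v * y :=
  ((rg D).XP N.hr hv (U_le_PR D N hy)).symm

theorem Uv_le_V1 : Uv cs h X f ≤ V1 cs h X j := by
  refine RGD.Sup_mono fun b hb => ⟨hb.1, hb.2.1, ?_⟩
  intro e
  have h1 := hb.2.2 j (by rintro ⟨i, hi⟩; exact N.fj i hi)
  rw [e, sr_self] at h1
  exact absurd h1 (by norm_num)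

/-- `X (-i)` centralises `X s`, `i ∈ J`, `i ≠ κ` -/
theorem neg_s {i : J} (hi : i ≠ κ) {x v : G} (hx : x ∈ X (-sr (f i))) (hv : v ∈ X (r - sr j)) : x * v = v * x :=
  (rg D).pos _ (isRoot_sr cs h _).neg _ (hs D.h4 D.h6 N) (by rw [bf_neg_s D.h4 D.h6 N hi]) x hx v hv

/-- `X (-i)` centralises `X r`, `i ∈ J` -/
theorem neg_r {i : J} {x v : G} (hx : x ∈ X (-sr (f i))) (hv : v ∈ X r) : x * v = v * x :=
  (rg D).pos _ (isRoot_sr cs h _).neg _ N.hr (by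
    rw [(roots cs h D.h4 D.h6).neg_left, N.di _ (N.fj i), neg_zero]) x hx v hv

/-- `X (-i)` centralises `X (± j)`, `i ∈ J`, `i ≠ κ` -/
theorem neg_j {i : J} (hi : i ≠ κ) {a : I → ℤ} (ha : a = sr j ∨ a = -sr j) {x v : G} (hx : x ∈ X (-sr (f i)))
    (hv : v ∈ X a) : x * v = v * x := by
  have hR := roots cs h D.h4 D.h6
  rcases ha with rfl | rfl
  · refine (rg D).pos _ (isRoot_sr cs h _).neg _ (isRoot_sr cs h j) ?_ x hx v hv
    rw [hR.neg_left, N.nj i hi, neg_zero]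
  · refine (rg D).pos _ (isRoot_sr cs h _).neg _ (isRoot_sr cs h j).neg ?_ x hx v hv
    rw [hR.neg_left, hR.neg_right, N.nj i hi, neg_zero, neg_zero]

section rel

variable {x' x0 z zs : G} (hx' : x' ∈ X (-sr j)) (hx'1 : x' ≠ 1) (hx0 : x0 ∈ X (sr j)) (hx01 : x0 ≠ 1)
  (hz : z ∈ X r) (hz1 : z ≠ 1) (hzs : zs ∈ X (r - sr j)) (hzs1 : zs ≠ 1)

include hz hzs in
theorem rel_zc : z * zs = zs * z := (rg D).pos _ N.hr _ (hs D.h4 D.h6 N) (by
  rw [(roots cs h D.h4 D.h6).symm, (hs1 D.h4 D.h6 N).2]; norm_num) z hz zs hzs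

include hx' hzs in
theorem rel_ps : x' * zs = zs * x' := by
  have hR := roots cs h D.h4 D.h6
  refine (rg D).pos _ (isRoot_sr cs h j).neg _ (hs D.h4 D.h6 N) ?_ x' hx' zs hzs
  rw [hR.neg_left, hR.sub_right, N.dj, hR.two _ (isRoot_sr cs h j)]; norm_num

include hx0 hz in
theorem rel_oz : x0 * z = z * x0 := U_r D N (X_le_U (isRoot_sr cs h j) (sr_nonneg j) hx0) hz

include hx' hx'1 hz hz1 hzs hzs1 in
theorem rel_pz : x' * z * x'⁻¹ = zs * z := by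
  have hR := roots cs h D.h4 D.h6
  have h1 : Bf A (-sr j) r = -1 := by rw [hR.neg_left, N.dj]
  have h2 := (rg D).neg _ (isRoot_sr cs h j).neg _ N.hr h1 x' hx' z hz
  have h3 : x' * z * x'⁻¹ * z⁻¹ ≠ 1 := by
    intro e
    rcases (rg D).inj _ (isRoot_sr cs h j).neg _ N.hr h1 x' hx' z hz (by
      rwa [mul_inv_eq_one, mul_inv_eq_iff_eq_mul] at e) with h4 | h4
    · exact hx'1 h4
    · exact hz1 h4
  have e : -sr j + r = r - sr j := by abel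
  rw [e] at h2
  have h4 := eq_of_ne D (hs D.h4 D.h6 N) h2 hzs h3 hzs1
  rw [← h4]; group

include hx0 hx01 hz hz1 hzs hzs1 in
theorem rel_os : x0 * zs * x0⁻¹ = zs * z := by
  have hR := roots cs h D.h4 D.h6
  have h1 : Bf A (sr j) (r - sr j) = -1 := by
    rw [hR.sub_right, N.dj, hR.two _ (isRoot_sr cs h j)]; norm_num
  have h2 := (rg D).neg _ (isRoot_sr cs h j) _ (hs D.h4 D.h6 N) h1 x0 hx0 zs hzs
  have h3 : x0 * zs * x0⁻¹ * zs⁻¹ ≠ 1 := by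
    intro e
    rcases (rg D).inj _ (isRoot_sr cs h j) _ (hs D.h4 D.h6 N) h1 x0 hx0 zs hzs (by
      rwa [mul_inv_eq_one, mul_inv_eq_iff_eq_mul] at e) with h4 | h4
    · exact hx01 h4
    · exact hzs1 h4
  rw [add_sub_cancel] at h2
  have h4 := eq_of_ne D N.hr h2 hz h3 hz1
  rw [← rel_zc D N hz hzs, ← h4]; group

/-- the relations -/
theorem rel (tK : ∀ k ∈ K, t * k = k * t) {m : G} (mz : m * z = z * m) (ms : m * zs = zs * m)
    (mt : m * t * m⁻¹ = t * z) (hx' : x' ∈ X (-sr j)) (hx'1 : x' ≠ 1) (hx0 : x0 ∈ X (sr j)) (hx01 : x0 ≠ 1)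
    (hz : z ∈ X r) (hz1 : z ≠ 1) (hzs : zs ∈ X (r - sr j)) (hzs1 : zs ≠ 1) : Rel t z zs x' x0 m where
  zz := pow_two_X D N.hr hz
  ss := pow_two_X D (hs D.h4 D.h6 N) hzs
  pp := pow_two_X D (isRoot_sr cs h j).neg hx'
  oo := pow_two_X D (isRoot_sr cs h j) hx0
  tp := (tK _ (D.XK (isRoot_sr cs h j).neg hx')).symm
  tx := (tK _ (D.XK (isRoot_sr cs h j) hx0)).symm
  zc := rel_zc D N hz hzs
  ps := rel_ps D N hx' hzs
  oz := rel_oz D N hx0 hz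
  pz := rel_pz D N hx' hx'1 hz hz1 hzs hzs1
  os := rel_os D N hx0 hx01 hz hz1 hzs hzs1
  nz := mz
  ns := ms
  nt := mt

end rel

end Cfsg.Agent.OddHalf.D7Ex.TriGrp

end

-- merged: Cfsg.Agent.OddHalf.D7Ex.TriFix
section

/-!
# ODD D7, `q = 2`: the normaliser of `⟨z, z'⟩` (helper57)

`z ∈ X r`, `z' ∈ X s`, `s = r - j`.
* `fixed` : an element of `Q` commuting with `U` modulo `X r` lies in `X r X s`;
* `NE` : `{y : y z = z y, y z' y⁻¹ ∈ {z', z' z}}`; it contains `U`, `X (-i)` (`i ∈ J`, `i ≠ κ`), but not `X (-κ)`;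
* `mem_NE_of` : `g ∈ NE` if `g` centralises `z`, normalises `Q`, and `g⁻¹ U g ≤ NE`;
* `levi_sym`, `levi_inner` : the action on the Levi subgroup.
-/

set_option autoImplicit false
set_option linter.unusedSectionVars false

namespace Cfsg.Agent.OddHalf.D7Ex.TriFix

open Cfsg.Agent.OddHalf.SL Cfsg.Agent.KFacts CoxeterSystem Cfsg.Agent.ChevalleyStructure.CoxeterGeom
  Cfsg.Agent.Tits.Roots Cfsg.Agent.Tits.Core
  Cfsg.Agent.Tits.RootComb Cfsg.Agent.Nodes.Comb Cfsg.Agent.Nodes.Reps Cfsg.Agent.Nodes.BNOf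
  Cfsg.Agent.Nodes.Bruhat Cfsg.Agent.Nodes.Coroot Cfsg.Agent.OddHalf.SL.Index Cfsg.Agent.OddHalf.SL.OfRGD
  Cfsg.Agent.Nodes.StabComb Cfsg.Agent.Nodes.LeviDec Cfsg.Agent.Nodes.Sub Cfsg.Agent.Nodes.SubComb
  Cfsg.Agent.OddHalf.D7Ex.KTwo Cfsg.Agent.OddHalf.D7Ex.TriComb Cfsg.Agent.OddHalf.D7Ex.TriAux
  Cfsg.Agent.OddHalf.D7Ex.TriGrp Cfsg.Agent.OddHalf.D7Ex.GamAut
  Cfsg.Agent.OddHalf.D7Ex.KData Cfsg.Agent.KFacts.SLRow.Def
open scoped commutatorElement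

/-- the normaliser of `⟨z, z'⟩` in `C(z)` -/
def NE {G : Type*} [Group G] (z zs : G) (zz : z * z = 1) : Subgroup G where
  carrier := {y | y * z = z * y ∧ (y * zs * y⁻¹ = zs ∨ y * zs * y⁻¹ = zs * z)}
  one_mem' := ⟨by rw [one_mul, mul_one], Or.inl (by rw [one_mul, inv_one, mul_one])⟩
  mul_mem' := by
    rintro a b ⟨ha, ha2⟩ ⟨hb, hb2⟩
    refine ⟨by rw [mul_assoc, hb, ← mul_assoc, ha, mul_assoc], ?_⟩
    rw [cc]
    rcases hb2 with hb2 | hb2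
    · rw [hb2]; exact ha2
    · rw [hb2, cm a, fix ha]
      rcases ha2 with ha2 | ha2
      · rw [ha2]; exact Or.inr rfl
      · left; rw [ha2, mul_assoc, zz, mul_one]
  inv_mem' := by
    rintro a ⟨ha, ha2⟩
    have h1 : a⁻¹ * z = z * a⁻¹ := by
      rw [inv_mul_eq_iff_eq_mul, ← mul_assoc, ha, mul_inv_cancel_right]
    refine ⟨h1, ?_⟩
    rcases ha2 with ha2 | ha2
    · exact Or.inl (inv_conj ha2)
    · right
      have h2 := inv_conj ha2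
      rw [cm a⁻¹, fix h1] at h2
      calc a⁻¹ * zs * a⁻¹⁻¹ = (a⁻¹ * zs * a⁻¹⁻¹) * z * z := by rw [mul_assoc _ z z, zz, mul_one]
        _ = _ := by rw [h2]

theorem mem_NE {G : Type*} [Group G] {z zs : G} {zz : z * z = 1} {y : G} :
    y ∈ NE z zs zz ↔ y * z = z * y ∧ (y * zs * y⁻¹ = zs ∨ y * zs * y⁻¹ = zs * z) := Iff.rfl

variable {I J W G : Type*} [Fintype I] [DecidableEq I] [Fintype J] [DecidableEq J] [Group W] [Group G]
  {M : CoxeterMatrix I} {cs : CoxeterSystem M W} {A : I → I → ℤ} {h : IsCartan M A} {T : Subgroup G} {n : I → G}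
  {X : (I → ℤ) → Subgroup G} {K : Subgroup G} {t : G}

variable [Finite W] [Finite G] {f : J ↪ I} {j : I} {κ : J} {r : I → ℤ} (D : Datum K 2 cs h T n X)
  (N : Nd cs h f j κ r)

include D N

/-- the elements of `Q` commuting with `U` modulo `X r` -/
theorem fixed {q : G} (hq : q ∈ Qr cs h X r)
    (hc : ∀ u ∈ RGD.Sup X (RGD.Pos cs h), u * q * u⁻¹ * q⁻¹ ∈ X r) : ∃ y ∈ X (r - sr j), ∃ x ∈ X r, q = y * x := by
  have hR := roots cs h D.h4 D.h6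
  have h1 := (rg D).mem_QS N.hr (S := {r - sr j}) hq (by
    intro b hb hbs y hy
    have hb' := (rg D).sub_mem1 N.hr hb
    have hne : r - b ≠ sr j := by
      intro e
      apply hbs
      rw [Set.mem_singleton_iff, ← e]; abel
    obtain ⟨i, hi, hi1⟩ := exists_one D.h4 D.h6 N hb' hne
    have h2 := hR.sub_mem hb'.1 (isRoot_sr cs h i) hi1
    have h3 : Bf A (sr i) (r - b - sr i) = -1 := by
      rw [hR.sub_right, hR.symm, hi1, hR.two _ (isRoot_sr cs h i)]; norm_num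
    have h5 : r - b - sr i ∈ Ph1 (Bf A) {x | IsRoot cs h x} r := by
      refine ⟨h2, ?_⟩
      rw [hR.sub_left, hb'.2, N.di i hi]; norm_num
    obtain ⟨x, hx, hx1⟩ := exists_ne D.rgd (isRoot_sr cs h i)
    obtain ⟨w, hw, e⟩ := (rg D).sur _ (isRoot_sr cs h i) _ h2 h3 x hx hx1 y (by rw [add_sub_cancel]; exact hy)
    have hxU : x ∈ RGD.Sup X (RGD.Pos cs h) := X_le_U (isRoot_sr cs h i) (sr_nonneg i) hx
    have hwQ : w ∈ Qr cs h X r := le_QS X r h5 hw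
    -- the commutators with `q`
    have hζ := hc x hxU
    have hξ := (rg D).QQ N.hr hq hwQ
    set ζ := x * q * x⁻¹ * q⁻¹ with hζd
    set ξ := q * w * q⁻¹ * w⁻¹ with hξd
    have cen : ∀ v ∈ X r, ∀ p ∈ PR (Bf A) {x | IsRoot cs h x} X r, v * p = p * v := fun v hv p hp =>
      (rg D).XP N.hr hv hp
    have hxP := U_le_PR D N hxU
    have hwP := Q_le_PR D N hwQ
    have hyP : y ∈ PR (Bf A) {x | IsRoot cs h x} X r := Q_le_PR D N (le_QS X r hb' hy)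
    have e1 : q * x * q⁻¹ = ζ⁻¹ * x := by rw [hζd]; group
    have e2 : q * w * q⁻¹ = ξ * w := by rw [hξd]; group
    apply cof
    calc q * y * q⁻¹ = (q * x * q⁻¹) * (q * w * q⁻¹) * (q * x * q⁻¹)⁻¹ * (q * w * q⁻¹)⁻¹ := by rw [← e]; group
      _ = (ζ⁻¹ * x) * (ξ * w) * (ζ⁻¹ * x)⁻¹ * (ξ * w)⁻¹ := by rw [e1, e2]
      _ = ζ⁻¹ * (x * (ξ * w) * x⁻¹) * ζ * (ξ * w)⁻¹ := by group
      _ = ζ⁻¹ * (ζ * (x * (ξ * w) * x⁻¹)) * (ξ * w)⁻¹ := by
        rw [mul_assoc ζ⁻¹, ← cen ζ hζ (x * (ξ * w) * x⁻¹) (mul_mem (mul_mem hxP (mul_mem (Q_le_PR D N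
          (X_le_QS X _ r hξ)) hwP)) (inv_mem hxP))]
      _ = (x * ξ) * w * x⁻¹ * (ξ * w)⁻¹ := by group
      _ = ξ * (x * w * x⁻¹ * w⁻¹) * ξ⁻¹ := by rw [← cen ξ hξ x hxP]; group
      _ = ξ * y * ξ⁻¹ := by rw [e]
      _ = y := by rw [cen ξ hξ y hyP, mul_inv_cancel_right])
  have h2 : QS X (Ph1 (Bf A) {x | IsRoot cs h x} r ∩ {r - sr j}) r ≤ X (r - sr j) ⊔ X r := by
    refine QS_le le_sup_right fun b hb => ?_
    rw [Set.mem_singleton_iff.1 hb.2]; exact le_sup_left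
  obtain ⟨y, hy, x, hx, e⟩ := OfDatum.mem_sup_of_comm (fun y hy x hx => (rel_zc D N hx hy).symm) (h2 h1)
  exact ⟨y, hy, x, hx, e⟩

section

variable {z zs : G} (hz : z ∈ X r) (hz1 : z ≠ 1) (hzs : zs ∈ X (r - sr j)) (hzs1 : zs ≠ 1)

include hz hz1 hzs hzs1

theorem V1_le_NE : V1 cs h X j ≤ NE z zs (pow_two_X D N.hr hz) := fun y hy =>
  ⟨U_r D N (V1_le_U hy) hz, Or.inl (fix (V1_s D N hy hzs))⟩

theorem U_le_NE : RGD.Sup X (RGD.Pos cs h) ≤ NE z zs (pow_two_X D N.hr hz) := by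
  intro y hy
  obtain ⟨x0, hx0, hx1⟩ := exists_ne D.rgd (isRoot_sr cs h j)
  have h1 : x0 ∈ NE z zs (pow_two_X D N.hr hz) :=
    ⟨rel_oz D N hx0 hz, Or.inr (rel_os D N hx0 hx1 hz hz1 hzs hzs1)⟩
  rcases mem_U D hx0 hx1 hy with h2 | h2
  · exact V1_le_NE D N hz hz1 hzs hzs1 h2
  · have := mul_mem (V1_le_NE D N hz hz1 hzs hzs1 h2) (inv_mem h1)
    rwa [mul_inv_cancel_right] at this

theorem neg_le_NE {i : J} (hi : i ≠ κ) : X (-sr (f i)) ≤ NE z zs (pow_two_X D N.hr hz) := fun _ hy =>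
  ⟨neg_r D N hy hz, Or.inl (fix (neg_s D N hi hy hzs))⟩

theorem kappa_not_NE {x : G} (hx : x ∈ X (-sr (f κ))) (hx1 : x ≠ 1) : x ∉ NE z zs (pow_two_X D N.hr hz) := by
  rintro ⟨-, h1⟩
  have hs' := hs D.h4 D.h6 N
  have hk := bf_neg_k D.h4 D.h6 N
  have h2 := (rg D).neg _ (isRoot_sr cs h (f κ)).neg _ hs' hk x hx zs hzs
  have h3 : x * zs * x⁻¹ * zs⁻¹ ≠ 1 := by
    intro e
    rcases (rg D).inj _ (isRoot_sr cs h (f κ)).neg _ hs' hk x hx zs hzs (by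
      rwa [mul_inv_eq_one, mul_inv_eq_iff_eq_mul] at e) with h4 | h4
    · exact hx1 h4
    · exact hzs1 h4
  rcases h1 with h1 | h1
  · exact h3 (by rw [h1, mul_inv_cancel])
  · apply h3
    refine (rg D).inf_eq N.hr (sk_mem D.h4 D.h6 N) h2 ?_
    rw [h1, ← rel_zc D N hz hzs, mul_inv_cancel_right]
    exact hz

theorem mem_NE_of {g : G} (gz : g * z = z * g) (gQ : ∀ q ∈ Qr cs h X r, g * q * g⁻¹ ∈ Qr cs h X r)
    (gU : ∀ u ∈ RGD.Sup X (RGD.Pos cs h), g⁻¹ * u * g ∈ NE z zs (pow_two_X D N.hr hz)) :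
    g ∈ NE z zs (pow_two_X D N.hr hz) := by
  have zz := pow_two_X D N.hr hz
  have hs1' := hs1 D.h4 D.h6 N
  have zsQ : zs ∈ Qr cs h X r := le_QS X r hs1' hzs
  have zc := rel_zc D N hz hzs
  obtain ⟨y, hy, x, hx, e⟩ := fixed D N (gQ zs zsQ) (by
    intro u hu
    have h1 := gU u hu
    have e : u * (g * zs * g⁻¹) * u⁻¹ * (g * zs * g⁻¹)⁻¹ =
        g * ((g⁻¹ * u * g) * zs * (g⁻¹ * u * g)⁻¹ * zs⁻¹) * g⁻¹ := by group
    rw [e]
    rcases (mem_NE.1 h1).2 with h2 | h2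
    · rw [h2, mul_inv_cancel, mul_one, mul_inv_cancel]; exact one_mem _
    · rw [h2, ← zc, mul_inv_cancel_right, fix gz]; exact hz)
  refine ⟨gz, ?_⟩
  have hy' : y = 1 ∨ y = zs := by
    by_cases hy1 : y = 1
    · exact Or.inl hy1
    · exact Or.inr (eq_of_ne D hs1'.1 hy hzs hy1 hzs1)
  have hx' : x = 1 ∨ x = z := by
    by_cases hx1 : x = 1
    · exact Or.inl hx1
    · exact Or.inr (eq_of_ne D N.hr hx hz hx1 hz1)
  rcases hy' with rfl | rfl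
  · exfalso
    apply hzs1
    refine (rg D).inf_eq N.hr hs1' hzs ?_
    have h3 : g * zs * g⁻¹ = x := by rw [e, one_mul]
    have h5 : x = 1 ∨ x = z := hx'
    rcases h5 with h5 | h5
    · have : zs = 1 := by
        have h6 : zs = g⁻¹ * (g * zs * g⁻¹) * g := by group
        rw [h6, h3, h5]; group
      rw [this]; exact one_mem _
    · have : zs = z := by
        have h6 : zs = g⁻¹ * (g * zs * g⁻¹) * g := by group
        rw [h6, h3, h5, mul_assoc, ← gz, inv_mul_cancel_left]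
      rw [this]; exact hz
  · rcases hx' with rfl | rfl
    · left; rw [e, mul_one]
    · right; exact e

end

omit D in
omit [Finite G] in
theorem finite_W' {W' : Type*} [Group W'] (cs' : CoxeterSystem (leviMatrix f M) W') : Finite W' :=
  (levi_subSys (cs := cs) (h := h) f).finite cs' (levi_isCartan f h)

end Cfsg.Agent.OddHalf.D7Ex.TriFix

end

-- merged: Cfsg.Agent.OddHalf.D7Ex.TriLevi
section

/-!
# ODD D7, `q = 2`: the action on the Levi subgroup of a node (helper57)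

* `PF` : the minimal parabolic subgroups of `L`; `act` : an element `g` normalising `X r` and `t X r` acts on `L Q / Q`;
* `levi_sym`, `levi_inner` : `Act.sym`, `Act.inner` for `L`; `K_sym`, `K_inner` : the same for `K`.
-/

set_option autoImplicit false
set_option linter.unusedSectionVars false

namespace Cfsg.Agent.OddHalf.D7Ex.TriLevi

open Cfsg.Agent.OddHalf.SL Cfsg.Agent.KFacts CoxeterSystem Cfsg.Agent.ChevalleyStructure.CoxeterGeom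
  Cfsg.Agent.Tits.Roots Cfsg.Agent.Tits.Core
  Cfsg.Agent.Tits.RootComb Cfsg.Agent.Nodes.Comb Cfsg.Agent.Nodes.Reps Cfsg.Agent.Nodes.BNOf
  Cfsg.Agent.Nodes.Bruhat Cfsg.Agent.Nodes.Coroot Cfsg.Agent.OddHalf.SL.Index Cfsg.Agent.OddHalf.SL.OfRGD
  Cfsg.Agent.Nodes.StabComb Cfsg.Agent.Nodes.LeviDec Cfsg.Agent.Nodes.Sub Cfsg.Agent.Nodes.SubComb
  Cfsg.Agent.Nodes.ClsSub
  Cfsg.Agent.OddHalf.D7Ex.KTwo Cfsg.Agent.OddHalf.D7Ex.TriComb Cfsg.Agent.OddHalf.D7Ex.TriAux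
  Cfsg.Agent.OddHalf.D7Ex.TriGrp Cfsg.Agent.OddHalf.D7Ex.GamAut
  Cfsg.Agent.OddHalf.D7Ex.KData Cfsg.Agent.KFacts.SLRow.Def
open scoped commutatorElement

variable {I J W G : Type*} [Fintype I] [DecidableEq I] [Fintype J] [DecidableEq J] [Group W] [Group G]
  {M : CoxeterMatrix I} {cs : CoxeterSystem M W} {A : I → I → ℤ} {h : IsCartan M A} {T : Subgroup G} {n : I → G}
  {X : (I → ℤ) → Subgroup G} {K : Subgroup G} {t : G}

/-- the minimal parabolic subgroups of `L` -/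
def PF (cs : CoxeterSystem M W) (h : IsCartan M A) (X : (I → ℤ) → Subgroup G) (f : J ↪ I) (i : J) : Subgroup G :=
  Uv cs h X f ⊔ X (-sr (f i))

section Levi

variable (cs h)

variable {W' : Type*} [Group W'] {f : J ↪ I} (cs' : CoxeterSystem (leviMatrix f M) W') [Finite W] [Finite W']

omit [Finite W'] in
theorem LL_levi : LL cs' (levi_isCartan f h) (fun c => X (iota (fun j => sr (f j)) c)) = Lv cs h X f := by
  have := Fintype.ofFinite W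
  have : Finite W' := (levi_subSys (cs := cs) (h := h) f).finite cs' (levi_isCartan f h)
  have := Fintype.ofFinite W'
  unfold LL Lv
  refine (Sup_eq_of_forall (fun x hx => ?_) (fun c hc => ?_)).symm
  · obtain ⟨c, hc, rfl⟩ := (mem_RootsJ_range_iff f cs').1 hx
    exact ⟨c, hc, rfl⟩
  · exact ⟨_, (mem_RootsJ_range_iff f cs').2 ⟨c, hc, rfl⟩, rfl⟩

omit [Finite W'] in
theorem UU_levi : UU cs' (levi_isCartan f h) (fun c => X (iota (fun j => sr (f j)) c)) = Uv cs h X f := by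
  have := Fintype.ofFinite W
  have : Finite W' := (levi_subSys (cs := cs) (h := h) f).finite cs' (levi_isCartan f h)
  have := Fintype.ofFinite W'
  unfold UU Uv UJ
  refine (Sup_eq_of_forall (fun x hx => ?_) (fun c hc => ?_)).symm
  · obtain ⟨c, hc, rfl⟩ := (mem_RootsJ_range_iff (h := h) f cs').1 (PosJ_subset _ hx)
    refine ⟨c, ⟨hc, fun i => ?_⟩, rfl⟩
    have h2 := hx.2.1 (f i)
    rw [iota_levi_apply] at h2
    exact h2
  · obtain ⟨hc1, hc2⟩ := hc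
    have h1 : iota (fun j => sr (f j)) c ∈ RootsJ cs h (Set.range f) :=
      (mem_RootsJ_range_iff (h := h) f cs').2 ⟨c, hc1, rfl⟩
    refine ⟨_, ⟨h1.1, fun k => ?_, h1.2⟩, rfl⟩
    by_cases hk : ∃ i, f i = k
    · obtain ⟨i, rfl⟩ := hk
      rw [iota_levi_apply]; exact hc2 i
    · push Not at hk
      rw [iota_levi_apply_ne f c hk]; rfl

omit [Finite W] [Finite W'] in
theorem X_neg_levi (i : J) : X (iota (fun j => sr (f j)) (-sr i)) = X (-sr (f i)) := by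
  rw [map_neg, iota_sr]

omit [Finite W] [Finite W'] in
theorem X_pos_levi (i : J) : X (iota (fun j => sr (f j)) (sr i)) = X (sr (f i)) := by
  rw [iota_sr]

omit [Finite W'] in
theorem PI_levi (i : J) :
    PI cs' (levi_isCartan f h) (fun c => X (iota (fun j => sr (f j)) c)) i = PF cs h X f i := by
  unfold PI PF
  rw [UU_levi cs h cs']
  congr 1
  exact X_neg_levi i

end Levi

variable [Finite W] [Finite G] {f : J ↪ I} {j : I} {κ : J} {r : I → ℤ} (D : Datum K 2 cs h T n X)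
  (N : Nd cs h f j κ r)

omit [Finite G] in
theorem PF_le (i : J) : PF cs h X f i ≤ Lv cs h X f :=
  sup_le Uv_le_Lv (RGD.le_Sup (S := RootsJ cs h (Set.range f)) (RootsJ.neg (PosJ_subset _ (sr_mem_PosJ ⟨i, rfl⟩))))

include D

include N in
/-- `g` acts on `L Q / Q` -/
theorem act {P : Subgroup G} (HK : KR t (Bf A) {x | IsRoot cs h x} X r P T) (hP : P = Lv cs h X f ⊔ Qr cs h X r)
    {g : G} (gX : ∀ x ∈ X r, g * x * g⁻¹ ∈ X r) (gt : t * (g * t * g⁻¹) ∈ X r) :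
    Act (Lv cs h X f) (Qr cs h X r) g := by
  obtain ⟨gX', gt'⟩ := HK.inv_norm gX gt
  refine ⟨nQ D N, inf D N, fun q => ⟨fun hq => ?_, fun hq => HK.nQ1 gX gt hq⟩, fun l hl => ?_⟩
  · have h1 := HK.nQ1 gX' gt' hq
    have e : g⁻¹ * (g * q * g⁻¹) * g⁻¹⁻¹ = q := by group
    rwa [e] at h1
  · have h1 := HK.nP0 g gX gt l (by rw [hP]; exact Subgroup.mem_sup_left hl)
    rw [hP] at h1
    exact (mem_sup_norm (nQ D N)).1 h1

/-- the permutation of the diagram of `L` -/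
theorem levi_sym {Q : Subgroup G} {g : G} (hA : Act (Lv cs h X f) Q g)
    (hU : ∀ x ∈ Uv cs h X f, g * x * g⁻¹ ∈ Uv cs h X f ⊔ Q) :
    ∃ σ : Equiv.Perm J, (∀ i, ∀ x ∈ PF cs h X f i, g * x * g⁻¹ ∈ PF cs h X f (σ i) ⊔ Q) ∧
      (∀ i k, (∀ x ∈ X (-sr (f i)), g * x * g⁻¹ ∈ PF cs h X f k ⊔ Q) → σ i = k) ∧
      ∀ i k, M (f (σ i)) (f (σ k)) = M (f i) (f k) := by
  let cs' := (leviMatrix f M).toCoxeterSystem
  have hW' : Finite (leviMatrix f M).Group := (levi_subSys (cs := cs) (h := h) f).finite cs' (levi_isCartan f h)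
  have R' := rgd_levi D.rgd f cs'
  obtain ⟨σ, h1, h2, h3⟩ := Act.sym R' (T_eq_bot D) (Q := Q) (g := g) (by rw [LL_levi cs h cs']; exact hA)
    (by rw [UU_levi cs h cs']; exact hU)
  refine ⟨σ, fun i x hx => ?_, fun i k hik => h2 i k fun x hx => ?_, h3⟩
  · have := h1 i x (by rw [PI_levi cs h cs']; exact hx)
    rwa [PI_levi cs h cs'] at this
  · rw [PI_levi cs h cs']
    exact hik x (by rw [← X_neg_levi (X := X)]; exact hx)

/-- rigidity for `L` -/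
theorem levi_inner {Q : Subgroup G} {g : G} (hA : Act (Lv cs h X f) Q g)
    (hU : ∀ x ∈ Uv cs h X f, g * x * g⁻¹ ∈ Uv cs h X f ⊔ Q)
    (hP : ∀ i, ∀ x ∈ X (-sr (f i)), g * x * g⁻¹ ∈ PF cs h X f i ⊔ Q) :
    ∃ u ∈ Uv cs h X f, ∀ l ∈ Lv cs h X f, ∃ q ∈ Q, g * l * g⁻¹ = (u * l * u⁻¹) * q := by
  let cs' := (leviMatrix f M).toCoxeterSystem
  have hW' : Finite (leviMatrix f M).Group := (levi_subSys (cs := cs) (h := h) f).finite cs' (levi_isCartan f h)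
  have R' := rgd_levi D.rgd f cs'
  obtain ⟨u, hu, h1⟩ := Act.inner R' (T_eq_bot D) (Q := Q) (g := g) (by rw [LL_levi cs h cs']; exact hA)
    (by rw [UU_levi cs h cs']; exact hU) (fun i x hx => by
      rw [PI_levi cs h cs']
      exact hP i x (by rw [← X_neg_levi (X := X)]; exact hx)) (fun i x hx y hy hx1 hy1 =>
      eq_of_ne D (isRoot_sr cs h (f i)) (by rw [← X_pos_levi (X := X)]; exact hx)
        (by rw [← X_pos_levi (X := X)]; exact hy) hx1 hy1)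
  rw [UU_levi cs h cs'] at hu
  refine ⟨u, hu, fun l hl => ?_⟩
  exact h1 l (by rw [LL_levi cs h cs']; exact hl)

/-! ### The same for `K` -/

theorem K_act {g : G} (gK : ∀ k ∈ K, g * k * g⁻¹ ∈ K) : Act (LL cs h X) ⊥ g := by
  have e : LL cs h X = K := LL_eq D
  rw [e]
  refine ⟨?_, fun x _ hx => Subgroup.mem_bot.1 hx, fun q => ?_, fun l hl => ⟨_, gK l hl, 1, one_mem _, (mul_one _).symm⟩⟩
  · intro l _ q hq
    rw [Subgroup.mem_bot] at hq ⊢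
    rw [hq]; group
  · rw [Subgroup.mem_bot, Subgroup.mem_bot]
    constructor
    · intro e
      have : q = g⁻¹ * (g * q * g⁻¹) * g := by group
      rw [this, e]; group
    · intro e
      rw [e]; group

/-- the permutation of the diagram of `K` -/
theorem K_sym {g : G} (gK : ∀ k ∈ K, g * k * g⁻¹ ∈ K) (gU : ∀ x ∈ RGD.Sup X (RGD.Pos cs h),
      g * x * g⁻¹ ∈ RGD.Sup X (RGD.Pos cs h)) :
    ∃ σ : Equiv.Perm I, (∀ i, ∀ x ∈ RGD.Sup X (RGD.Pos cs h) ⊔ X (-sr i),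
        g * x * g⁻¹ ∈ RGD.Sup X (RGD.Pos cs h) ⊔ X (-sr (σ i))) ∧
      (∀ i k, (∀ x ∈ X (-sr i), g * x * g⁻¹ ∈ RGD.Sup X (RGD.Pos cs h) ⊔ X (-sr k)) → σ i = k) ∧
      ∀ i k, M (σ i) (σ k) = M i k := by
  obtain ⟨σ, h1, h2, h3⟩ := Act.sym D.rgd (T_eq_bot D) (K_act D gK) (fun x hx => by
    rw [sup_bot_eq]; exact gU x hx)
  refine ⟨σ, fun i x hx => ?_, fun i k hik => h2 i k fun x hx => ?_, h3⟩
  · have := h1 i x hx
    rwa [sup_bot_eq] at this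
  · rw [sup_bot_eq]
    exact hik x hx

/-- rigidity for `K` -/
theorem K_inner {g : G} (gK : ∀ k ∈ K, g * k * g⁻¹ ∈ K) (gU : ∀ x ∈ RGD.Sup X (RGD.Pos cs h),
      g * x * g⁻¹ ∈ RGD.Sup X (RGD.Pos cs h))
    (hP : ∀ i, ∀ x ∈ X (-sr i), g * x * g⁻¹ ∈ RGD.Sup X (RGD.Pos cs h) ⊔ X (-sr i)) :
    ∃ u ∈ RGD.Sup X (RGD.Pos cs h), ∀ l ∈ K, g * l * g⁻¹ = u * l * u⁻¹ := by
  obtain ⟨u, hu, h1⟩ := Act.inner D.rgd (T_eq_bot D) (K_act D gK) (fun x hx => by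
    rw [sup_bot_eq]; exact gU x hx) (fun i x hx => by rw [sup_bot_eq]; exact hP i x hx)
    (fun i x hx y hy hx1 hy1 => eq_of_ne D (isRoot_sr cs h i) hx hy hx1 hy1)
  refine ⟨u, hu, fun l hl => ?_⟩
  obtain ⟨q, hq, e⟩ := h1 l (by rw [show LL cs h X = K from LL_eq D]; exact hl)
  rw [Subgroup.mem_bot] at hq
  rw [e, hq, mul_one]

end Cfsg.Agent.OddHalf.D7Ex.TriLevi

end

-- merged: Cfsg.Agent.OddHalf.D7Ex.Tri
section

/-!
# ODD D7, `q = 2`: an element of `N(S)` acts on `P / Q` as an element of `P` (helper57)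

`S` a Sylow `2`-subgroup of `C(t)` with `S ∩ K = U`, `m ∈ N(S)`, `m t m⁻¹ = t z`, `z ∈ X r`, `r` the highest root:
**`exists_inner`** : some `c` with `c t c⁻¹ = t z`, `c z = z c` acts on `L Q / Q` as an element of `U_J`.
If `S = ⟨t⟩ U` then `c = m` or `c = k [x', m] k⁻¹` (`TriAux.Rel`), otherwise `c = m` or `c = g m`, `g ∈ S`.
-/

set_option autoImplicit false
set_option linter.unusedSectionVars false

namespace Cfsg.Agent.OddHalf.D7Ex.Tri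

open Cfsg.Agent.OddHalf.SL Cfsg.Agent.KFacts CoxeterSystem Cfsg.Agent.ChevalleyStructure.CoxeterGeom
  Cfsg.Agent.Tits.Roots Cfsg.Agent.Tits.Core
  Cfsg.Agent.Tits.RootComb Cfsg.Agent.Nodes.Comb Cfsg.Agent.Nodes.Reps Cfsg.Agent.Nodes.BNOf
  Cfsg.Agent.Nodes.Bruhat Cfsg.Agent.Nodes.Coroot Cfsg.Agent.OddHalf.SL.Index Cfsg.Agent.OddHalf.SL.OfRGD
  Cfsg.Agent.Nodes.StabComb Cfsg.Agent.Nodes.LeviDec Cfsg.Agent.Nodes.Sub Cfsg.Agent.Nodes.SubComb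
  Cfsg.Agent.OddHalf.D7Ex.KTwo Cfsg.Agent.OddHalf.D7Ex.TriComb Cfsg.Agent.OddHalf.D7Ex.TriAux
  Cfsg.Agent.OddHalf.D7Ex.TriGrp Cfsg.Agent.OddHalf.D7Ex.TriFix Cfsg.Agent.OddHalf.D7Ex.TriLevi
  Cfsg.Agent.OddHalf.D7Ex.GamAut
  Cfsg.Agent.OddHalf.D7Ex.KData Cfsg.Agent.KFacts.SLRow.Def
open scoped commutatorElement

/-- a Sylow `2`-subgroup `S` of `C(t)` and an element `m` of its normaliser -/
structure Syl {G : Type*} [Group G] (K U : Subgroup G) (t z : G) (S : Subgroup G) (m : G) : Prop where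
  US : U ≤ S
  SK : ∀ y ∈ S, y ∈ K → y ∈ U
  tS : t ∈ S
  St : ∀ y ∈ S, y * t = t * y
  Sz : ∀ y ∈ S, y * z = z * y
  mS : ∀ y, m * y * m⁻¹ ∈ S ↔ y ∈ S
  mt : m * t * m⁻¹ = t * z
  mz : m * z = z * m

variable {I J W G : Type*} [Fintype I] [DecidableEq I] [Fintype J] [DecidableEq J] [Group W] [Group G]
  {M : CoxeterMatrix I} {cs : CoxeterSystem M W} {A : I → I → ℤ} {h : IsCartan M A} {T : Subgroup G} {n : I → G}
  {X : (I → ℤ) → Subgroup G} {K : Subgroup G} {t : G}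

variable [Finite W] [Finite G] {f : J ↪ I} {j : I} {κ : J} {r : I → ℤ} (D : Datum K 2 cs h T n X)
  (C : Fl t K) (N : Nd cs h f j κ r) {P : Subgroup G} (HK : KR t (Bf A) {x | IsRoot cs h x} X r P T)
  (hP : P = Lv cs h X f ⊔ Qr cs h X r) {z zs : G} (hz : z ∈ X r) (hz1 : z ≠ 1) (hzs : zs ∈ X (r - sr j))
  (hzs1 : zs ≠ 1) {S : Subgroup G} {m : G}

/-- `g` centralises `z` and fixes `t` or moves it to `t z` -/
def Gd (t z g : G) : Prop := g * z = z * g ∧ (g * t * g⁻¹ = t ∨ g * t * g⁻¹ = t * z)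

include D N hz hz1

omit N in
theorem Gd.gX (hr : IsRoot cs h r) {g : G} (hg : Gd t z g) : ∀ x ∈ X r, g * x * g⁻¹ ∈ X r := by
  intro x hx
  by_cases hx1 : x = 1
  · rw [hx1, mul_one, mul_inv_cancel]; exact one_mem _
  · rw [eq_of_ne D hr hx hz hx1 hz1, fix hg.1]; exact hz

include HK in
omit D N hz1 in
theorem Gd.gt {g : G} (hg : Gd t z g) : t * (g * t * g⁻¹) ∈ X r := by
  rcases hg.2 with h1 | h1
  · rw [h1, HK.tt]; exact one_mem _
  · rw [h1, ← mul_assoc, HK.tt, one_mul]; exact hz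

include HK in
omit N in
theorem Gd.inv {g : G} (hg : Gd t z g) : Gd t z g⁻¹ := by
  have h1 : g⁻¹ * z = z * g⁻¹ := by
    rw [inv_mul_eq_iff_eq_mul, ← mul_assoc, hg.1, mul_inv_cancel_right]
  refine ⟨h1, ?_⟩
  rcases hg.2 with h2 | h2
  · exact Or.inl (inv_conj h2)
  · right
    have h3 := inv_conj h2
    rw [cm g⁻¹, fix h1] at h3
    have zz := pow_two_X D HK.hr hz
    calc g⁻¹ * t * g⁻¹⁻¹ = (g⁻¹ * t * g⁻¹⁻¹) * z * z := by rw [mul_assoc _ z z, zz, mul_one]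
      _ = t * z := by rw [h3]

include HK in
theorem Gd.gQ {g : G} (hg : Gd t z g) : ∀ q ∈ Qr cs h X r, g * q * g⁻¹ ∈ Qr cs h X r := fun _ hq =>
  HK.nQ1 (Gd.gX D hz hz1 N.hr hg) (Gd.gt HK hz hg) hq

include HK in
theorem Gd.gP {g : G} (hg : Gd t z g) : ∀ p ∈ P, g * p * g⁻¹ ∈ P :=
  HK.nP0 g (Gd.gX D hz hz1 N.hr hg) (Gd.gt HK hz hg)

include HK hP in
theorem Gd.act {g : G} (hg : Gd t z g) : Act (Lv cs h X f) (Qr cs h X r) g :=
  TriLevi.act D N HK hP (Gd.gX D hz hz1 N.hr hg) (Gd.gt HK hz hg)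

include hP in
omit hz hz1 in
theorem P_le_K : P ≤ K := by
  rw [hP]
  exact sup_le (RGD.Sup_le fun a ha => D.XK ha.1) (QS_le (D.XK N.hr) fun b hb => D.XK hb.1)

omit N hz hz1 in
theorem U_le_K : RGD.Sup X (RGD.Pos cs h) ≤ K := RGD.Sup_le fun _ ha => D.XK ha.1

include hP in
omit hz hz1 in
/-- `S ∩ P = U_J Q` -/
theorem SP (Y : Syl K (RGD.Sup X (RGD.Pos cs h)) t z S m) {y : G} (hy : y ∈ S) (hyP : y ∈ P) :
    y ∈ Uv cs h X f ⊔ Qr cs h X r :=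
  inf_U D N (Y.SK y hy (P_le_K D N hP hyP)) (by rw [← hP]; exact hyP)

include HK hP in
/-- an element normalising `S` normalises `U_J Q` -/
theorem norm_U1 (Y : Syl K (RGD.Sup X (RGD.Pos cs h)) t z S m) {g : G} (hg : Gd t z g)
    (gS : ∀ y ∈ S, g * y * g⁻¹ ∈ S) : ∀ x ∈ Uv cs h X f, g * x * g⁻¹ ∈ Uv cs h X f ⊔ Qr cs h X r := by
  intro x hx
  refine SP D N hP Y (gS x (Y.US (Uv_le_U hx))) (Gd.gP D N HK hz hz1 hg x ?_)
  rw [hP]
  exact Subgroup.mem_sup_left (Uv_le_Lv hx)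

omit D N hz hz1 in
theorem gd_S (Y : Syl K (RGD.Sup X (RGD.Pos cs h)) t z S m) {y : G} (hy : y ∈ S) : Gd t z y :=
  ⟨Y.Sz y hy, Or.inl (fix (Y.St y hy))⟩

omit D N hz hz1 in
theorem gd_m (Y : Syl K (RGD.Sup X (RGD.Pos cs h)) t z S m) : Gd t z m := ⟨Y.mz, Or.inr Y.mt⟩

include hzs hzs1 HK C in
theorem S_le_NE (Y : Syl K (RGD.Sup X (RGD.Pos cs h)) t z S m) : S ≤ NE z zs (pow_two_X D N.hr hz) := by
  intro y hy
  refine mem_NE_of D N hz hz1 hzs hzs1 (Y.Sz y hy) (Gd.gQ D N HK hz hz1 (gd_S Y hy)) fun u hu => ?_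
  refine U_le_NE D N hz hz1 hzs hzs1 (Y.SK _ (mul_mem (mul_mem (inv_mem hy) (Y.US hu)) hy) ?_)
  have h1 := C.nrm y⁻¹ (Y.St _ (inv_mem hy)) u (U_le_K D hu)
  rwa [inv_inv] at h1

omit D N hz hz1 in
theorem mS' (Y : Syl K (RGD.Sup X (RGD.Pos cs h)) t z S m) {y : G} (hy : y ∈ S) : m⁻¹ * y * m⁻¹⁻¹ ∈ S := by
  rw [← Y.mS]
  have e : m * (m⁻¹ * y * m⁻¹⁻¹) * m⁻¹ = y := by group
  rwa [e]

include hzs hzs1 HK C in
theorem m_mem_NE (Y : Syl K (RGD.Sup X (RGD.Pos cs h)) t z S m) : m ∈ NE z zs (pow_two_X D N.hr hz) := by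
  refine mem_NE_of D N hz hz1 hzs hzs1 Y.mz (Gd.gQ D N HK hz hz1 (gd_m Y)) fun u hu => ?_
  have h1 := mS' Y (Y.US hu)
  rw [inv_inv] at h1
  exact S_le_NE D C N HK hz hz1 hzs hzs1 Y h1

include hzs hzs1 in
/-- `PF i Q ≤ NE` for `i ≠ κ` -/
theorem PF_le_NE {i : J} (hi : i ≠ κ) : PF cs h X f i ⊔ Qr cs h X r ≤ NE z zs (pow_two_X D N.hr hz) :=
  sup_le (sup_le (Uv_le_U.trans (U_le_NE D N hz hz1 hzs hzs1)) (neg_le_NE D N hz hz1 hzs hzs1 hi))
    ((Q_le_U D N).trans (U_le_NE D N hz hz1 hzs hzs1))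

include hzs hzs1 in
/-- the permutation of an element of `NE` fixes `κ` -/
theorem sigma_kappa {g : G} (hg : g ∈ NE z zs (pow_two_X D N.hr hz)) {σ : Equiv.Perm J}
    (hσ : ∀ i, ∀ x ∈ PF cs h X f i, g * x * g⁻¹ ∈ PF cs h X f (σ i) ⊔ Qr cs h X r) : σ κ = κ := by
  by_contra hne
  obtain ⟨x, hx, hx1⟩ := exists_ne D.rgd (isRoot_sr cs h (f κ)).neg
  have h1 := PF_le_NE D N hz hz1 hzs hzs1 hne (hσ κ x (Subgroup.mem_sup_right hx))
  have h2 := mul_mem (mul_mem (inv_mem hg) h1) hg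
  have e : g⁻¹ * (g * x * g⁻¹) * g = x := by group
  rw [e] at h2
  exact kappa_not_NE D N hz hz1 hzs hzs1 hx hx1 h2

omit hz hz1 in
/-- the minimal parabolic subgroups are different -/
theorem eq_of_le {i k : J} (hik : ∀ x ∈ X (-sr (f i)), x ∈ PF cs h X f k ⊔ Qr cs h X r) : k = i := by
  have hA : Act (Lv cs h X f) (Qr cs h X r) 1 := by
    refine ⟨nQ D N, inf D N, fun q => by rw [one_mul, inv_one, mul_one], fun l hl => ⟨l, hl, 1, one_mem _, by group⟩⟩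
  obtain ⟨σ, -, h2, -⟩ := levi_sym D hA (fun x hx => by
    rw [one_mul, inv_one, mul_one]; exact Subgroup.mem_sup_left hx)
  have e1 := h2 i k fun x hx => by rw [one_mul, inv_one, mul_one]; exact hik x hx
  have e2 := h2 i i fun x hx => by
    rw [one_mul, inv_one, mul_one]
    exact Subgroup.mem_sup_left (Subgroup.mem_sup_right hx)
  rw [← e1, e2]

/-! ### The clean case -/

/-- the centraliser of `z'` in `S` -/
def SE (S : Subgroup G) (zs : G) : Subgroup G := S ⊓ Subgroup.centralizer ({zs} : Set G)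

omit D N hz hz1 [Finite G] in
theorem mem_SE {y : G} : y ∈ SE S zs ↔ y ∈ S ∧ y * zs = zs * y := by
  unfold SE
  rw [Subgroup.mem_inf, Subgroup.mem_centralizer_singleton_iff]

section Clean

variable (Y : Syl K (RGD.Sup X (RGD.Pos cs h)) t z S m)
  (hcl : ∀ y ∈ S, y ∈ RGD.Sup X (RGD.Pos cs h) ∨ y * t ∈ RGD.Sup X (RGD.Pos cs h))

include hzs hzs1 C

include Y hcl in
theorem mem_SE_iff {y : G} : y ∈ SE S zs ↔ y ∈ V1 cs h X j ∨ y * t ∈ V1 cs h X j := by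
  have hzsK : zs ∈ K := D.XK (hs D.h4 D.h6 N) hzs
  have hts : t * zs = zs * t := C.Kt zs hzsK
  obtain ⟨x0, hx0, hx1⟩ := exists_ne D.rgd (isRoot_sr cs h j)
  have key : ∀ y ∈ RGD.Sup X (RGD.Pos cs h), y * zs = zs * y → y ∈ V1 cs h X j := by
    intro y hy hyz
    rcases mem_U D hx0 hx1 hy with h1 | h1
    · exact h1
    · exfalso
      have h2 := V1_s D N h1 hzs
      have h3 : x0 * zs = zs * x0 := by
        have : y * (x0 * zs) = y * (zs * x0) := by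
          calc y * (x0 * zs) = y * x0 * zs := by group
            _ = zs * (y * x0) := h2
            _ = (zs * y) * x0 := by group
            _ = y * (zs * x0) := by rw [← hyz]; group
        exact mul_left_cancel this
      have h4 := rel_os D N hx0 hx1 hz hz1 hzs hzs1
      rw [fix h3] at h4
      exact hz1 (mul_eq_left.1 h4.symm)
  rw [mem_SE]
  constructor
  · rintro ⟨hy, hyz⟩
    rcases hcl y hy with h1 | h1
    · exact Or.inl (key y h1 hyz)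
    · right
      refine key _ h1 ?_
      rw [mul_assoc, hts, ← mul_assoc, hyz, mul_assoc]
  · rintro (h1 | h1)
    · exact ⟨Y.US (V1_le_U h1), V1_s D N h1 hzs⟩
    · have h2 : y = y * t * t⁻¹ := by group
      have h3 : t ∈ SE S zs := mem_SE.2 ⟨Y.tS, hts⟩
      have h4 : y * t ∈ SE S zs := mem_SE.2 ⟨Y.US (V1_le_U h1), V1_s D N h1 hzs⟩
      rw [← mem_SE, h2]
      exact mul_mem h4 (inv_mem h3)

include Y hcl in
/-- `X (± j)` normalises `S_E` -/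
theorem conj_SE {a : I → ℤ} (ha : a = sr j ∨ a = -sr j) {x y : G} (hx : x ∈ X a) (hy : y ∈ SE S zs) :
    x * y * x⁻¹ ∈ SE S zs := by
  have har : IsRoot cs h a := by
    rcases ha with rfl | rfl
    · exact isRoot_sr cs h j
    · exact (isRoot_sr cs h j).neg
  have htx : t * x = x * t := C.Kt x (D.XK har hx)
  have htx' : x⁻¹ * t = t * x⁻¹ := by
    rw [inv_mul_eq_iff_eq_mul, ← mul_assoc, ← htx, mul_inv_cancel_right]
  rw [mem_SE_iff D C N hz hz1 hzs hzs1 Y hcl] at hy ⊢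
  rcases hy with hy | hy
  · exact Or.inl (conj_V1 D ha hx hy)
  · right
    have h1 := conj_V1 D ha hx hy
    have e : x * (y * t) * x⁻¹ = x * y * x⁻¹ * t := by
      calc x * (y * t) * x⁻¹ = x * y * (t * x⁻¹) := by group
        _ = x * y * (x⁻¹ * t) := by rw [htx']
        _ = _ := by group
    rwa [e] at h1

/-- `M_i` -/
def Mi (X : (I → ℤ) → Subgroup G) (f : J ↪ I) (S : Subgroup G) (zs : G) (i : J) : Subgroup G :=
  SE S zs ⊔ X (-sr (f i))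

include Y hcl in
theorem conj_Mi {i : J} (hi : i ≠ κ) {a : I → ℤ} (ha : a = sr j ∨ a = -sr j) {x y : G} (hx : x ∈ X a)
    (hy : y ∈ Mi X f S zs i) : x * y * x⁻¹ ∈ Mi X f S zs i := by
  have hle : Mi X f S zs i ≤ (Mi X f S zs i).comap (MulAut.conj x).toMonoidHom := by
    refine sup_le (fun y hy => ?_) fun y hy => ?_
    · exact Subgroup.mem_sup_left (conj_SE D C N hz hz1 hzs hzs1 Y hcl ha hx hy)
    · show x * y * x⁻¹ ∈ Mi X f S zs i
      rw [← neg_j D N hi ha hy hx, mul_inv_cancel_right]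
      exact Subgroup.mem_sup_right hy
  exact hle hy

omit C hzs1 hz hz1 in
theorem Mi_zs {i : J} (hi : i ≠ κ) {y : G} (hy : y ∈ Mi X f S zs i) : y * zs = zs * y := by
  have hle : Mi X f S zs i ≤ Subgroup.centralizer ({zs} : Set G) :=
    sup_le inf_le_right fun x hx => by
      rw [Subgroup.mem_centralizer_singleton_iff]; exact neg_s D N hi hx hzs
  exact Subgroup.mem_centralizer_singleton_iff.1 (hle hy)

include Y hcl in
/-- `PF i Q ∩ C(z') ≤ M_i` -/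
theorem PF_inf {i : J} (hi : i ≠ κ) {y : G} (hy : y ∈ PF cs h X f i ⊔ Qr cs h X r) (hyz : y * zs = zs * y) :
    y ∈ Mi X f S zs i := by
  obtain ⟨x0, hx0, hx1⟩ := exists_ne D.rgd (isRoot_sr cs h j)
  have hV : V1 cs h X j ≤ Mi X f S zs i := fun y hy =>
    Subgroup.mem_sup_left ((mem_SE_iff D C N hz hz1 hzs hzs1 Y hcl).2 (Or.inl hy))
  have hU : RGD.Sup X (RGD.Pos cs h) ≤ Two (Mi X f S zs i) x0 (pow_two_X D (isRoot_sr cs h j) hx0)
      (fun y hy => conj_Mi D C N hz hz1 hzs hzs1 Y hcl hi (Or.inl rfl) hx0 hy) := by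
    intro y hy
    rcases mem_U D hx0 hx1 hy with h1 | h1
    · exact Or.inl (hV h1)
    · exact Or.inr (hV h1)
  have hle : PF cs h X f i ⊔ Qr cs h X r ≤ Two (Mi X f S zs i) x0 (pow_two_X D (isRoot_sr cs h j) hx0)
      (fun y hy => conj_Mi D C N hz hz1 hzs hzs1 Y hcl hi (Or.inl rfl) hx0 hy) :=
    sup_le (sup_le (Uv_le_U.trans hU) (le_sup_right.trans le_Two)) ((Q_le_U D N).trans hU)
  rcases hle hy with h1 | h1
  · exact h1
  · exfalso
    have h2 := Mi_zs D N hzs hi h1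
    have h3 : x0 * zs = zs * x0 := by
      have : y * (x0 * zs) = y * (zs * x0) := by
        calc y * (x0 * zs) = y * x0 * zs := by group
          _ = zs * (y * x0) := h2
          _ = (zs * y) * x0 := by group
          _ = y * (zs * x0) := by rw [← hyz]; group
      exact mul_left_cancel this
    have h4 := rel_os D N hx0 hx1 hz hz1 hzs hzs1
    rw [fix h3] at h4
    exact hz1 (mul_eq_left.1 h4.symm)

include Y hcl hP in
/-- `M_i ∩ P ≤ PF i Q` -/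
theorem Mi_inf {i : J} {y : G} (hy : y ∈ Mi X f S zs i) (hyP : y ∈ P) :
    y ∈ PF cs h X f i ⊔ Qr cs h X r := by
  have hFK : RGD.Sup X (RGD.Pos cs h) ⊔ X (-sr (f i)) ≤ K :=
    sup_le (U_le_K D) (D.XK (isRoot_sr cs h (f i)).neg)
  have hn : ∀ y ∈ RGD.Sup X (RGD.Pos cs h) ⊔ X (-sr (f i)),
      t * y * t⁻¹ ∈ RGD.Sup X (RGD.Pos cs h) ⊔ X (-sr (f i)) := by
    intro y hy
    rw [fix (C.Kt y (hFK hy))]; exact hy
  have hle : Mi X f S zs i ≤ Two (RGD.Sup X (RGD.Pos cs h) ⊔ X (-sr (f i))) t C.tt hn := by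
    refine sup_le (fun y hy => ?_) (le_sup_right.trans le_Two)
    rcases (mem_SE_iff D C N hz hz1 hzs hzs1 Y hcl).1 hy with h1 | h1
    · exact Or.inl (Subgroup.mem_sup_left (V1_le_U h1))
    · exact Or.inr (Subgroup.mem_sup_left (V1_le_U h1))
  rcases hle hy with h1 | h1
  · exact inf_F D N h1 (by rw [← hP]; exact hyP)
  · exfalso
    apply C.tK
    have h2 := mul_mem (inv_mem (P_le_K D N hP hyP)) (hFK h1)
    rwa [inv_mul_cancel_left] at h2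

/-- **The clean case.** -/
theorem exists_clean (HK : KR t (Bf A) {x | IsRoot cs h x} X r P T) (hP : P = Lv cs h X f ⊔ Qr cs h X r)
    (Y : Syl K (RGD.Sup X (RGD.Pos cs h)) t z S m)
    (hcl : ∀ y ∈ S, y ∈ RGD.Sup X (RGD.Pos cs h) ∨ y * t ∈ RGD.Sup X (RGD.Pos cs h)) (ms : m * zs = zs * m) :
    ∃ c, c * t * c⁻¹ = t * z ∧ c * z = z * c ∧ (∀ x ∈ Uv cs h X f, c * x * c⁻¹ ∈ Uv cs h X f ⊔ Qr cs h X r) ∧
      ∀ i, i ≠ κ → ∀ x ∈ X (-sr (f i)), c * x * c⁻¹ ∈ PF cs h X f i ⊔ Qr cs h X r := by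
  obtain ⟨x0, hx0, hx01⟩ := exists_ne D.rgd (isRoot_sr cs h j)
  obtain ⟨x', hx', hx'1⟩ := exists_ne D.rgd (isRoot_sr cs h j).neg
  have R := rel D N (m := m) C.Kt Y.mz ms Y.mt hx' hx'1 hx0 hx01 hz hz1 hzs hzs1
  have hm : Gd t z m := gd_m Y
  have hm' := Gd.inv D HK hz hz1 hm
  have ms' : m⁻¹ * zs = zs * m⁻¹ := by
    rw [inv_mul_eq_iff_eq_mul, ← mul_assoc, ms, mul_inv_cancel_right]
  -- the permutations of `m` and `m⁻¹`
  obtain ⟨σ, hσ, -, -⟩ := levi_sym D (Gd.act D N HK hP hz hz1 hm)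
    (norm_U1 D N HK hP hz hz1 Y hm fun y hy => (Y.mS y).2 hy)
  obtain ⟨τ, hτ, -, -⟩ := levi_sym D (Gd.act D N HK hP hz hz1 hm')
    (norm_U1 D N HK hP hz hz1 Y hm' fun y hy => mS' Y hy)
  have hmN := m_mem_NE D C N HK hz hz1 hzs hzs1 Y
  have hσκ := sigma_kappa D N hz hz1 hzs hzs1 hmN hσ
  have hτκ := sigma_kappa D N hz hz1 hzs hzs1 (inv_mem hmN) hτ
  have hστ : ∀ i, σ (τ i) = i := by
    intro i
    refine eq_of_le D N fun x hx => ?_
    have h1 := hτ i x (Subgroup.mem_sup_right hx)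
    have hle : PF cs h X f (τ i) ⊔ Qr cs h X r ≤
        (PF cs h X f (σ (τ i)) ⊔ Qr cs h X r).comap (MulAut.conj m).toMonoidHom :=
      sup_le (hσ (τ i)) fun q hq => Subgroup.mem_sup_right (Gd.gQ D N HK hz hz1 hm q hq)
    have h2 : m * (m⁻¹ * x * m⁻¹⁻¹) * m⁻¹ ∈ PF cs h X f (σ (τ i)) ⊔ Qr cs h X r := hle h1
    have e : m * (m⁻¹ * x * m⁻¹⁻¹) * m⁻¹ = x := by group
    rwa [e] at h2
  -- `S_E` and `M_i`
  have SEm : ∀ y ∈ SE S zs, m * y * m⁻¹ ∈ SE S zs := by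
    intro y hy
    rw [mem_SE] at hy ⊢
    refine ⟨(Y.mS y).2 hy.1, ?_⟩
    calc m * y * m⁻¹ * zs = m * y * (m⁻¹ * zs) := by group
      _ = m * (y * zs) * m⁻¹ := by rw [ms']; group
      _ = (m * zs) * y * m⁻¹ := by rw [hy.2]; group
      _ = zs * (m * y * m⁻¹) := by rw [ms]; group
  have SEm' : ∀ y ∈ SE S zs, m⁻¹ * y * m⁻¹⁻¹ ∈ SE S zs := by
    intro y hy
    rw [mem_SE] at hy ⊢
    refine ⟨mS' Y hy.1, ?_⟩
    calc m⁻¹ * y * m⁻¹⁻¹ * zs = m⁻¹ * y * (m * zs) := by group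
      _ = m⁻¹ * (y * zs) * m := by rw [ms]; group
      _ = (m⁻¹ * zs) * y * m := by rw [hy.2]; group
      _ = zs * (m⁻¹ * y * m⁻¹⁻¹) := by rw [ms']; group
  have Mm : ∀ i, i ≠ κ → ∀ y ∈ Mi X f S zs i, m * y * m⁻¹ ∈ Mi X f S zs (σ i) := by
    intro i hi y hy
    have hi' : σ i ≠ κ := fun e => hi (σ.injective (e.trans hσκ.symm))
    have hle : Mi X f S zs i ≤ (Mi X f S zs (σ i)).comap (MulAut.conj m).toMonoidHom := by
      refine sup_le (fun y hy => Subgroup.mem_sup_left (SEm y hy)) fun x hx => ?_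
      refine PF_inf D C N hz hz1 hzs hzs1 Y hcl hi' (hσ i x (Subgroup.mem_sup_right hx)) ?_
      calc m * x * m⁻¹ * zs = m * x * (m⁻¹ * zs) := by group
        _ = m * (x * zs) * m⁻¹ := by rw [ms']; group
        _ = (m * zs) * x * m⁻¹ := by rw [neg_s D N hi hx hzs]; group
        _ = zs * (m * x * m⁻¹) := by rw [ms]; group
    exact hle hy
  have Mm' : ∀ i, i ≠ κ → ∀ y ∈ Mi X f S zs i, m⁻¹ * y * m⁻¹⁻¹ ∈ Mi X f S zs (τ i) := by
    intro i hi y hy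
    have hi' : τ i ≠ κ := fun e => hi (τ.injective (e.trans hτκ.symm))
    have hle : Mi X f S zs i ≤ (Mi X f S zs (τ i)).comap (MulAut.conj m⁻¹).toMonoidHom := by
      refine sup_le (fun y hy => Subgroup.mem_sup_left (SEm' y hy)) fun x hx => ?_
      refine PF_inf D C N hz hz1 hzs hzs1 Y hcl hi' (hτ i x (Subgroup.mem_sup_right hx)) ?_
      calc m⁻¹ * x * m⁻¹⁻¹ * zs = m⁻¹ * x * (m * zs) := by group
        _ = m⁻¹ * (x * zs) * m := by rw [ms]; group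
        _ = (m⁻¹ * zs) * x * m := by rw [neg_s D N hi hx hzs]; group
        _ = zs * (m⁻¹ * x * m⁻¹⁻¹) := by rw [ms']; group
    exact hle hy
  -- conjugation by `k` and `x'`
  have kinv : (x' * x0 * x')⁻¹ = x' * x0 * x' := R.k_inv
  have kc : ∀ H : Subgroup G, (∀ y ∈ H, x' * y * x'⁻¹ ∈ H) → (∀ y ∈ H, x0 * y * x0⁻¹ ∈ H) → ∀ y ∈ H,
      (x' * x0 * x') * y * (x' * x0 * x')⁻¹ ∈ H := by
    intro H h1 h2 y hy
    rw [cc, cc]
    exact h1 _ (h2 _ (h1 _ hy))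
  have kc' : ∀ H : Subgroup G, (∀ y ∈ H, x' * y * x'⁻¹ ∈ H) → (∀ y ∈ H, x0 * y * x0⁻¹ ∈ H) → ∀ y ∈ H,
      (x' * x0 * x')⁻¹ * y * (x' * x0 * x')⁻¹⁻¹ ∈ H := by
    intro H h1 h2 y hy
    have := kc H h1 h2 y hy
    rw [kinv]
    exact this
  refine ⟨(x' * x0 * x') * (x' * m * x'⁻¹ * m⁻¹) * (x' * x0 * x')⁻¹, R.trick_t, cof R.trick_z, ?_, ?_⟩
  · intro x hx
    have hxS : x ∈ SE S zs := (mem_SE_iff D C N hz hz1 hzs hzs1 Y hcl).2 (Or.inl (Uv_le_V1 D N hx))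
    have j1 : ∀ y ∈ SE S zs, x' * y * x'⁻¹ ∈ SE S zs := fun y hy =>
      conj_SE D C N hz hz1 hzs hzs1 Y hcl (Or.inr rfl) hx' hy
    have j0 : ∀ y ∈ SE S zs, x0 * y * x0⁻¹ ∈ SE S zs := fun y hy =>
      conj_SE D C N hz hz1 hzs hzs1 Y hcl (Or.inl rfl) hx0 hy
    have h1 : (x' * x0 * x') * (x' * m * x'⁻¹ * m⁻¹) * (x' * x0 * x')⁻¹ * x *
        ((x' * x0 * x') * (x' * m * x'⁻¹ * m⁻¹) * (x' * x0 * x')⁻¹)⁻¹ ∈ SE S zs := by
      rw [cc, cc]
      refine kc _ j1 j0 _ ?_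
      rw [cc, cc, cc, R.p_conj]
      exact j1 _ (SEm _ (j1 _ (SEm' _ (kc' _ j1 j0 _ hxS))))
    refine SP D N hP Y (mem_SE.1 h1).1 (Gd.gP D N HK hz hz1 ⟨cof R.trick_z, Or.inr R.trick_t⟩ x ?_)
    rw [hP]; exact Subgroup.mem_sup_left (Uv_le_Lv hx)
  · intro i hi x hx
    have hxM : x ∈ Mi X f S zs i := Subgroup.mem_sup_right hx
    have j1 : ∀ i, i ≠ κ → ∀ y ∈ Mi X f S zs i, x' * y * x'⁻¹ ∈ Mi X f S zs i := fun i hi y hy =>
      conj_Mi D C N hz hz1 hzs hzs1 Y hcl hi (Or.inr rfl) hx' hy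
    have j0 : ∀ i, i ≠ κ → ∀ y ∈ Mi X f S zs i, x0 * y * x0⁻¹ ∈ Mi X f S zs i := fun i hi y hy =>
      conj_Mi D C N hz hz1 hzs hzs1 Y hcl hi (Or.inl rfl) hx0 hy
    have hi' : τ i ≠ κ := fun e => hi (τ.injective (e.trans hτκ.symm))
    have h1 : (x' * x0 * x') * (x' * m * x'⁻¹ * m⁻¹) * (x' * x0 * x')⁻¹ * x *
        ((x' * x0 * x') * (x' * m * x'⁻¹ * m⁻¹) * (x' * x0 * x')⁻¹)⁻¹ ∈ Mi X f S zs i := by
      rw [cc, cc]
      refine kc _ (j1 i hi) (j0 i hi) _ ?_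
      rw [cc, cc, cc, R.p_conj]
      refine j1 i hi _ ?_
      have h2 := Mm (τ i) hi' _ (j1 (τ i) hi' _ (Mm' i hi _ (kc' _ (j1 i hi) (j0 i hi) _ hxM)))
      rwa [hστ] at h2
    refine Mi_inf D C N hP hz hz1 hzs hzs1 Y hcl h1 (Gd.gP D N HK hz hz1 ⟨cof R.trick_z, Or.inr R.trick_t⟩ x ?_)
    rw [hP]
    exact Subgroup.mem_sup_left (PF_le i (Subgroup.mem_sup_right hx))

end Clean

/-! ### Outer elements -/

include hzs hzs1 C in
/-- an element of `S` outside `⟨t⟩ U` induces a nontrivial permutation of the diagram of `L` -/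
theorem outer_ne_one (HK : KR t (Bf A) {x | IsRoot cs h x} X r P T) (hP : P = Lv cs h X f ⊔ Qr cs h X r)
    (hrest : ∀ b b', b ≠ j → (∀ i, f i ≠ b) → b' ≠ j → (∀ i, f i ≠ b') → b = b')
    (Y : Syl K (RGD.Sup X (RGD.Pos cs h)) t z S m) {g : G} (hg : g ∈ S)
    (h1 : g ∉ RGD.Sup X (RGD.Pos cs h)) (h2 : g * t ∉ RGD.Sup X (RGD.Pos cs h))
    (hσ : ∀ i, ∀ x ∈ X (-sr (f i)), g * x * g⁻¹ ∈ PF cs h X f i ⊔ Qr cs h X r) : False := by
  have hgK : ∀ k ∈ K, g * k * g⁻¹ ∈ K := fun k hk => C.nrm g (Y.St g hg) k hk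
  have hgU : ∀ x ∈ RGD.Sup X (RGD.Pos cs h), g * x * g⁻¹ ∈ RGD.Sup X (RGD.Pos cs h) := fun x hx =>
    Y.SK _ (mul_mem (mul_mem hg (Y.US hx)) (inv_mem hg)) (hgK x (U_le_K D hx))
  obtain ⟨τ, hτ1, hτ2, -⟩ := K_sym D hgK hgU
  have hf : ∀ i, τ (f i) = f i := by
    intro i
    refine hτ2 _ _ fun x hx => ?_
    exact (sup_le (sup_le_sup_right Uv_le_U _) ((Q_le_U D N).trans le_sup_left) :
      PF cs h X f i ⊔ Qr cs h X r ≤ RGD.Sup X (RGD.Pos cs h) ⊔ X (-sr (f i))) (hσ i x hx)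
  have hj : τ j = j := by
    by_contra hne
    obtain ⟨x', hx', hx'1⟩ := exists_ne D.rgd (isRoot_sr cs h j).neg
    have h3 := hτ1 j x' (Subgroup.mem_sup_right hx')
    have hle : RGD.Sup X (RGD.Pos cs h) ⊔ X (-sr (τ j)) ≤ Subgroup.centralizer ({z} : Set G) := by
      refine sup_le (fun y hy => ?_) fun y hy => ?_
      · rw [Subgroup.mem_centralizer_singleton_iff]; exact U_r D N hy hz
      · rw [Subgroup.mem_centralizer_singleton_iff]
        exact (rg D).pos _ (isRoot_sr cs h _).neg _ N.hr (by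
          rw [(roots cs h D.h4 D.h6).neg_left, N.di _ hne, neg_zero]) y hy z hz
    have h4 := Subgroup.mem_centralizer_singleton_iff.1 (hle h3)
    have h5 := Y.Sz g hg
    have h6 : x' * z = z * x' := by
      have h7 : g⁻¹ * z = z * g⁻¹ := by
        rw [inv_mul_eq_iff_eq_mul, ← mul_assoc, h5, mul_inv_cancel_right]
      calc x' * z = g⁻¹ * (g * x' * g⁻¹) * (g * z) := by group
        _ = g⁻¹ * ((g * x' * g⁻¹) * z) * g := by rw [h5]; group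
        _ = (g⁻¹ * z) * g * x' * g⁻¹ * g := by rw [h4]; group
        _ = z * x' := by rw [h7]; group
    have h7 := rel_pz D N hx' hx'1 hz hz1 hzs hzs1
    rw [fix h6] at h7
    exact hzs1 (mul_eq_right.1 h7.symm)
  have hτ : ∀ b, τ b = b := by
    intro b
    by_cases hb1 : ∃ i, f i = b
    · obtain ⟨i, rfl⟩ := hb1; exact hf i
    by_cases hb2 : b = j
    · rw [hb2, hj]
    push Not at hb1
    by_contra hne
    have hb3 : τ b ≠ j := fun e => hb2 (τ.injective (e.trans hj.symm))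
    have hb4 : ∀ i, f i ≠ τ b := fun i e => hb1 i (τ.injective ((hf i).trans e))
    exact hne (hrest _ _ hb3 hb4 hb2 hb1)
  obtain ⟨u, hu, e⟩ := K_inner D hgK hgU fun i x hx => by
    have := hτ1 i x (Subgroup.mem_sup_right hx)
    rwa [hτ i] at this
  have huK := U_le_K D hu
  have hut : t * u = u * t := C.Kt u huK
  have hut' : u⁻¹ * t = t * u⁻¹ := by
    rw [inv_mul_eq_iff_eq_mul, ← mul_assoc, ← hut, mul_inv_cancel_right]
  rcases C.cK (u⁻¹ * g) (by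
    rw [mul_assoc, Y.St g hg, ← mul_assoc, hut', mul_assoc]) (fun l hl => by
    have e1 := e l hl
    calc u⁻¹ * g * l = u⁻¹ * (g * l * g⁻¹) * g := by group
      _ = l * (u⁻¹ * g) := by rw [e1]; group) with h3 | h3
  · apply h1
    have : g = u := (inv_mul_eq_one.1 h3).symm
    rw [this]; exact hu
  · apply h2
    have : g = u * t := by rw [← h3]; group
    rw [this, mul_assoc, C.tt, mul_one]; exact hu

include hzs hzs1 C in
/-- an element `m` of the normaliser of `S` centralising `z'` -/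
theorem exists_adj (HK : KR t (Bf A) {x | IsRoot cs h x} X r P T)
    (Y : Syl K (RGD.Sup X (RGD.Pos cs h)) t z S m) : ∃ m', Syl K (RGD.Sup X (RGD.Pos cs h)) t z S m' ∧
      m' * zs = zs * m' := by
  rcases (mem_NE.1 (m_mem_NE D C N HK hz hz1 hzs hzs1 Y)).2 with h1 | h1
  · exact ⟨m, Y, cof h1⟩
  · obtain ⟨x0, hx0, hx1⟩ := exists_ne D.rgd (isRoot_sr cs h j)
    have hx0S : x0 ∈ S := Y.US (X_le_U (isRoot_sr cs h j) (sr_nonneg j) hx0)
    refine ⟨m * x0, ⟨Y.US, Y.SK, Y.tS, Y.St, Y.Sz, fun y => ?_, ?_, ?_⟩, cof ?_⟩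
    · rw [cc, Y.mS]
      constructor
      · intro h2
        have := mul_mem (mul_mem (inv_mem hx0S) h2) hx0S
        have e : x0⁻¹ * (x0 * y * x0⁻¹) * x0 = y := by group
        rwa [e] at this
      · exact fun h2 => mul_mem (mul_mem hx0S h2) (inv_mem hx0S)
    · rw [cc, fix (Y.St x0 hx0S), Y.mt]
    · rw [mul_assoc, Y.Sz x0 hx0S, ← mul_assoc, Y.mz, mul_assoc]
    · rw [cc, rel_os D N hx0 hx1 hz hz1 hzs hzs1, cm m, h1, fix Y.mz, mul_assoc, pow_two_X D N.hr hz, mul_one]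

include C in
/-- **The action on `L Q / Q`.** -/
theorem exists_inner (HK : KR t (Bf A) {x | IsRoot cs h x} X r P T) (hP : P = Lv cs h X f ⊔ Qr cs h X r)
    (hrest : ∀ b b', b ≠ j → (∀ i, f i ≠ b) → b' ≠ j → (∀ i, f i ≠ b') → b = b')
    (haut : ∀ σ τ : Equiv.Perm J, (∀ i k, M (f (σ i)) (f (σ k)) = M (f i) (f k)) → σ κ = κ →
      (∀ i k, M (f (τ i)) (f (τ k)) = M (f i) (f k)) → τ κ = κ → σ ≠ 1 → τ ≠ 1 → σ = τ)
    (Y : Syl K (RGD.Sup X (RGD.Pos cs h)) t z S m) :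
    ∃ c, c * t * c⁻¹ = t * z ∧ c * z = z * c ∧
      ∃ u ∈ Uv cs h X f, ∀ l ∈ Lv cs h X f, ∃ q ∈ Qr cs h X r, c * l * c⁻¹ = (u * l * u⁻¹) * q := by
  obtain ⟨zs, hzs, hzs1⟩ := exists_ne D.rgd (hs D.h4 D.h6 N)
  obtain ⟨m, Y, ms⟩ := exists_adj D C N hz hz1 hzs hzs1 HK Y
  have hm : Gd t z m := gd_m Y
  have hmN := m_mem_NE D C N HK hz hz1 hzs hzs1 Y
  have hmU := norm_U1 D N HK hP hz hz1 Y hm fun y hy => (Y.mS y).2 hy
  obtain ⟨σ, hσ, hσ2, hσM⟩ := levi_sym D (Gd.act D N HK hP hz hz1 hm) hmU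
  have hσκ := sigma_kappa D N hz hz1 hzs hzs1 hmN hσ
  -- the end
  have fin : ∀ c, c * t * c⁻¹ = t * z → c * z = z * c →
      (∀ x ∈ Uv cs h X f, c * x * c⁻¹ ∈ Uv cs h X f ⊔ Qr cs h X r) →
      (∀ i, ∀ x ∈ X (-sr (f i)), c * x * c⁻¹ ∈ PF cs h X f i ⊔ Qr cs h X r) →
      ∃ c, c * t * c⁻¹ = t * z ∧ c * z = z * c ∧
      ∃ u ∈ Uv cs h X f, ∀ l ∈ Lv cs h X f, ∃ q ∈ Qr cs h X r, c * l * c⁻¹ = (u * l * u⁻¹) * q := by
    intro c ct cz cU cP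
    exact ⟨c, ct, cz, levi_inner D (Gd.act D N HK hP hz hz1 ⟨cz, Or.inr ct⟩) cU cP⟩
  by_cases hσ1 : σ = 1
  · refine fin m Y.mt Y.mz hmU fun i x hx => ?_
    have := hσ i x (Subgroup.mem_sup_right hx)
    rwa [hσ1] at this
  by_cases hcl : ∀ y ∈ S, y ∈ RGD.Sup X (RGD.Pos cs h) ∨ y * t ∈ RGD.Sup X (RGD.Pos cs h)
  · obtain ⟨c, ct, cz, cU, cP⟩ := exists_clean D C N hz hz1 hzs hzs1 HK hP Y hcl ms
    obtain ⟨τ, hτ, hτ2, -⟩ := levi_sym D (Gd.act D N HK hP hz hz1 ⟨cz, Or.inr ct⟩) cU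
    have h1 : ∀ i, i ≠ κ → τ i = i := fun i hi => hτ2 i i (cP i hi)
    have h2 : τ κ = κ := by
      by_contra hne
      exact hne (τ.injective (h1 _ hne))
    refine fin c ct cz cU fun i x hx => ?_
    by_cases hi : i = κ
    · rw [hi] at hx ⊢
      have := hτ κ x (Subgroup.mem_sup_right hx)
      rwa [h2] at this
    · exact cP i hi x hx
  · push Not at hcl
    obtain ⟨g, hg, hg1, hg2⟩ := hcl
    have hgd : Gd t z g := gd_S Y hg
    have hgU := norm_U1 D N HK hP hz hz1 Y hgd fun y hy => mul_mem (mul_mem hg hy) (inv_mem hg)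
    obtain ⟨τ, hτ, hτ2, hτM⟩ := levi_sym D (Gd.act D N HK hP hz hz1 hgd) hgU
    have hτκ := sigma_kappa D N hz hz1 hzs hzs1 (S_le_NE D C N HK hz hz1 hzs hzs1 Y hg) hτ
    have hτ1 : τ ≠ 1 := by
      intro e
      refine outer_ne_one D C N hz hz1 hzs hzs1 HK hP hrest Y hg hg1 hg2 fun i x hx => ?_
      have := hτ i x (Subgroup.mem_sup_right hx)
      rwa [e] at this
    have e : τ = σ⁻¹ := by
      refine haut τ σ⁻¹ hτM hτκ (fun i k => ?_) ?_ hτ1 fun e => hσ1 (inv_eq_one.1 e)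
      · have := hσM (σ⁻¹ i) (σ⁻¹ k)
        have e1 : ∀ i, σ (σ⁻¹ i) = i := σ.apply_symm_apply
        rw [e1, e1] at this
        exact this.symm
      · rw [Equiv.Perm.inv_eq_iff_eq]; exact hσκ.symm
    refine fin (g * m) ?_ ?_ (fun x hx => ?_) fun i x hx => ?_
    · rw [cc, Y.mt, cm g, fix (Y.St g hg), fix (Y.Sz g hg)]
    · rw [mul_assoc, Y.mz, ← mul_assoc, Y.Sz g hg, mul_assoc]
    · rw [cc]
      have hle : Uv cs h X f ⊔ Qr cs h X r ≤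
          (Uv cs h X f ⊔ Qr cs h X r).comap (MulAut.conj g).toMonoidHom :=
        sup_le hgU fun q hq => Subgroup.mem_sup_right (Gd.gQ D N HK hz hz1 hgd q hq)
      exact hle (hmU x hx)
    · rw [cc]
      have hle : PF cs h X f (σ i) ⊔ Qr cs h X r ≤
          (PF cs h X f (τ (σ i)) ⊔ Qr cs h X r).comap (MulAut.conj g).toMonoidHom :=
        sup_le (hτ (σ i)) fun q hq => Subgroup.mem_sup_right (Gd.gQ D N HK hz hz1 hgd q hq)
      have h1 : g * (m * x * m⁻¹) * g⁻¹ ∈ PF cs h X f (τ (σ i)) ⊔ Qr cs h X r :=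
        hle (hσ i x (Subgroup.mem_sup_right hx))
      have e1 : τ (σ i) = i := by
        rw [e]; exact σ.symm_apply_apply i
      rwa [e1] at h1

end Cfsg.Agent.OddHalf.D7Ex.Tri

end
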